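import Mathlib
import Cfsg.Agent.Lib.TensorOdd.Data
import Cfsg.Agent.Lib.TensorOdd.Slices
import Cfsg.Agent.Lib.TensorWreathMax.Power

/-!
An orthogonal space identified with a tensor power of a space of odd dimension: operators of the factors,
permutations of the factors, the standard power, and the decompositions obtained by splitting off a factor.
-/

set_option autoImplicit false
set_option linter.unusedSectionVars false

namespace CfsgLib.TensorPowOdd

open Matrix QuadraticMap CfsgLib.Orth CfsgLib.TensorOdd CfsgLib.Maximal.TensorPower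
open CfsgLib.TensorWreathMax (permM permM_mulVec)

variable {F : Type*} [Field F] [Fintype F] {k : ℕ}

/-- The coordinates of a tensor power. -/
def ix (k t : ℕ) : (Fin t → Fin k) ≃ Fin (k ^ t) := finFunctionFinEquiv

/-- A pure tensor in numbered coordinates. -/
def tvR {t : ℕ} (ys : Fin t → Fin k → F) : Fin (k ^ t) → F := fun j => tp ys ((ix k t).symm j)

/-- The quadratic form of a tensor power. -/
noncomputable def pf (q1 : QuadraticForm F (Fin k → F)) (t : ℕ) : QuadraticForm F (Fin (k ^ t) → F) :=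
  LinearMap.BilinMap.toQuadraticMap (Matrix.toLinearMap₂' F (Matrix.of fun i j =>
    (2 : F)⁻¹ * ∏ l, polar q1 (Pi.single ((ix k t).symm i l) 1) (Pi.single ((ix k t).symm j l) 1)))

theorem tvR_single {t : ℕ} (j : Fin (k ^ t)) :
    tvR (fun i => Pi.single ((ix k t).symm j i) (1 : F)) = Pi.single j 1 := by
  funext a
  show tp _ _ = _
  rw [tp_single]
  simp [Pi.single_apply]

theorem ext_tvR {t : ℕ} {M : Type*} [AddCommGroup M] [Module F M] {f g : (Fin (k ^ t) → F) →ₗ[F] M}
    (h : ∀ ys, f (tvR ys) = g (tvR ys)) : f = g :=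
  (Pi.basisFun F (Fin (k ^ t))).ext fun j => by rw [Pi.basisFun_apply, ← tvR_single]; exact h _

theorem isBilinear_polar {n : ℕ} (Q : QuadraticForm F (Fin n → F)) :
    Cfsg.Geo.IsBilinearForm fun x y => polar Q x y := by
  constructor <;> intros <;> simp [polar_add_left, polar_add_right, polar_smul_left, polar_smul_right]

theorem polar_pf (h2 : (2 : F) ≠ 0) (q1 : QuadraticForm F (Fin k → F)) {t : ℕ} (xs ys : Fin t → Fin k → F) :
    polar (pf q1 t) (tvR xs) (tvR ys) = ∏ i, polar q1 (xs i) (ys i) := by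
  have key : ∀ xs ys : Fin t → Fin k → F, Matrix.toLinearMap₂' F (Matrix.of fun i j =>
      (2 : F)⁻¹ * ∏ l, polar q1 (Pi.single ((ix k t).symm i l) 1) (Pi.single ((ix k t).symm j l) 1))
      (tvR xs) (tvR ys) = (2 : F)⁻¹ * ∏ i, polar q1 (xs i) (ys i) := by
    intro xs ys
    rw [← bilinear_prod (isBilinear_polar q1), Matrix.toLinearMap₂'_apply, Finset.mul_sum]
    refine Fintype.sum_equiv (ix k t).symm _ _ fun i => ?_
    rw [Finset.mul_sum]
    refine Fintype.sum_equiv (ix k t).symm _ _ fun j => ?_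
    simp only [Matrix.of_apply, tvR, Cfsg.Geo.gramMatrix, smul_eq_mul]
    ring
  rw [pf, LinearMap.BilinMap.polar_toQuadraticMap, key, key,
    show ∏ i, polar q1 (ys i) (xs i) = ∏ i, polar q1 (xs i) (ys i) from
      Finset.prod_congr rfl fun i _ => polar_comm _ _ _]
  field_simp
  ring

variable {q1 : QuadraticForm F (Fin k → F)}

theorem isFrame_pf (hg : IsGood q1) (t : ℕ) {u : Fin k → Fin k → F} (hu : IsFrame q1 u) :
    IsFrame (pf q1 t) (fun j => tvR fun i => u ((ix k t).symm j i)) := by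
  refine ⟨rfl, fun a b hab => ?_, fun a h0 => ?_, hg.two⟩
  · rw [polar_pf hg.two]
    obtain ⟨i, hi⟩ := Function.ne_iff.1 fun h => hab ((ix k t).symm.injective h)
    exact Finset.prod_eq_zero (Finset.mem_univ i) (hu.orth _ _ hi)
  · have e : polar (pf q1 t) (tvR fun i => u ((ix k t).symm a i)) (tvR fun i => u ((ix k t).symm a i)) = 0 := by
      rw [polar_self', h0, mul_zero]
    rw [polar_pf hg.two, Finset.prod_eq_zero_iff] at e
    obtain ⟨i, -, hi⟩ := e
    exact hu.polar_self_ne _ hi

theorem good_pf (hg : IsGood q1) {t : ℕ} (ht : 1 ≤ t) : IsGood (pf q1 t) := by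
  obtain ⟨u, hu⟩ := exists_frame hg.nd hg.two
  have hv := isFrame_pf hg t hu
  have hk : 3 ≤ k := by simpa using hg.three
  have hkt : k ≤ k ^ t := by
    calc k = k ^ 1 := (pow_one k).symm
      _ ≤ k ^ t := Nat.pow_le_pow_right (by omega) ht
  refine ⟨⟨fun x h => hv.ext_vec fun i => ?_, fun x h => hv.ext_vec fun i => ?_⟩, hg.two, ?_, ?_, ?_⟩
  · rw [polar_zero_left]; exact h _
  · rw [polar_zero_left, polar_comm]; exact h _
  · have := hg.odd; simp only [Fintype.card_fin] at this ⊢; exact this.pow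
  · rw [Fintype.card_fin]; omega
  · rcases hg.big with h | h
    · left; rw [Fintype.card_fin] at h ⊢; omega
    · exact Or.inr h

variable {ι : Type} [Fintype ι] [DecidableEq ι]

/-- A tensor power decomposition of the quadratic space `q`. -/
structure Pow (q : QuadraticForm F (ι → F)) (q1 : QuadraticForm F (Fin k → F)) (t : ℕ) where
  E : ((Fin t → Fin k) → F) ≃ₗ[F] (ι → F)
  polar_E : ∀ xs ys, polar q (E (tp xs)) (E (tp ys)) = ∏ i, polar q1 (xs i) (ys i)
  good1 : IsGood q1
  good : IsGood q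

/-- The standard tensor power. -/
noncomputable def std (hg : IsGood q1) (t : ℕ) : Pow (pf q1 (t + 1)) q1 (t + 1) where
  E := LinearEquiv.funCongrLeft F F (ix k (t + 1)).symm
  polar_E xs ys := polar_pf hg.two q1 xs ys
  good1 := hg
  good := good_pf hg (by omega)

namespace Pow

variable {q : QuadraticForm F (ι → F)} {t : ℕ} (P : Pow q q1 t)

/-- The pure tensor. -/
def tv (xs : Fin t → Fin k → F) : ι → F := P.E (tp xs)

theorem polar_tv (xs ys : Fin t → Fin k → F) : polar q (P.tv xs) (P.tv ys) = ∏ i, polar q1 (xs i) (ys i) :=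
  P.polar_E xs ys

theorem ext_tv {M : Type*} [AddCommGroup M] [Module F M] {f g : (ι → F) →ₗ[F] M}
    (h : ∀ xs, f (P.tv xs) = g (P.tv xs)) : f = g :=
  ((Pi.basisFun F (Fin t → Fin k)).map P.E).ext fun b => by
    rw [Module.Basis.map_apply, Pi.basisFun_apply, ← tp_single]; exact h _

theorem ext_tv_O {g g' : O q} (h : ∀ xs, app g (P.tv xs) = app g' (P.tv xs)) : g = g' :=
  ext_app fun x => by rw [P.ext_tv (f := app g) (g := app g') h]

/-- The operator of a family of maps of the factors. -/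
noncomputable def km (as : Fin t → (Fin k → F) →ₗ[F] (Fin k → F)) : (ι → F) →ₗ[F] (ι → F) :=
  P.E.toLinearMap ∘ₗ Matrix.toLin' (pm fun i => LinearMap.toMatrix' (as i)) ∘ₗ P.E.symm.toLinearMap

theorem km_tv (as : Fin t → (Fin k → F) →ₗ[F] (Fin k → F)) (xs : Fin t → Fin k → F) :
    P.km as (P.tv xs) = P.tv fun i => as i (xs i) := by
  simp [km, tv, pm_mulVec]

/-- The operator of a permutation of the factors. -/
noncomputable def pk (σ : Equiv.Perm (Fin t)) : (ι → F) →ₗ[F] (ι → F) :=
  P.E.toLinearMap ∘ₗ Matrix.toLin' (permM σ) ∘ₗ P.E.symm.toLinearMap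

theorem pk_tv (σ : Equiv.Perm (Fin t)) (xs : Fin t → Fin k → F) : P.pk σ (P.tv xs) = P.tv fun i => xs (σ i) := by
  simp [pk, tv, permM_mulVec]

theorem Q_of_polar {L : (ι → F) →ₗ[F] (ι → F)}
    (h : ∀ xs ys, polar q (L (P.tv xs)) (L (P.tv ys)) = polar q (P.tv xs) (P.tv ys)) (x : ι → F) :
    q (L x) = q x := by
  have h' : q.polarBilin.compl₁₂ L L = q.polarBilin :=
    P.ext_tv fun xs => P.ext_tv fun ys => by simpa using h xs ys
  have e := LinearMap.congr_fun (LinearMap.congr_fun h' x) x
  simp only [LinearMap.compl₁₂_apply, polarBilin_apply_apply, polar_self'] at e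
  exact mul_left_cancel₀ P.good.two e

/-- Factorwise isometries. -/
noncomputable def ev : (Fin t → O q1) →* O q where
  toFun as := mkO (P.km fun i => app (as i)) (P.km fun i => app (as i)⁻¹)
    (P.ext_tv fun xs => by simp [km_tv, app_app_inv]) (P.ext_tv fun xs => by simp [km_tv, app_inv_app])
    (P.Q_of_polar fun xs ys => by simp [km_tv, polar_tv])
  map_one' := P.ext_tv_O fun xs => by simp [app_mkO, km_tv]
  map_mul' as bs := P.ext_tv_O fun xs => by simp [app_mkO, km_tv]

theorem ev_tv (as : Fin t → O q1) (xs : Fin t → Fin k → F) :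
    app (P.ev as) (P.tv xs) = P.tv fun i => app (as i) (xs i) := by
  simp [ev, app_mkO, km_tv]

/-- A permutation of the factors as an isometry. -/
noncomputable def perm (σ : Equiv.Perm (Fin t)) : O q :=
  mkO (P.pk σ) (P.pk σ⁻¹) (P.ext_tv fun xs => by simp [pk_tv]) (P.ext_tv fun xs => by simp [pk_tv])
    (P.Q_of_polar fun xs ys => by
      rw [pk_tv, pk_tv, polar_tv, polar_tv, Equiv.prod_comp σ fun i => polar q1 (xs i) (ys i)])

theorem perm_tv (σ : Equiv.Perm (Fin t)) (xs : Fin t → Fin k → F) :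
    app (P.perm σ) (P.tv xs) = P.tv fun i => xs (σ i) := by
  simp [perm, app_mkO, pk_tv]

theorem perm_one : P.perm 1 = 1 := P.ext_tv_O fun xs => by simp [perm_tv]

theorem perm_mul (σ τ : Equiv.Perm (Fin t)) : P.perm σ * P.perm τ = P.perm (τ * σ) :=
  P.ext_tv_O fun xs => by simp [perm_tv]

theorem perm_ev (σ : Equiv.Perm (Fin t)) (as : Fin t → O q1) :
    P.perm σ * P.ev as = P.ev (fun i => as (σ i)) * P.perm σ :=
  P.ext_tv_O fun xs => by simp [perm_tv, ev_tv]

/-- An isometry of one factor. -/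
noncomputable def sl (i : Fin t) : O q1 →* O q := P.ev.comp (MonoidHom.mulSingle (fun _ => O q1) i)

theorem sl_tv (i : Fin t) (a : O q1) (xs : Fin t → Fin k → F) :
    app (P.sl i a) (P.tv xs) = P.tv (Function.update xs i (app a (xs i))) := by
  rw [sl, MonoidHom.comp_apply, ev_tv]
  congr 1
  funext j
  by_cases h : j = i
  · subst h; simp
  · simp [h]

theorem ev_omega {as : Fin t → O q1} (h : ∀ i, as i ∈ commutator (O q1)) : P.ev as ∈ commutator (O q) := by
  have hsl : ∀ i, P.ev (Pi.mulSingle i (as i)) ∈ commutator (O q) := fun i => ?_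
  · exact Subgroup.pi_mem_of_mulSingle_mem (H := (commutator (O q)).comap P.ev) as hsl
  have : (commutator (O q1)).map (P.sl i) ≤ commutator (O q) := by
    rw [commutator_def, Subgroup.map_commutator]
    exact Subgroup.commutator_mono le_top le_top
  exact this ⟨as i, h i, rfl⟩

theorem sl_omega (i : Fin t) {a : O q1} (h : a ∈ commutator (O q1)) : P.sl i a ∈ commutator (O q) := by
  have : (commutator (O q1)).map (P.sl i) ≤ commutator (O q) := by
    rw [commutator_def, Subgroup.map_commutator]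
    exact Subgroup.commutator_mono le_top le_top
  exact this ⟨a, h, rfl⟩

theorem sl_negId (i : Fin t) : P.sl i (negId q1) = negId q := P.ext_tv_O fun xs => by
  rw [sl_tv, app_negId, app_negId]
  have h : P.tv (Function.update xs i (-xs i)) = P.km (fun j => if j = i then -LinearMap.id else LinearMap.id)
      (P.tv xs) := by
    rw [km_tv]; congr 1; funext j
    by_cases hj : j = i
    · subst hj; simp
    · simp [hj]
  rw [h]
  show P.E (Matrix.toLin' _ (P.E.symm (P.E (tp xs)))) = -P.E (tp xs)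
  rw [LinearEquiv.symm_apply_apply, Matrix.toLin'_apply, pm_mulVec, ← map_neg]
  congr 1
  funext a
  simp only [tp, Pi.neg_apply, ← Finset.mul_prod_erase Finset.univ _ (Finset.mem_univ i)]
  rw [← neg_mul]
  congr 1
  · simp [Matrix.neg_mulVec]
  · exact Finset.prod_congr rfl fun j hj => by simp [Finset.ne_of_mem_erase hj]

theorem tv_zero {xs : Fin t → Fin k → F} {i : Fin t} (h : xs i = 0) : P.tv xs = 0 := by
  rw [tv]
  convert map_zero P.E
  funext a
  exact Finset.prod_eq_zero (Finset.mem_univ i) (by simp [h])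

/-- Monomial isometries. -/
noncomputable def Mon : Subgroup (O q) where
  carrier := {g | ∃ σ as, g = P.ev as * P.perm σ}
  one_mem' := ⟨1, 1, by rw [map_one, perm_one, mul_one]⟩
  mul_mem' := by
    rintro _ _ ⟨σ, as, rfl⟩ ⟨τ, bs, rfl⟩
    refine ⟨τ * σ, as * fun i => bs (σ i), ?_⟩
    rw [map_mul, mul_assoc, ← mul_assoc (P.perm σ), P.perm_ev, mul_assoc (P.ev fun i => bs (σ i)), perm_mul,
      ← mul_assoc]
  inv_mem' := by
    rintro _ ⟨σ, as, rfl⟩
    refine ⟨σ⁻¹, fun i => (as (σ⁻¹ i))⁻¹, ?_⟩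
    have hp : (P.perm σ)⁻¹ = P.perm σ⁻¹ :=
      inv_eq_of_mul_eq_one_right (by rw [perm_mul, inv_mul_cancel, perm_one])
    rw [_root_.mul_inv_rev, ← map_inv, hp, P.perm_ev]
    rfl

theorem mem_Mon {g : O q} : g ∈ P.Mon ↔ ∃ σ as, g = P.ev as * P.perm σ := Iff.rfl

theorem monom_tv (σ : Equiv.Perm (Fin t)) (as : Fin t → O q1) (xs : Fin t → Fin k → F) :
    app (P.ev as * P.perm σ) (P.tv xs) = P.tv fun i => app (as i) (xs (σ i)) := by
  rw [app_mul, perm_tv, ev_tv]

theorem ev_mem (as : Fin t → O q1) : P.ev as ∈ P.Mon := ⟨1, as, by rw [perm_one, mul_one]⟩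

theorem sl_mem (i : Fin t) (a : O q1) : P.sl i a ∈ P.Mon := P.ev_mem _

theorem perm_mem (σ : Equiv.Perm (Fin t)) : P.perm σ ∈ P.Mon := ⟨σ, 1, by rw [map_one, one_mul]⟩

theorem negId_mem (i : Fin t) : negId q ∈ P.Mon := P.sl_negId i ▸ P.sl_mem i _

section Split

variable {t : ℕ} (P : Pow q q1 (t + 2))

/-- The index set split at a factor. -/
def splitIx (k t : ℕ) (l : Fin (t + 2)) : (Fin (t + 2) → Fin k) ≃ Fin k × Fin (k ^ (t + 1)) :=
  (Fin.insertNthEquiv (fun _ => Fin k) l).symm.trans ((Equiv.refl _).prodCongr (ix k (t + 1)))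

theorem pure_split (l : Fin (t + 2)) (u : Fin k → F) (ys : Fin (t + 1) → Fin k → F) :
    LinearEquiv.funCongrLeft F F (splitIx k t l) (CfsgLib.Maximal.TensorTools.pure u (tvR ys)) =
      tp (l.insertNth u ys) := by
  funext a
  simp [LinearEquiv.funCongrLeft_apply, LinearMap.funLeft_apply, splitIx, CfsgLib.Maximal.TensorTools.pure, tvR, tp,
    Fin.prod_univ_succAbove _ l, Fin.removeNth]

/-- The decomposition splitting off the factor `l`. -/
@[reducible] noncomputable def D (l : Fin (t + 2)) : Data q k (k ^ (t + 1)) where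
  q1 := q1
  q2 := pf q1 (t + 1)
  E := (LinearEquiv.funCongrLeft F F (splitIx k t l)).trans P.E
  polar_E u v u' v' := by
    let T : (Fin k → F) → (Fin (k ^ (t + 1)) → F) →ₗ[F] (ι → F) := fun u =>
      ((LinearEquiv.funCongrLeft F F (splitIx k t l)).trans P.E).toLinearMap ∘ₗ
        { toFun := fun v => CfsgLib.Maximal.TensorTools.pure u v
          map_add' := fun v v' => by funext p; simp [CfsgLib.Maximal.TensorTools.pure, mul_add]
          map_smul' := fun c v => by funext p; simp [CfsgLib.Maximal.TensorTools.pure, mul_left_comm] }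
    have key : q.polarBilin.compl₁₂ (T u) (T u') = polar q1 u u' • (pf q1 (t + 1)).polarBilin :=
      ext_tvR fun ys => ext_tvR fun ys' => by
        simp only [LinearMap.compl₁₂_apply, LinearMap.smul_apply, polarBilin_apply_apply, smul_eq_mul, T,
          LinearMap.comp_apply, LinearMap.coe_mk, AddHom.coe_mk, LinearEquiv.coe_coe, LinearEquiv.trans_apply,
          pure_split]
        rw [P.polar_E, polar_pf P.good1.two, Fin.prod_univ_succAbove _ l]
        simp
    simpa [T] using LinearMap.congr_fun (LinearMap.congr_fun key v) v'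
  good1 := P.good1
  good2 := good_pf P.good1 (by omega)
  good := P.good

theorem tp_tvR (l : Fin (t + 2)) (u : Fin k → F) (ys : Fin (t + 1) → Fin k → F) :
    (P.D l).tp u (tvR ys) = P.tv (l.insertNth u ys) := by
  show P.E (LinearEquiv.funCongrLeft F F (splitIx k t l) _) = _
  rw [pure_split, tv]

theorem std_tv (hg : IsGood q1) (ys : Fin (t + 1) → Fin k → F) : (std hg t).tv ys = tvR ys := by
  funext j
  simp [tv, std, tvR, LinearEquiv.funCongrLeft_apply, LinearMap.funLeft_apply]

theorem tv_split (l : Fin (t + 2)) (xs : Fin (t + 2) → Fin k → F) :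
    P.tv xs = (P.D l).tp (xs l) (tvR (l.removeNth xs)) := by
  rw [tp_tvR, Fin.insertNth_self_removeNth]

theorem L_eq_sl (l : Fin (t + 2)) (a : O q1) : (P.D l).L a = P.sl l a :=
  P.ext_tv_O fun xs => by
    rw [sl_tv, P.tv_split l xs, (P.D l).L_tp, tp_tvR, Fin.insertNth_removeNth]

theorem R_ev (l : Fin (t + 2)) (bs : Fin (t + 1) → O q1) :
    (P.D l).R ((std P.good1 t).ev bs) = P.ev (l.insertNth 1 bs) :=
  P.ext_tv_O fun xs => by
    rw [ev_tv, P.tv_split l xs, (P.D l).R_tp, ← std_tv P.good1, ev_tv, std_tv, tp_tvR]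
    congr 1
    funext i
    induction i using l.succAboveCases with
    | x => simp
    | p j => simp [Fin.removeNth]

theorem R_sl (l : Fin (t + 2)) (j : Fin (t + 1)) (a : O q1) :
    (P.D l).R ((std P.good1 t).sl j a) = P.sl (l.succAbove j) a := by
  rw [sl, sl, MonoidHom.comp_apply, MonoidHom.comp_apply, R_ev]
  congr 1
  funext i
  induction i using l.succAboveCases with
  | x => simp [(Fin.succAbove_ne l j).symm]
  | p m => simp [Pi.mulSingle_apply]

/-- A permutation of the other factors. -/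
def extPerm (l : Fin (t + 2)) (τ : Equiv.Perm (Fin (t + 1))) : Equiv.Perm (Fin (t + 2)) :=
  (finSuccEquiv' l).symm.permCongr τ.optionCongr

theorem extPerm_self (l : Fin (t + 2)) (τ : Equiv.Perm (Fin (t + 1))) : extPerm l τ l = l := by
  simp [extPerm, Equiv.permCongr_apply, finSuccEquiv'_at]

theorem extPerm_succAbove (l : Fin (t + 2)) (τ : Equiv.Perm (Fin (t + 1))) (j : Fin (t + 1)) :
    extPerm l τ (l.succAbove j) = l.succAbove (τ j) := by
  simp [extPerm, Equiv.permCongr_apply, finSuccEquiv'_succAbove]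

theorem R_perm (l : Fin (t + 2)) (τ : Equiv.Perm (Fin (t + 1))) :
    (P.D l).R ((std P.good1 t).perm τ) = P.perm (extPerm l τ) :=
  P.ext_tv_O fun xs => by
    rw [perm_tv, P.tv_split l xs, (P.D l).R_tp, ← std_tv P.good1, perm_tv, std_tv, tp_tvR]
    congr 1
    funext i
    induction i using l.succAboveCases with
    | x => simp [extPerm_self]
    | p j => simp [Fin.removeNth, extPerm_succAbove]

theorem R_mem_Mon (l : Fin (t + 2)) {η : O (pf q1 (t + 1))} (h : η ∈ (std P.good1 t).Mon) :
    (P.D l).R η ∈ P.Mon := by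
  obtain ⟨τ, bs, rfl⟩ := h
  rw [map_mul, R_ev, R_perm]
  exact mul_mem (P.ev_mem _) (P.perm_mem _)

/-- An isometry of one factor corrects the spinor class. -/
theorem exists_sl_mem (l : Fin (t + 2)) {u : Fin k → Fin k → F} (hu : IsFrame q1 u) {S : Finset (Fin k)}
    (hS : 2 ≤ S.card) (g : O q) :
    ∃ a : O q1, (∀ j, j ∉ S → app a (u j) = u j) ∧ g * P.sl l a ∈ commutator (O q) := by
  obtain ⟨a, ha, h⟩ := (P.D l).exists_L_mem hu hS g
  exact ⟨a, ha, P.L_eq_sl l a ▸ h⟩

end Split

end Pow

end CfsgLib.TensorPowOdd
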