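import Mathlib
import Cfsg.Agent.Lib.TensorPowOdd.Pow
import Cfsg.Agent.Lib.TensorOdd.Signs

/-!
Monomial isometries and slices: images of slices, factors fixing slices, and the uniqueness of the permutation.
-/

set_option autoImplicit false
set_option linter.unusedSectionVars false

namespace CfsgLib.TensorPowOdd

open Matrix QuadraticMap CfsgLib.Orth CfsgLib.TensorOdd

variable {F : Type*} [Field F] [Fintype F] {k : ℕ} {q1 : QuadraticForm F (Fin k → F)}
variable {ι : Type} [Fintype ι] [DecidableEq ι] {q : QuadraticForm F (ι → F)}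

/-- `-r_v` of one factor. -/
noncomputable def nr (q1 : QuadraticForm F (Fin k → F)) (v : Fin k → F) : O q1 := negId q1 * refl q1 v

theorem nr_invol (v : Fin k → F) : nr q1 v * nr q1 v = 1 := negId_refl_invol v

theorem three_le (hg : IsGood q1) : 3 ≤ k := by simpa using hg.three

theorem exists_indep_pair (hg : IsGood q1) (u : Fin k → F) : ∃ x : Fin k → F, x ∉ Submodule.span F {u} := by
  by_contra hno
  push Not at hno
  have h : (⊤ : Submodule F (Fin k → F)) ≤ Submodule.span F {u} := fun x _ => hno x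
  have h1 := Submodule.finrank_mono h
  rw [finrank_top, Module.finrank_fintype_fun_eq_card, Fintype.card_fin] at h1
  have h2 := finrank_span_le_card (R := F) ({u} : Set (Fin k → F))
  simp at h2
  have := three_le hg
  omega

namespace Pow

variable {t : ℕ} (P : Pow q q1 (t + 2))

/-- `g` maps the slice of `u` at the factor `m` into the slice of `u'` at the factor `l`. -/
def Maps (g : O q) (m : Fin (t + 2)) (u : Fin k → F) (l : Fin (t + 2)) (u' : Fin k → F) : Prop :=
  ∀ w, ∃ w', app g ((P.D m).tp u w) = (P.D l).tp u' w'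

/-- The factor of a pure tensor lying in a slice. -/
theorem factor_of_slice {ys : Fin (t + 2) → Fin k → F} (h : ∀ i, ys i ≠ 0) {l : Fin (t + 2)} {u : Fin k → F}
    {w : Fin (k ^ (t + 1)) → F} (he : P.tv ys = (P.D l).tp u w) : ys l ∈ Submodule.span F {u} := by
  by_contra hno
  obtain ⟨z, hz1, hz2⟩ := CfsgLib.Orth.exists_polar_eq_zero_one (Q := q1) P.good1.nd hno
  choose zs hzs using fun i => exists_polar_eq_one (Q := q1) P.good1.nd (h i)
  have e : polar q (P.tv ys) ((P.D l).tp z (tvR (l.removeNth zs))) = 1 := by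
    rw [P.tv_split l ys, (P.D l).polar_tp]
    show polar q1 (ys l) z * polar (pf q1 (t + 1)) _ _ = 1
    rw [hz2, one_mul, polar_pf P.good1.two]
    exact Finset.prod_eq_one fun i _ => hzs _
  rw [he, (P.D l).polar_tp] at e
  change polar q1 u z * _ = 1 at e
  rw [hz1, zero_mul] at e
  exact zero_ne_one e

theorem app_ne_zero (a : O q1) {x : Fin k → F} (h : x ≠ 0) : app a x ≠ 0 := fun h0 =>
  h (app_injective a (by rw [h0, map_zero]))

/-- A monomial isometry mapping a slice into a slice. -/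
theorem maps_mon {σ : Equiv.Perm (Fin (t + 2))} {as : Fin (t + 2) → O q1} {m l : Fin (t + 2)} {u u' : Fin k → F}
    (hu : u ≠ 0) (h : P.Maps (P.ev as * P.perm σ) m u l u') :
    σ l = m ∧ app (as l) u ∈ Submodule.span F {u'} := by
  have key : ∀ xs : Fin (t + 2) → Fin k → F, xs m = u → (∀ i, xs i ≠ 0) →
      app (as l) (xs (σ l)) ∈ Submodule.span F {u'} := fun xs hm hne => by
    obtain ⟨w', hw⟩ := h (tvR (m.removeNth xs))
    rw [← hm, ← P.tv_split m xs, monom_tv] at hw
    exact P.factor_of_slice (ys := fun i => app (as i) (xs (σ i))) (fun i => app_ne_zero _ (hne _)) hw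
  have hlm : σ l = m := by
    by_contra hne
    obtain ⟨x, hx⟩ := exists_indep_pair P.good1 (app (as l)⁻¹ u')
    have h1 := key (Function.update (fun _ => u) (σ l) x) (by rw [Function.update_of_ne (Ne.symm hne)]) fun i => by
      by_cases hi : i = σ l
      · subst hi; rw [Function.update_self]; exact fun h0 => hx (h0 ▸ Submodule.zero_mem _)
      · rw [Function.update_of_ne hi]; exact hu
    rw [Function.update_self] at h1
    obtain ⟨c, hc⟩ := Submodule.mem_span_singleton.1 h1
    exact hx (Submodule.mem_span_singleton.2 ⟨c, by rw [← map_smul, hc, app_inv_app]⟩)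
  refine ⟨hlm, ?_⟩
  have h1 := key (fun _ => u) rfl fun _ => hu
  exact h1

theorem monom_maps (σ : Equiv.Perm (Fin (t + 2))) (as : Fin (t + 2) → O q1) (l : Fin (t + 2)) (u : Fin k → F) :
    P.Maps (P.ev as * P.perm σ) (σ l) u l (app (as l) u) := by
  intro w
  let T : (Fin (k ^ (t + 1)) → F) →ₗ[F] (ι → F) ⧸ LinearMap.range ((P.D l).tpR (app (as l) u)) :=
    (LinearMap.range ((P.D l).tpR (app (as l) u))).mkQ ∘ₗ app (P.ev as * P.perm σ) ∘ₗ (P.D (σ l)).tpR u
  have hT : T = 0 := ext_tvR fun ys => by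
    simp only [T, LinearMap.comp_apply, LinearMap.zero_apply, Submodule.mkQ_apply, Submodule.Quotient.mk_eq_zero]
    refine ⟨tvR (l.removeNth fun i => app (as i) ((σ l).insertNth (α := fun _ => Fin k → F) u ys (σ i))), ?_⟩
    show (P.D l).tp _ _ = app _ ((P.D (σ l)).tp u (tvR ys))
    rw [P.tp_tvR (σ l), monom_tv, P.tv_split l]
    simp
  have h1 := LinearMap.congr_fun hT w
  simp only [T, LinearMap.comp_apply, LinearMap.zero_apply, Submodule.mkQ_apply, Submodule.Quotient.mk_eq_zero] at h1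
  obtain ⟨w', hw'⟩ := h1
  exact ⟨w', hw'.symm⟩

theorem exists_ne (hg : IsGood q1) : ∃ u : Fin k → F, u ≠ 0 := by
  obtain ⟨x, hx⟩ := exists_indep_pair hg 0
  exact ⟨x, fun h => hx (by rw [h]; exact Submodule.zero_mem _)⟩

/-- The permutation of a monomial isometry is unique. -/
theorem perm_unique {σ τ : Equiv.Perm (Fin (t + 2))} {as bs : Fin (t + 2) → O q1}
    (h : P.ev as * P.perm σ = P.ev bs * P.perm τ) : σ = τ := by
  obtain ⟨u, hu⟩ := exists_ne P.good1
  ext1 l
  exact ((P.maps_mon hu (h ▸ P.monom_maps σ as l u)).1).symm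

theorem exists_extPerm {σ : Equiv.Perm (Fin (t + 2))} {l : Fin (t + 2)} (h : σ l = l) :
    ∃ τ, σ = extPerm l τ := by
  have hne : ∀ j, σ (l.succAbove j) ≠ l := fun j e =>
    Fin.succAbove_ne l j (σ.injective (e.trans h.symm))
  choose f hf using fun j => Fin.exists_succAbove_eq (hne j)
  have hinj : Function.Injective f := fun a b e =>
    Fin.succAbove_right_injective (σ.injective ((hf a).symm.trans ((congrArg _ e).trans (hf b))))
  refine ⟨Equiv.ofBijective f ⟨hinj, Finite.surjective_of_injective hinj⟩, ?_⟩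
  ext1 i
  induction i using l.succAboveCases with
  | x => rw [extPerm_self, h]
  | p j => rw [extPerm_succAbove]; exact (hf j).symm

theorem ev_split (l : Fin (t + 2)) (as : Fin (t + 2) → O q1) :
    P.ev as = (P.D l).L (as l) * (P.D l).R ((std P.good1 t).ev (l.removeNth as)) := by
  rw [L_eq_sl, R_ev, sl, MonoidHom.comp_apply, ← map_mul]
  congr 1
  funext i
  induction i using l.succAboveCases with
  | x => simp
  | p j => simp [Fin.succAbove_ne l j]

/-- A monomial isometry fixing the factor `l`. -/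
theorem split_mon {σ : Equiv.Perm (Fin (t + 2))} (as : Fin (t + 2) → O q1) {l : Fin (t + 2)} (h : σ l = l) :
    ∃ η ∈ (std P.good1 t).Mon, P.ev as * P.perm σ = (P.D l).L (as l) * (P.D l).R η := by
  obtain ⟨τ, rfl⟩ := exists_extPerm h
  exact ⟨_, ⟨τ, _, rfl⟩, by rw [P.ev_split l, map_mul, R_perm, mul_assoc]⟩

/-- A monomial isometry keeping a slice. -/
theorem mon_slice {g : O q} (hg : g ∈ P.Mon) {l : Fin (t + 2)} {u u' : Fin k → F} (hu : u ≠ 0)
    (h : P.Maps g l u l u') :
    ∃ A, ∃ η ∈ (std P.good1 t).Mon, app A u ∈ Submodule.span F {u'} ∧ g = (P.D l).L A * (P.D l).R η := by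
  obtain ⟨σ, as, rfl⟩ := hg
  obtain ⟨h1, h2⟩ := P.maps_mon hu h
  obtain ⟨η, hη, e⟩ := P.split_mon as h1
  exact ⟨as l, η, hη, h2, e⟩

theorem mon_slice_TT {g : O q} (hg : g ∈ P.Mon) {l : Fin (t + 2)} {u u' : Fin k → F} (hu : u ≠ 0)
    (h : P.Maps g l u l u') : g ∈ (P.D l).TT := by
  obtain ⟨A, η, -, -, rfl⟩ := P.mon_slice hg hu h
  exact mul_mem ((P.D l).L_mem A) ((P.D l).R_mem η)

/-- A monomial isometry fixing a slice pointwise acts on one factor. -/
theorem mon_fix {g : O q} (hg : g ∈ P.Mon) {l : Fin (t + 2)} {u : Fin k → F} (hu : u ≠ 0)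
    (h : ∀ w, app g ((P.D l).tp u w) = (P.D l).tp u w) : ∃ A, app A u = u ∧ g = P.sl l A := by
  obtain ⟨A, hA⟩ := (P.D l).eq_L_of_fix (P.mon_slice_TT hg hu (u' := u) fun w => ⟨w, h w⟩) hu h
  refine ⟨A, ?_, hA.trans (P.L_eq_sl l A)⟩
  obtain ⟨v, hv⟩ := exists_frame (P.D l).good2.nd (P.D l).good2.two
  obtain ⟨j⟩ : Nonempty (Fin (k ^ (t + 1))) := Fintype.card_pos_iff.1 (by have := (P.D l).good2.three; omega)
  refine (P.D l).tp_left_cancel (hv.li.ne_zero j) ?_
  rw [← (P.D l).L_tp, ← hA]
  exact h _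

/-- A monomial element of the stabiliser of a split fixes that factor. -/
theorem perm_fix_of_TT {σ : Equiv.Perm (Fin (t + 2))} {as : Fin (t + 2) → O q1} {l : Fin (t + 2)}
    (h : P.ev as * P.perm σ ∈ (P.D l).TT) : σ l = l := by
  obtain ⟨A, B, e⟩ := (P.D l).mem_TT.1 h
  obtain ⟨u, hu⟩ := exists_ne P.good1
  exact (P.maps_mon hu (show P.Maps (P.ev as * P.perm σ) l u l (app A u) from
    fun w => ⟨app B w, by rw [e, (P.D l).ten_tp]⟩)).1

theorem sl_comm {i j : Fin (t + 2)} (h : i ≠ j) (a b : O q1) : P.sl i a * P.sl j b = P.sl j b * P.sl i a := by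
  simp only [sl, MonoidHom.comp_apply, ← map_mul]
  exact congrArg P.ev (Pi.mulSingle_commute h _ _)

theorem sl_injective (l : Fin (t + 2)) : Function.Injective (P.sl l) := fun a b h => by
  rw [← P.L_eq_sl, ← P.L_eq_sl, ← (P.D l).swap_R, ← (P.D l).swap_R] at h
  exact (P.D l).swap.R_injective h

/-- Monomial isometries permute the factor groups. -/
theorem conj_sl (σ : Equiv.Perm (Fin (t + 2))) (as : Fin (t + 2) → O q1) (l : Fin (t + 2)) (a : O q1) :
    P.ev as * P.perm σ * P.sl (σ l) a * (P.ev as * P.perm σ)⁻¹ = P.sl l (as l * a * (as l)⁻¹) := by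
  rw [mul_inv_eq_iff_eq_mul]
  refine P.ext_tv_O fun xs => ?_
  rw [app_mul, sl_tv, monom_tv, app_mul (P.sl _ _), monom_tv, sl_tv]
  congr 1
  funext i
  by_cases hi : i = l
  · subst hi; simp [app_inv_app]
  · rw [Function.update_of_ne (fun e => hi (σ.injective e)), Function.update_of_ne hi]

end Pow

end CfsgLib.TensorPowOdd
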