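import Mathlib
import Cfsg.Agent.Lib.TensorPowOdd.Mon
import Cfsg.Agent.Lib.TensorOdd.Irred

/-!
Isometries commuting with the admissible reflections of one factor act on the other factors, and the fixed
space criterion for a product of two involutions.
-/

set_option autoImplicit false
set_option linter.unusedSectionVars false

namespace CfsgLib.TensorPowOdd

open Matrix QuadraticMap CfsgLib.Orth CfsgLib.TensorOdd

variable {F : Type*} [Field F] [Fintype F]

section

variable {ι : Type} [Fintype ι] [DecidableEq ι] {Q : QuadraticForm F (ι → F)}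

/-- A linear map commuting with the admissible reflections is a scalar. -/
theorem scalar_lin (hg : IsGood Q) (L : (ι → F) →ₗ[F] (ι → F))
    (h : ∀ v, Adm Q v → ∀ x, L (app (refl Q v) x) = app (refl Q v) (L x)) : ∃ c : F, ∀ x, L x = c • x := by
  obtain ⟨v, hv, hadm⟩ := exists_adm_frame hg
  obtain ⟨i⟩ : Nonempty ι := Fintype.card_pos_iff.1 (by have := hg.three; omega)
  have e := h _ (hadm i) (v i)
  rw [app_refl_self (hv.nz i), map_neg, app_refl (v i) (L (v i))] at e
  set c := (Q (v i))⁻¹ * polar Q (L (v i)) (v i)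
  have e2 : L (v i) = (c / 2) • v i := by
    have h1 : (2 : F) • L (v i) = c • v i := by linear_combination (norm := module) -e
    rw [div_eq_inv_mul, mul_smul, ← h1, smul_smul, inv_mul_cancel₀ hg.two, one_smul]
  let E := LinearMap.ker (L - (c / 2) • LinearMap.id)
  have hE : ∀ x, x ∈ E ↔ L x = (c / 2) • x := fun x => by simp [E, sub_eq_zero]
  rcases invariant_eq hg E (fun u hu w hw => by
    rw [hE] at hw ⊢
    rw [h u hu, hw, map_smul]) with h0 | h1
  · exact absurd ((hE _).2 e2) (by rw [h0]; simpa using hv.li.ne_zero i)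
  · exact ⟨c / 2, fun x => (hE x).1 (h1 ▸ Submodule.mem_top)⟩

/-- Commuting with `-r` is commuting with `r`. -/
theorem comm_of_negId {g : O Q} {x : O Q} (h : g * (negId Q * x) = negId Q * x * g) : g * x = x * g := by
  rw [← mul_assoc, ← negId_comm g, mul_assoc, mul_assoc] at h
  exact mul_left_cancel h

theorem negId_of_comm {g : O Q} {x : O Q} (h : g * x = x * g) : g * (negId Q * x) = negId Q * x * g := by
  rw [← mul_assoc, ← negId_comm g, mul_assoc, h, mul_assoc]

end

variable {ι : Type} [Fintype ι] [DecidableEq ι] {q : QuadraticForm F (ι → F)}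

/-- Commuting with the admissible involutions of the first factor is lying in the second. -/
theorem exists_R_of_comm {a b : ℕ} (D : Data q a b) {g : O q}
    (h : ∀ v, Adm D.q1 v → g * D.L (negId D.q1 * refl D.q1 v) = D.L (negId D.q1 * refl D.q1 v) * g) :
    ∃ η, g = D.R η := by
  classical
  have hr : ∀ v, Adm D.q1 v → g * D.L (refl D.q1 v) = D.L (refl D.q1 v) * g := fun v hv => by
    have := h v hv
    rw [map_mul, D.L_negId] at this
    exact comm_of_negId this
  obtain ⟨u, hu⟩ := exists_frame D.good1.nd D.good1.two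
  obtain ⟨i0⟩ : Nonempty (Fin a) := Fintype.card_pos_iff.1 (by have := D.good1.three; omega)
  -- the pairing of two slices is a multiple of the form
  have hpair : ∀ w w', ∃ c : F, ∀ x y,
      polar q (app g (D.tp x w)) (D.tp y w') = c * polar D.q1 x y := by
    intro w w'
    let M : (Fin a → F) →ₗ[F] (Fin a → F) := ∑ i, LinearMap.smulRight
      ((2 * D.q1 (u i))⁻¹ • ((q.polarBilin.flip (D.tp (u i) w')).comp ((app g).comp (D.tpL w)))) (u i)
    have hM : ∀ x i, polar D.q1 (M x) (u i) = polar q (app g (D.tp x w)) (D.tp (u i) w') := by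
      intro x i
      have e : M x = ∑ i, ((2 * D.q1 (u i))⁻¹ * polar q (app g (D.tp x w)) (D.tp (u i) w')) • u i := by
        simp [M, Data.tpL]
      rw [e, hu.polar_sum]
      have := D.good1.two
      have := hu.nz i
      field_simp
    have hM' : ∀ x y, polar D.q1 (M x) y = polar q (app g (D.tp x w)) (D.tp y w') := by
      intro x y
      have e : D.q1.polarBilin (M x) = (q.polarBilin (app g (D.tp x w))).comp (D.tpL w') :=
        hu.ext_lin fun i => by simpa [Data.tpL] using hM x i
      simpa [Data.tpL] using LinearMap.congr_fun e y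
    obtain ⟨c, hc⟩ := scalar_lin D.good1 M fun v hv x => by
      refine hu.ext_vec fun i => ?_
      have e : ∀ z, polar D.q1 (app (refl D.q1 v) z) (u i) = polar D.q1 z (app (refl D.q1 v) (u i)) := fun z => by
        conv_lhs => rw [show u i = app (refl D.q1 v) (app (refl D.q1 v) (u i)) by
          rw [← app_mul, refl_mul_self, app_one], polar_app]
      rw [e, hM', hM', ← D.L_tp, ← app_mul, hr v hv, app_mul, ← polar_app (D.L (refl D.q1 v)) (app g (D.tp x w))
        (D.tp (app (refl D.q1 v) (u i)) w'), D.L_tp, ← app_mul (refl D.q1 v) (refl D.q1 v), refl_mul_self, app_one]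
    exact ⟨c, fun x y => by rw [← hM', hc, polar_smul_left, smul_eq_mul]⟩
  have hu0 : u i0 ≠ 0 := hu.li.ne_zero i0
  have hcol : ∀ w, ∃ w', app g (D.tp (u i0) w) = D.tp (u i0) w' := by
    intro w
    obtain ⟨w', hw'⟩ := D.swap.mem_col hu i0 (z := app g (D.tp (u i0) w)) fun i hi y => by
      obtain ⟨c, hc⟩ := hpair w y
      rw [D.swap_tp, hc, hu.orth i0 i hi.symm, mul_zero]
    exact ⟨w', hw'.trans (D.swap_tp _ _)⟩
  choose f hf using hcol
  have hall : ∀ x w, app g (D.tp x w) = D.tp x (f w) := by
    intro x w
    refine eq_of_sub_eq_zero (eq_zero_of_polar D.good.nd fun z => ?_)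
    have e : q.polarBilin (app g (D.tp x w) - D.tp x (f w)) = 0 := D.ext_tp fun y w' => by
      obtain ⟨c, hc⟩ := hpair w w'
      have e0 := hc (u i0) (u i0)
      rw [hf, D.polar_tp] at e0
      have : c = polar D.q2 (f w) w' := mul_left_cancel₀ (hu.polar_self_ne i0) (by linear_combination -e0)
      simp only [map_sub, LinearMap.sub_apply, polarBilin_apply_apply, LinearMap.zero_apply, hc, D.polar_tp, this]
      ring
    exact LinearMap.congr_fun e z
  have hlin : IsLinearMap F f := by
    constructor
    · intro x y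
      apply D.tp_right_cancel hu0
      rw [← hf, D.tp_add_right, map_add, hf, hf, ← D.tp_add_right]
    · intro c x
      apply D.tp_right_cancel hu0
      rw [← hf, D.tp_smul_right, map_smul, hf, ← D.tp_smul_right]
  set L := IsLinearMap.mk' f hlin
  have hL : ∀ x, D.q2 (L x) = D.q2 x := fun x => by
    have := Q_app g (D.tp (u i0) x)
    rw [hf, D.Q_tp, D.Q_tp] at this
    exact mul_left_cancel₀ (mul_ne_zero D.good1.two (hu.nz i0)) this
  have hinj : Function.Injective L := fun x y hxy => by
    refine D.tp_right_cancel hu0 (app_injective g ?_)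
    rw [hf, hf]; exact congrArg (D.tp (u i0)) hxy
  let e := LinearEquiv.ofInjectiveEndo L hinj
  refine ⟨mkO (e : (Fin b → F) →ₗ[F] (Fin b → F)) e.symm (LinearMap.ext e.apply_symm_apply)
    (LinearMap.ext e.symm_apply_apply) hL, D.ext_tp_O fun x w => ?_⟩
  rw [hall, D.R_tp]
  congr 1
  exact (app_mkO (Q := D.q2) (e : (Fin b → F) →ₗ[F] (Fin b → F)) e.symm (LinearMap.ext e.apply_symm_apply)
    (LinearMap.ext e.symm_apply_apply) hL w).symm

/-- An element conjugating an involution of the second factor to its product with a left factor: the left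
factor is trivial. -/
theorem left_trivial {a b : ℕ} (D : Data q a b) {A : O D.q1} {B : O D.q2}
    (hA2 : A * A = 1) (hB2 : B * B = 1) {g : O q} (h : g * D.R B * g⁻¹ = D.L A * D.R B) : A = 1 := by
  obtain ⟨u, hu, S, rfl⟩ := exists_sign D.good1 hA2
  obtain ⟨v, hv, S', rfl⟩ := exists_sign D.good2 hB2
  have e := finrank_fixS_conj g (D.R (blockSign D.q2 v S'))
  rw [h, ← D.ten_eq, D.fixdim hu hv, D.R_eq_ten, ← blockSign_empty hu, D.fixdim hu hv] at e
  simp only [Finset.card_empty, tsub_zero, zero_mul, add_zero] at e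
  have hs : S.card ≤ a := by simpa using S.card_le_univ
  have hs' : S'.card ≤ b := by simpa using S'.card_le_univ
  obtain ⟨c, hc⟩ := Nat.exists_eq_add_of_le hs
  obtain ⟨d, hd⟩ := Nat.exists_eq_add_of_le hs'
  rw [show b - S'.card = d by omega, show a - S.card = c by omega] at e
  have key : S.card * S'.card = S.card * d := by
    have : a * d = c * d + S.card * d := by rw [← Nat.add_mul, Nat.add_comm, ← hc]
    omega
  rcases Nat.eq_zero_or_pos S.card with h0 | hpos
  · rw [Finset.card_eq_zero.1 h0, blockSign_empty hu]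
  · exfalso
    have := Nat.eq_of_mul_eq_mul_left hpos key
    obtain ⟨j, hj⟩ := D.odd_b
    omega

end CfsgLib.TensorPowOdd
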