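import Mathlib
import Cfsg.Agent.Lib.TensorPowOdd.Comm

/-!
Overgroups of the monomial isometries in the derived group: slices of anisotropic vectors of a factor and the
involutions of the factors.
-/

set_option autoImplicit false
set_option linter.unusedSectionVars false
set_option maxHeartbeats 400000

namespace CfsgLib.TensorPowOdd

open Matrix QuadraticMap CfsgLib.Orth CfsgLib.TensorOdd

variable {F : Type*} [Field F] [Fintype F] {k : ℕ} {q1 : QuadraticForm F (Fin k → F)}
variable {ι : Type} [Fintype ι] [DecidableEq ι] {q : QuadraticForm F (ι → F)} {t : ℕ}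

/-- An invertible element of finite order inverted by an involution without fixed points in a subgroup. -/
theorem inverted_of_fixedPointFree {G : Type*} [Group G] [Finite G] (K : Subgroup G) {d : G} (hd : d * d = 1)
    (hK : ∀ x ∈ K, d * x * d ∈ K) (hfix : ∀ x ∈ K, d * x = x * d → x = 1) {x : G} (hx : x ∈ K) :
    d * x * d = x⁻¹ := by
  have hd' : d⁻¹ = d := inv_eq_of_mul_eq_one_right hd
  let f : K → K := fun y => ⟨(y : G)⁻¹ * (d * y * d), K.mul_mem (K.inv_mem y.2) (hK _ y.2)⟩
  have hinj : Function.Injective f := fun a b e => by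
    have e' : (a : G)⁻¹ * (d * a * d) = (b : G)⁻¹ * (d * b * d) := congrArg Subtype.val e
    refine Subtype.ext ?_
    have h1 := hfix ((b : G) * (a : G)⁻¹) (K.mul_mem b.2 (K.inv_mem a.2)) ?_
    · exact (mul_inv_eq_one.1 h1).symm
    · calc d * ((b : G) * (a : G)⁻¹) = (d * b * d) * (d * a * d)⁻¹ * d := by
            simp only [_root_.mul_inv_rev, hd', mul_assoc, hd, mul_one]
            rw [← mul_assoc d d, hd, one_mul]
        _ = (b : G) * ((b : G)⁻¹ * (d * b * d)) * (d * a * d)⁻¹ * d := by group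
        _ = (b : G) * ((a : G)⁻¹ * (d * a * d)) * (d * a * d)⁻¹ * d := by rw [e']
        _ = (b : G) * (a : G)⁻¹ * d := by group
  obtain ⟨y, hy⟩ := Finite.surjective_of_injective hinj ⟨x, hx⟩
  have e : (y : G)⁻¹ * (d * y * d) = x := congrArg Subtype.val hy
  rw [← e]
  calc d * ((y : G)⁻¹ * (d * y * d)) * d = d * (y : G)⁻¹ * d * y * (d * d) := by group
    _ = _ := by rw [hd, mul_one]; simp only [_root_.mul_inv_rev, inv_inv, hd', mul_assoc]

/-- A group inverted by two involutions and their product is trivial. -/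
theorem eq_one_of_three {G : Type*} [Group G] [Finite G] (K : Subgroup G) {d d' : G} (hd : d * d = 1)
    (hd' : d' * d' = 1) (hc : d * d' = d' * d) (hK : ∀ x ∈ K, d * x * d ∈ K) (hK' : ∀ x ∈ K, d' * x * d' ∈ K)
    (h1 : ∀ x ∈ K, d * x = x * d → x = 1) (h2 : ∀ x ∈ K, d' * x = x * d' → x = 1)
    (h3 : ∀ x ∈ K, d * d' * x = x * (d * d') → x = 1) {x : G} (hx : x ∈ K) : x = 1 := by
  have e1 := inverted_of_fixedPointFree K hd hK h1 hx
  have e2 := inverted_of_fixedPointFree K hd' hK' h2 hx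
  have hdd : d * d' * (d * d') = 1 := by
    calc d * d' * (d * d') = d * d' * (d' * d) := by rw [hc]
      _ = d * (d' * d') * d := by group
      _ = 1 := by rw [hd', mul_one, hd]
  have hswap : ∀ y, d * d' * y * (d * d') = d * (d' * y * d') * d := fun y => by
    calc d * d' * y * (d * d') = d * d' * y * (d' * d) := by rw [hc]
      _ = _ := by group
  have hK3 : ∀ x ∈ K, d * d' * x * (d * d') ∈ K := fun x hx => by rw [hswap]; exact hK _ (hK' x hx)
  have e3 := inverted_of_fixedPointFree K hdd hK3 h3 hx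
  rw [hswap, e2, inverted_of_fixedPointFree K hd hK h1 (K.inv_mem hx), inv_inv] at e3
  refine h1 x hx ?_
  have : d * x * d = x := e1.trans e3.symm
  calc d * x = d * x * d * d := by rw [mul_assoc _ d d, hd, mul_one]
    _ = x * d := by rw [this]

namespace Pow

/-- A proper overgroup of the monomial isometries in `Ω`, with the facts known for fewer factors. -/
structure Over (P : Pow q q1 (t + 2)) (H : Subgroup (O q)) : Prop where
  le : H ≤ commutator (O q)
  G_le : P.Mon ⊓ commutator (O q) ≤ H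
  ne : ¬ commutator (O q) ≤ H
  lev : ∀ (l : Fin (t + 2)) (η : O (pf q1 (t + 1))), (P.D l).R η ∈ H → η ∈ (std P.good1 t).Mon
  dich : 1 ≤ t → ∀ L : Subgroup (O (pf q1 (t + 1))), L ≤ commutator (O (pf q1 (t + 1))) →
    (std P.good1 t).Mon ⊓ commutator (O (pf q1 (t + 1))) ≤ L →
    L ≤ (std P.good1 t).Mon ∨ L = commutator (O (pf q1 (t + 1)))

variable (P : Pow q q1 (t + 2))

/-- The slices of the members of `Sᶜ` at the factor `l` are fixed. -/
def Supp (l : Fin (t + 2)) (u : Fin k → Fin k → F) (S : Finset (Fin k)) (g : O q) : Prop :=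
  ∀ j, j ∉ S → ∀ w, app g ((P.D l).tp (u j) w) = (P.D l).tp (u j) w

variable {P}

theorem Supp.mul {l : Fin (t + 2)} {u : Fin k → Fin k → F} {S : Finset (Fin k)} {g h : O q}
    (hg : P.Supp l u S g) (hh : P.Supp l u S h) : P.Supp l u S (g * h) := fun j hj w => by
  rw [app_mul, hh j hj w, hg j hj w]

theorem Supp.inv {l : Fin (t + 2)} {u : Fin k → Fin k → F} {S : Finset (Fin k)} {g : O q}
    (hg : P.Supp l u S g) : P.Supp l u S g⁻¹ := fun j hj w => by
  apply app_injective g
  rw [app_app_inv, hg j hj w]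

theorem Supp.refr {l : Fin (t + 2)} {u u' : Fin k → Fin k → F} {S : Finset (Fin k)} {g : O q}
    (hR : Refr q1 u u' S) (hg : P.Supp l u S g) : P.Supp l u' S g := fun j hj w => by
  rw [hR.2.1 j hj]; exact hg j hj w

theorem Supp.mono {l : Fin (t + 2)} {u : Fin k → Fin k → F} {S T : Finset (Fin k)} {g : O q} (h : S ⊆ T)
    (hg : P.Supp l u S g) : P.Supp l u T g := fun j hj => hg j fun h' => hj (h h')

/-- Commutators with elements scalar on the fixed slices. -/
theorem Supp.comm_R {l : Fin (t + 2)} {u : Fin k → Fin k → F} {S : Finset (Fin k)} {g : O q}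
    (hg : P.Supp l u S g) (B : O (pf q1 (t + 1))) :
    P.Supp l u S (g * (P.D l).R B * g⁻¹ * ((P.D l).R B)⁻¹) := fun j hj w => by
  rw [app_mul, app_mul, app_mul, ← map_inv, (P.D l).R_tp, hg.inv j hj, (P.D l).R_tp, hg j hj, app_app_inv]

theorem Supp.conj_R {l : Fin (t + 2)} {u : Fin k → Fin k → F} {S : Finset (Fin k)} {g : O q}
    (hg : P.Supp l u S g) (B : O (pf q1 (t + 1))) :
    P.Supp l u S ((P.D l).R B * g * ((P.D l).R B)⁻¹) := fun j hj w => by
  rw [app_mul, app_mul, ← map_inv, (P.D l).R_tp, hg j hj, (P.D l).R_tp, app_app_inv]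

variable (P)

theorem Supp_L {l : Fin (t + 2)} {u : Fin k → Fin k → F} {S : Finset (Fin k)} {A : O q1}
    (hA : ∀ j, j ∉ S → app A (u j) = u j) : P.Supp l u S (P.sl l A) := fun j hj w => by
  rw [← P.L_eq_sl, (P.D l).L_tp, hA j hj]

theorem D_refl_eq (l : Fin (t + 2)) (x : Fin k → F) : P.sl l (nr q1 x) = negId q * (P.D l).L (refl q1 x) := by
  rw [nr, map_mul, P.sl_negId, ← P.L_eq_sl]

/-- An element commuting with the involution of a vector maps its slice to itself. -/
theorem maps_of_comm {g : O q} {l : Fin (t + 2)} {x : Fin k → F} (hx : q1 x ≠ 0)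
    (hc : g * P.sl l (nr q1 x) = P.sl l (nr q1 x) * g) : P.Maps g l x l x := by
  rw [D_refl_eq] at hc
  have hc' := comm_of_negId hc
  obtain ⟨v₀, hv₀⟩ := exists_frame P.good1.nd P.good1.two
  obtain ⟨v, i, -, hvi, hR⟩ := refr_vec hv₀ Finset.univ (fun j hj => absurd (Finset.mem_univ j) hj) hx
  intro w
  obtain ⟨w', hw'⟩ := (P.D l).swap.mem_col hR.1 i (z := app g ((P.D l).tp x w)) fun j hj y => by
    rw [(P.D l).swap_tp, ← hvi]
    have := (P.D l).swap.orth_of_comm hR.1 (U := {i}) (g := g)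
      (by rw [blockSign_single, hvi]; erw [(P.D l).swap_R]; exact hc') (j := i) (k := j) (by simp [hj]) w y
    rwa [(P.D l).swap_tp, (P.D l).swap_tp] at this
  exact ⟨w', by rw [hw', (P.D l).swap_tp, hvi]⟩

/-- An element mapping an anisotropic slice to itself commutes with the involution of its vector. -/
theorem comm_of_maps {g : O q} {l : Fin (t + 2)} {x : Fin k → F} (hx : q1 x ≠ 0) (h : P.Maps g l x l x) :
    g * P.sl l (nr q1 x) = P.sl l (nr q1 x) * g := by
  obtain ⟨v₀, hv₀⟩ := exists_frame P.good1.nd P.good1.two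
  obtain ⟨v, i, -, hvi, hR⟩ := refr_vec hv₀ Finset.univ (fun j hj => absurd (Finset.mem_univ j) hj) hx
  rw [D_refl_eq]
  refine negId_of_comm ?_
  rw [← hvi, ← blockSign_single (Q := q1) (v := v) i, ← (P.D l).swap_R]
  obtain ⟨φ, hφ, hφg⟩ := (P.D l).swap.lift_slice (g := g) (x := x) (y := x)
    (fun h0 => hx (by rw [h0, QuadraticMap.map_zero])) (fun h0 => hx (by rw [h0, QuadraticMap.map_zero]))
    fun w => by
      obtain ⟨w', hw'⟩ := h w
      exact ⟨w', by rw [(P.D l).swap_tp, (P.D l).swap_tp]; exact hw'⟩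
  have hR1 : IsFrame (P.D l).swap.q2 v := hR.1
  refine (P.D l).swap.comm_of_orth hR1 fun a b hab y y' => ?_
  simp only [Finset.mem_singleton] at hab
  by_cases ha : a = i
  · subst ha
    rw [hvi, hφg, (P.D l).swap.polar_tp, ← hvi, hR1.orth a b fun e => (hab.1 rfl) e.symm, mul_zero]
  · have hb : b = i := not_not.1 fun e => ha (hab.2 e)
    subst hb
    obtain ⟨z, rfl⟩ := hφ.2 y'
    rw [hvi, ← hφg, polar_app, (P.D l).swap.polar_tp, ← hvi, hR1.orth a b ha, mul_zero]

/-- An element conjugating the involution of a vector into the factor group maps its slice to a slice. -/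
theorem maps_of_conj {g : O q} {l : Fin (t + 2)} {x : Fin k → F} (hx : q1 x ≠ 0) {B : O q1}
    (h : g * P.sl l (nr q1 x) * g⁻¹ = P.sl l B) : ∃ x', x' ≠ 0 ∧ P.Maps g l x l x' := by
  have h' : g * (P.D l).swap.R (refl q1 x) * g⁻¹ = (P.D l).swap.R (negId q1 * B) := by
    rw [(P.D l).swap_R, (P.D l).swap_R, map_mul, P.L_eq_sl l B, ← h, P.L_eq_sl l (negId q1), P.sl_negId,
      D_refl_eq, ← mul_assoc g, ← negId_comm g, mul_assoc (negId q) g, mul_assoc (negId q) (g * _) g⁻¹,
      ← mul_assoc (negId q) (negId q), negId_mul_self, one_mul]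
  obtain ⟨x', hx', hm⟩ := (P.D l).swap.map_refl hx h'
  refine ⟨x', hx', fun w => ?_⟩
  obtain ⟨w', hw'⟩ := hm w
  exact ⟨w', by rw [(P.D l).swap_tp, (P.D l).swap_tp] at hw'; exact hw'⟩

/-- A map between slices of anisotropic vectors is an isometry of the other factors. -/
theorem maps_iso {g : O q} {l : Fin (t + 2)} {x x' : Fin k → F} (hx : q1 x ≠ 0) (hx' : x' ≠ 0)
    (h : P.Maps g l x l x') : ∃ (B : O (pf q1 (t + 1))) (c : F), c ≠ 0 ∧ q1 (c • x') = q1 x ∧
      ∀ w, app g ((P.D l).tp x w) = (P.D l).tp (c • x') (app B w) := by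
  obtain ⟨B, c, hc, hq, hB⟩ := (P.D l).swap.exists_iso (g := g) hx hx' fun w => by
    obtain ⟨w', hw'⟩ := h w
    exact ⟨w', by rw [(P.D l).swap_tp, (P.D l).swap_tp]; exact hw'⟩
  exact ⟨B, c, hc, hq, fun w => by
    have := hB w
    rwa [(P.D l).swap_tp, (P.D l).swap_tp] at this⟩

/-- The involution of an admissible vector of a factor. -/
theorem nr_mem (l : Fin (t + 2)) {v : Fin k → F} (hv : Adm q1 v) :
    P.sl l (nr q1 v) ∈ P.Mon ⊓ commutator (O q) :=
  Subgroup.mem_inf.2 ⟨P.sl_mem _ _, P.sl_omega _ hv.2⟩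

theorem sl_invol (l : Fin (t + 2)) (v : Fin k → F) : P.sl l (nr q1 v) * P.sl l (nr q1 v) = 1 := by
  rw [← map_mul, nr_invol, map_one]

theorem sl_inv (l : Fin (t + 2)) (v : Fin k → F) : (P.sl l (nr q1 v))⁻¹ = P.sl l (nr q1 v) :=
  inv_eq_of_mul_eq_one_right (P.sl_invol l v)

variable {P} {H : Subgroup (O q)}

theorem Over.nr_H (hO : P.Over H) (l : Fin (t + 2)) {v : Fin k → F} (hv : Adm q1 v) : P.sl l (nr q1 v) ∈ H :=
  hO.G_le (P.nr_mem l hv)

theorem comm_mem {g x : O q} (hg : g ∈ H) (hx : x ∈ H) : g * x * g⁻¹ * x⁻¹ ∈ H :=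
  H.mul_mem (H.mul_mem (H.mul_mem hg hx) (H.inv_mem hg)) (H.inv_mem hx)

/-- An element commuting with the admissible involutions of one factor is monomial. -/
theorem Over.mon_of_comm (hO : P.Over H) {g : O q} (hg : g ∈ H) (n : Fin (t + 2))
    (h : ∀ v, Adm q1 v → g * P.sl n (nr q1 v) = P.sl n (nr q1 v) * g) : g ∈ P.Mon := by
  obtain ⟨η, rfl⟩ := exists_R_of_comm (P.D n) fun v hv => by rw [P.L_eq_sl]; exact h v hv
  exact P.R_mem_Mon n (hO.lev n η hg)

/-- A commutator with an involution of another factor lying in the factor `l` is trivial. -/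
theorem comm_of_L {g : O q} {l n : Fin (t + 2)} (hn : n ≠ l) {v : Fin k → F} {A : O q1}
    (h : g * P.sl n (nr q1 v) * g⁻¹ = P.sl l A * P.sl n (nr q1 v)) :
    g * P.sl n (nr q1 v) = P.sl n (nr q1 v) * g := by
  obtain ⟨j, rfl⟩ := Fin.exists_succAbove_eq hn
  rw [← P.R_sl, ← P.L_eq_sl] at h
  set B := (std P.good1 t).sl j (TensorPowOdd.nr q1 v)
  have hB : B * B = 1 := by rw [← map_mul, nr_invol, map_one]
  have hA : A * A = 1 := ((P.D l).ten_invol (B := B) (by
    rw [(P.D l).ten_eq, ← h, show g * (P.D l).R B * g⁻¹ * (g * (P.D l).R B * g⁻¹) =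
      g * ((P.D l).R B * (P.D l).R B) * g⁻¹ by group, ← map_mul, hB, map_one, mul_one, mul_inv_cancel])).1
  rw [left_trivial (P.D l) hA hB h, map_one, one_mul, mul_inv_eq_iff_eq_mul] at h
  rw [← P.R_sl]
  exact h

end Pow

end CfsgLib.TensorPowOdd
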