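import Mathlib
import Cfsg.Agent.Lib.TensorPowOdd.Ctx
import Cfsg.Agent.Lib.POmega.Simple

/-!
A non-trivial group of isometries normalised by the monomial ones contains an element commuting with a factor.
-/

set_option autoImplicit false
set_option linter.unusedSectionVars false

namespace CfsgLib.TensorPowOdd

open Matrix QuadraticMap CfsgLib.Orth CfsgLib.TensorOdd

variable {F : Type*} [Field F] [Fintype F] {k : ℕ} {q1 : QuadraticForm F (Fin k → F)}

theorem exists_not_comm (hg : IsGood q1) {a : O q1} (ha : ¬ IsScalar a) :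
    ∃ v, Adm q1 v ∧ a * nr q1 v ≠ nr q1 v * a := by
  by_contra hno
  push Not at hno
  exact ha (scalar_of_adm hg fun v hv => comm_of_negId (hno v hv))

theorem nr_not_scalar (hg : IsGood q1) {v : Fin k → F} (hv : q1 v ≠ 0) : ¬ IsScalar (nr q1 v) := by
  intro h
  obtain ⟨w, hw, hw0⟩ : ∃ w, polar q1 w v = 0 ∧ w ≠ 0 := by
    obtain ⟨v₀, hv₀⟩ := exists_frame hg.nd hg.two
    obtain ⟨u, i, -, hui, hR⟩ := refr_vec hv₀ Finset.univ (fun j hj => absurd (Finset.mem_univ j) hj) hv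
    obtain ⟨j, hj⟩ := @_root_.exists_ne _ (Fin.nontrivial_iff_two_le.2 (by have := three_le hg; omega)) i
    exact ⟨u j, hui ▸ hR.1.orth j i hj, hR.1.li.ne_zero j⟩
  rcases scalar_one_or hg h with e | e
  · have h' := congrArg (fun g => app g w) e
    simp only [nr, app_mul, app_refl_of_ortho hw, app_negId, app_one] at h'
    have h2 : (2 : F) • w = 0 := by linear_combination (norm := module) -h'
    exact hw0 ((smul_eq_zero.1 h2).resolve_left hg.two)
  · have h' := congrArg (fun g => app g v) e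
    simp only [nr, app_mul, app_refl_self hv, app_negId, neg_neg] at h'
    have h2 : (2 : F) • v = 0 := by linear_combination (norm := module) h'
    exact hv (by rw [(smul_eq_zero.1 h2).resolve_left hg.two, QuadraticMap.map_zero])

theorem exists_adm (hg : IsGood q1) : ∃ v, Adm q1 v := by
  obtain ⟨u, -, hu⟩ := exists_adm_frame hg
  exact ⟨u ⟨0, by have := three_le hg; omega⟩, hu _⟩

variable {ι : Type} [Fintype ι] [DecidableEq ι] {q : QuadraticForm F (ι → F)} {t : ℕ}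

namespace Pow

variable (P : Pow q q1 (t + 2))

theorem ev_scalar {as : Fin (t + 2) → O q1} (h : ∀ i, IsScalar (as i)) : P.ev as = 1 ∨ P.ev as = negId q := by
  let K : Subgroup (O q) :=
    { carrier := {g | g = 1 ∨ g = negId q}
      one_mem' := Or.inl rfl
      mul_mem' := by
        rintro a b (rfl | rfl) (rfl | rfl) <;> simp [negId_mul_self]
      inv_mem' := by
        rintro a (rfl | rfl)
        · exact Or.inl inv_one
        · exact Or.inr (inv_eq_of_mul_eq_one_right negId_mul_self) }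
  exact Subgroup.pi_mem_of_mulSingle_mem (H := K.comap P.ev) as fun i => by
    show P.sl i (as i) ∈ K
    rcases scalar_one_or P.good1 (h i) with e | e
    · exact Or.inl (by rw [e, map_one])
    · exact Or.inr (by rw [e, P.sl_negId])

/-- A monomial group normalised by the monomial elements of `Ω` meets a factor group. -/
theorem exists_slot_of_mon (Γ : Subgroup (O q)) (hΓΩ : Γ ≤ commutator (O q)) (hΓM : Γ ≤ P.Mon)
    (hnorm : ∀ x ∈ P.Mon ⊓ commutator (O q), ∀ γ ∈ Γ, x * γ * x⁻¹ ∈ Γ) (hne : Γ ≠ ⊥) :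
    ∃ i a, a ≠ 1 ∧ P.sl i a ∈ Γ := by
  have hcomm : ∀ γ ∈ Γ, ∀ j, ∀ v, Adm q1 v →
      γ * P.sl j (TensorPowOdd.nr q1 v) * γ⁻¹ * (P.sl j (TensorPowOdd.nr q1 v))⁻¹ ∈ Γ := fun γ hγ j v hv => by
    have h := Γ.mul_mem hγ (hnorm _ (P.nr_mem j hv) γ⁻¹ (Γ.inv_mem hγ))
    simpa [mul_assoc] using h
  obtain ⟨⟨γ, hγ⟩, hne'⟩ := (Subgroup.ne_bot_iff_exists_ne_one).1 hne
  have hγ1 : γ ≠ 1 := fun h => hne' (Subtype.ext h)
  obtain ⟨σ, as, rfl⟩ := hΓM hγ
  by_cases hσ : σ = 1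
  · subst hσ
    rw [perm_one, mul_one] at hγ hγ1
    obtain ⟨j, hj⟩ : ∃ j, ¬ IsScalar (as j) := by
      by_contra hno
      push Not at hno
      rcases P.ev_scalar hno with e | e
      · exact hγ1 e
      · exact negId_notMem P.good (e ▸ hΓΩ hγ)
    obtain ⟨v, hv, hva⟩ := exists_not_comm P.good1 hj
    refine ⟨j, as j * TensorPowOdd.nr q1 v * (as j)⁻¹ * (TensorPowOdd.nr q1 v)⁻¹, fun h => hva ?_, ?_⟩
    · rwa [mul_inv_eq_one, mul_inv_eq_iff_eq_mul] at h
    · have h := hcomm _ hγ j v hv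
      have e := P.conj_sl 1 as j (TensorPowOdd.nr q1 v)
      rw [perm_one, mul_one, Equiv.Perm.one_apply] at e
      rwa [e, ← map_inv, ← map_mul] at h
  · obtain ⟨i, hi⟩ : ∃ i, σ i ≠ i := by
      by_contra hno
      push Not at hno
      exact hσ (Equiv.ext fun i => hno i)
    obtain ⟨v, hv⟩ := exists_adm P.good1
    have h := hcomm _ hγ (σ i) v hv
    rw [P.conj_sl, sl_inv] at h
    set c := P.sl i (as i * TensorPowOdd.nr q1 v * (as i)⁻¹) * P.sl (σ i) (TensorPowOdd.nr q1 v)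
    obtain ⟨w, hw, hvw⟩ := exists_not_comm P.good1 (nr_not_scalar P.good1 hv.1)
    refine ⟨σ i, TensorPowOdd.nr q1 v * TensorPowOdd.nr q1 w * (TensorPowOdd.nr q1 v)⁻¹ * (TensorPowOdd.nr q1 w)⁻¹,
      fun e => hvw ?_, ?_⟩
    · rwa [mul_inv_eq_one, mul_inv_eq_iff_eq_mul] at e
    · have h2 := hcomm _ h (σ i) w hw
      set a := as i * TensorPowOdd.nr q1 v * (as i)⁻¹
      set d := TensorPowOdd.nr q1 v
      set d' := TensorPowOdd.nr q1 w
      have hc : Commute (P.sl i a) (P.sl (σ i) (d * d' * d⁻¹)) := P.sl_comm (Ne.symm hi) _ _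
      have e : c * P.sl (σ i) d' * c⁻¹ = P.sl (σ i) (d * d' * d⁻¹) := by
        rw [show c * P.sl (σ i) d' * c⁻¹ = P.sl i a * (P.sl (σ i) d * P.sl (σ i) d' * (P.sl (σ i) d)⁻¹) *
          (P.sl i a)⁻¹ by simp only [c, a, d]; group, ← map_inv (P.sl (σ i)), ← map_mul, ← map_mul, hc.eq,
          mul_inv_cancel_right]
      rwa [e, ← map_inv, ← map_mul] at h2

/-- A non-trivial group normalised by the monomial elements contains a non-trivial element commuting with a
factor. -/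
theorem exists_comm_slot (h7 : 7 ≤ Fintype.card ι) (Γ : Subgroup (O q)) (hΓΩ : Γ ≤ commutator (O q))
    (hnorm : ∀ x ∈ P.Mon ⊓ commutator (O q), ∀ γ ∈ Γ, x * γ * x⁻¹ ∈ Γ) (hne : Γ ≠ ⊥)
    (hdich : Γ ⊔ (P.Mon ⊓ commutator (O q)) ≤ P.Mon ∨ Γ ⊔ (P.Mon ⊓ commutator (O q)) = commutator (O q)) :
    ∃ γ ∈ Γ, γ ≠ 1 ∧ ∃ n, ∀ v, Adm q1 v → γ * P.sl n (TensorPowOdd.nr q1 v) = P.sl n (TensorPowOdd.nr q1 v) * γ := by
  suffices h : ∃ i a, a ≠ 1 ∧ P.sl i a ∈ Γ by
    obtain ⟨i, a, ha, h⟩ := h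
    obtain ⟨n, hn⟩ := _root_.exists_ne i
    refine ⟨_, h, fun e => ha (P.sl_injective i (e.trans (map_one _).symm)), n, fun v _ => ?_⟩
    exact P.sl_comm hn.symm _ _
  rcases hdich with hM | hΩ
  · exact P.exists_slot_of_mon Γ hΓΩ (le_sup_left.trans hM) hnorm hne
  -- normalised by `Ω`
  have hnΩ : commutator (O q) ≤ Subgroup.normalizer (Γ : Set (O q)) := by
    rw [← hΩ]
    refine sup_le Subgroup.le_normalizer fun x hx => ?_
    rw [Subgroup.mem_normalizer_iff]
    refine fun γ => ⟨fun h => hnorm x hx γ h, fun h => ?_⟩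
    have := hnorm x⁻¹ ((P.Mon ⊓ commutator (O q)).inv_mem hx) _ h
    simpa [mul_assoc] using this
  have hN : (Γ.subgroupOf (commutator (O q))).Normal :=
    ⟨fun γ hγ x => (Subgroup.mem_normalizer_iff.1 (hnΩ x.2) γ.1).1 hγ⟩
  have htop : Γ.subgroupOf (commutator (O q)) = ⊤ := by
    rcases CfsgLib.POmega.normal_le_center_or_top P.good.nd h7 (Γ.subgroupOf (commutator (O q))) with h | h
    · exfalso
      refine hne ((Subgroup.eq_bot_iff_forall _).2 fun γ hγ => ?_)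
      obtain ⟨e, -, he⟩ := CfsgLib.POmega.center_scalar P.good.nd h7 (g := ⟨γ, hΓΩ hγ⟩) (h hγ)
      exact eq_one_of_scalar P.good ⟨e, he⟩ (hΓΩ hγ)
    · exact h
  obtain ⟨v, hadm⟩ := exists_adm P.good1
  exact ⟨0, TensorPowOdd.nr q1 v, fun e => nr_not_scalar P.good1 hadm.1 ⟨1, fun x => by rw [e, app_one, one_smul]⟩,
    Subgroup.subgroupOf_eq_top.1 htop (P.sl_omega 0 hadm.2)⟩

end Pow

end CfsgLib.TensorPowOdd
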