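import Mathlib
import Cfsg.Agent.Lib.TensorOdd.Irred
import Cfsg.Agent.Lib.POmega.Simple
import Cfsg.Agent.Lib.GeomClasses.OrthEich
import Cfsg.Agent.Lib.TensorMax63.Space

/-!
A non-scalar subgroup normalised by the derived group of an orthogonal group of odd dimension at least three
contains a root group with anisotropic parameter.
-/

set_option autoImplicit false
set_option linter.unusedSectionVars false

namespace CfsgLib.TensorPowOdd

open Matrix QuadraticMap CfsgLib.Orth CfsgLib.TensorOdd

variable {ι : Type} [Fintype ι] [DecidableEq ι] {F : Type*} [Field F] [Fintype F]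
  {Q : QuadraticForm F (ι → F)}

/-- A singular plane needs five dimensions. -/
theorem five_of_plane (hg : IsGood Q) {u w : ι → F} (hu0 : u ≠ 0) (hu : Q u = 0) (hw : Q w = 0)
    (hp : polar Q u w = 0) (hind : w ∉ Submodule.span F {u}) : 5 ≤ Fintype.card ι := by
  by_contra hlt
  have h3 : Fintype.card ι = 3 := by
    obtain ⟨j, hj⟩ := hg.odd
    have := hg.three
    omega
  let W := Submodule.span F (Set.range ![u, w])
  have hli : LinearIndependent F ![u, w] := by
    rw [LinearIndependent.pair_iff' hu0]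
    exact fun a ha => hind (ha ▸ Submodule.smul_mem _ a (Submodule.mem_span_singleton_self _))
  have hW : Module.finrank F W = 2 := (finrank_span_eq_card hli).trans (Fintype.card_fin 2)
  have hle : W ≤ LinearMap.BilinForm.orthogonal Q.polarBilin W := by
    intro x hx
    refine LinearMap.BilinForm.mem_orthogonal_iff.2 fun y hy => ?_
    have key : ∀ i j : Fin 2, polar Q (![u, w] i) (![u, w] j) = 0 := fun i j => by
      fin_cases i <;> fin_cases j <;> simp [polar_self', hu, hw, hp, polar_comm (f := ⇑Q) w u]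
    show polar Q y x = 0
    induction hy using Submodule.span_induction with
    | mem y hy =>
      obtain ⟨i, rfl⟩ := hy
      induction hx using Submodule.span_induction with
      | mem x hx => obtain ⟨j, rfl⟩ := hx; exact key i j
      | zero => exact polar_zero_right _ _
      | add a b _ _ ha hb => rw [polar_add_right, ha, hb, add_zero]
      | smul c a _ ha => rw [polar_smul_right, ha, smul_zero]
    | zero => exact polar_zero_left _ _
    | add a b _ _ ha hb => rw [polar_add_left, ha, hb, add_zero]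
    | smul c a _ ha => rw [polar_smul_left, ha, smul_zero]
  have h1 := Submodule.finrank_mono hle
  rw [LinearMap.BilinForm.finrank_orthogonal hg.nd, Module.finrank_fintype_fun_eq_card, hW] at h1
  omega

/-- Eichler elements lie in `Ω`. -/
theorem eich_omega (hg : IsGood Q) {u a : ι → F} (hu : Q u = 0) (ha : polar Q u a = 0) :
    eich Q u a ∈ commutator (O Q) := by
  by_cases hu0 : u = 0
  · rw [hu0, eich_zero_left]; exact one_mem _
  by_cases hqa : Q a = 0
  · by_cases hmem : a ∈ Submodule.span F {u}
    · obtain ⟨c, rfl⟩ := Submodule.mem_span_singleton.1 hmem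
      rw [eich_smul_self hu]
      exact one_mem _
    · exact CfsgLib.POmega.eich_mem_commutator hg.nd (five_of_plane hg hu0 hu hqa ha hmem) hu ha
  · exact eich_mem_omega hg hu ha hqa

/-- A singular vector, a partner and an anisotropic vector orthogonal to both. -/
theorem exists_triple (hg : IsGood Q) :
    ∃ e f a : ι → F, Q e = 0 ∧ Q f = 0 ∧ polar Q e f = 1 ∧ polar Q e a = 0 ∧ polar Q f a = 0 ∧ Q a ≠ 0 := by
  obtain ⟨e, -, he0, he⟩ := CfsgLib.POmega.exists_singular_mem (Q := Q) (⊤ : Submodule F (ι → F))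
    (by rw [finrank_top, Module.finrank_fintype_fun_eq_card]; exact hg.three)
  obtain ⟨f, hf, hqf⟩ := CfsgLib.POmega.exists_partner hg.nd he he0
  obtain ⟨v₀, hv₀⟩ := exists_frame hg.nd hg.two
  have hs : Q (e + f) ≠ 0 := by
    rw [QuadraticMap.map_add ⇑Q, he, hqf, hf]; simp
  obtain ⟨v, i, -, hvi, hR⟩ := refr_vec hv₀ Finset.univ (fun j hj => absurd (Finset.mem_univ j) hj) hs
  have hd : Q (e - f) ≠ 0 := by
    rw [sub_eq_add_neg, QuadraticMap.map_add ⇑Q, QuadraticMap.map_neg, polar_neg_right, he, hqf, hf]; simp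
  have hblk : InBlock Q v (Finset.univ.erase i) (e - f) := fun j hj => by
    simp only [Finset.mem_erase, Finset.mem_univ, and_true, not_not] at hj
    rw [hj, hvi]
    simp only [polar_sub_left, polar_add_right, polar_self', he, hqf, hf, polar_comm (f := ⇑Q) f e]
    ring
  obtain ⟨v', j, hj, hvj, hR'⟩ := refr_vec hR.1 _ hblk hd
  obtain ⟨l, hl⟩ := Finset.card_pos.1 (show 0 < ((Finset.univ.erase i).erase j).card by
    rw [Finset.card_erase_of_mem hj, Finset.card_erase_of_mem (Finset.mem_univ i), Finset.card_univ]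
    have := hg.three
    omega)
  simp only [Finset.mem_erase, Finset.mem_univ, and_true] at hl
  have hvi' : v' i = e + f := by rw [hR'.2.1 i (Finset.notMem_erase i _), hvi]
  have h1 := hR'.1.orth i l hl.2.symm
  have h2 := hR'.1.orth j l hl.1.symm
  rw [hvi', polar_add_left] at h1
  rw [hvj, polar_sub_left] at h2
  refine ⟨e, f, v' l, he, hqf, hf, ?_, ?_, hR'.1.nz l⟩
  · apply mul_left_cancel₀ hg.two; linear_combination h1 + h2
  · apply mul_left_cancel₀ hg.two; linear_combination h1 - h2

/-- The product of root elements exchanging the lines of `e` and `f`. -/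
noncomputable def wEl (Q : QuadraticForm F (ι → F)) (e f a : ι → F) : O Q :=
  eich Q e a * eich Q f ((Q a)⁻¹ • a) * eich Q e a

theorem app_wEl (hg : IsGood Q) {e f a : ι → F} (he : Q e = 0) (hf : Q f = 0) (hef : polar Q e f = 1)
    (hea : polar Q e a = 0) (hfa : polar Q f a = 0) (ha : Q a ≠ 0) :
    app (wEl Q e f a) e = -((Q a)⁻¹ • f) ∧ app (wEl Q e f a) f = -(Q a • e) ∧ app (wEl Q e f a) a = -a := by
  have hae : polar Q a e = 0 := by rw [polar_comm, hea]
  have haf : polar Q a f = 0 := by rw [polar_comm, hfa]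
  have hfe : polar Q f e = 1 := by rw [polar_comm, hef]
  have hb : polar Q f ((Q a)⁻¹ • a) = 0 := by rw [polar_smul_right, hfa, smul_zero]
  have hee : polar Q e e = 0 := by rw [polar_self', he, mul_zero]
  have hff : polar Q f f = 0 := by rw [polar_self', hf, mul_zero]
  have hQb : Q ((Q a)⁻¹ • a) = (Q a)⁻¹ := by
    rw [QuadraticMap.map_smul, smul_eq_mul]; field_simp
  have E1 : app (eich Q e a) e = e := by rw [app_eich he hea, hee, polar_comm (f := ⇑Q) e a, hae]; simp
  have E2 : app (eich Q e a) f = f + a - Q a • e := by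
    rw [app_eich he hea, hfe, hfa]; module
  have E3 : app (eich Q e a) a = a - (2 * Q a) • e := by
    rw [app_eich he hea, hae, polar_self']; module
  have F1 : app (eich Q f ((Q a)⁻¹ • a)) e = e + (Q a)⁻¹ • a - (Q a)⁻¹ • f := by
    rw [app_eich hf hb, hef, polar_smul_right, hea, hQb, smul_zero]; module
  have F2 : app (eich Q f ((Q a)⁻¹ • a)) f = f := by
    rw [app_eich hf hb, hff, polar_smul_right, hfa, smul_zero]; simp
  have F3 : app (eich Q f ((Q a)⁻¹ • a)) a = a - (2 : F) • f := by
    rw [app_eich hf hb, haf, polar_smul_right, polar_self', smul_eq_mul,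
      show (Q a)⁻¹ * (2 * Q a) = 2 by field_simp]
    module
  have h2 : (2 * Q a) * (Q a)⁻¹ = 2 := by field_simp
  have h1 : Q a * (Q a)⁻¹ = 1 := mul_inv_cancel₀ ha
  refine ⟨?_, ?_, ?_⟩ <;>
    simp only [wEl, app_mul, E1, E2, E3, F1, F2, F3, map_add, map_sub, map_smul, smul_sub, smul_add, smul_smul] <;>
    match_scalars <;> field_simp <;> ring

theorem wEl_mem (hg : IsGood Q) {e f a : ι → F} (he : Q e = 0) (hf : Q f = 0)
    (hea : polar Q e a = 0) (hfa : polar Q f a = 0) : wEl Q e f a ∈ commutator (O Q) :=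
  mul_mem (mul_mem (eich_omega hg he hea) (eich_omega hg hf (by rw [polar_smul_right, hfa, smul_zero])))
    (eich_omega hg he hea)

/-- An isometry fixing every singular line is a scalar. -/
theorem scalar_of_singular_lines (hg : IsGood Q) {g : O Q}
    (h : ∀ u, Q u = 0 → ∃ t : F, app g u = t • u) : IsScalar g := by
  obtain ⟨e, f, a, he, hf, hef, hea, hfa, ha⟩ := exists_triple hg
  have he0 : e ≠ 0 := fun h0 => one_ne_zero (by rw [← hef, h0, polar_zero_left])
  have hff : polar Q f f = 0 := by rw [polar_self', hf, mul_zero]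
  have hee : polar Q e e = 0 := by rw [polar_self', he, mul_zero]
  obtain ⟨te, hte⟩ := h e he
  -- the partners of `e` have the eigenvalue of `e`
  have key : ∀ f, Q f = 0 → polar Q e f = 1 → (∀ a, polar Q e a = 0 → polar Q f a = 0 → Q a ≠ 0 →
      app g f = te • f) := by
    intro f hf hef a hea hfa ha
    obtain ⟨tf, htf⟩ := h f hf
    have hQ : Q (f + a + (-Q a) • e) = 0 := by
      simp only [QuadraticMap.map_add ⇑Q, QuadraticMap.map_smul, polar_add_left, polar_smul_right, hf, he, hfa,
        polar_comm (f := ⇑Q) f e, hef, polar_comm (f := ⇑Q) a e, hea, smul_eq_mul]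
      ring
    obtain ⟨tg, htg⟩ := h _ hQ
    have hga : app g a = tg • (f + a + (-Q a) • e) - tf • f - (-Q a * te) • e := by
      rw [← htg, map_add, map_add, map_smul, htf, hte]; module
    have hf0 : polar Q f f = 0 := by rw [polar_self', hf, mul_zero]
    have e1 : polar Q (app g a) (app g e) = 0 := by rw [polar_app, polar_comm, hea]
    have e2 : polar Q (app g a) (app g f) = 0 := by rw [polar_app, polar_comm, hfa]
    rw [hga, hte] at e1
    rw [hga, htf] at e2
    simp only [polar_sub_left, polar_smul_left, polar_add_left, polar_smul_right, hee, hf0, hef,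
      polar_comm (f := ⇑Q) f e, polar_comm (f := ⇑Q) a e, polar_comm (f := ⇑Q) a f, hea, hfa, smul_eq_mul] at e1 e2
    have hte0 : te ≠ 0 := fun h0 => he0 (app_injective g (by rw [hte, h0, zero_smul, map_zero]))
    have htf0 : tf ≠ 0 := fun h0 => one_ne_zero (α := F) (by
      rw [← hef, ← polar_app g, htf, h0, zero_smul, polar_zero_right])
    have h1 : tg = tf := by
      have : te * (tg - tf) = 0 := by linear_combination e1
      exact sub_eq_zero.1 ((mul_eq_zero.1 this).resolve_left hte0)
    have h3 : tg = te := by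
      have : (tf * Q a) * (tg - te) = 0 := by linear_combination -e2
      exact sub_eq_zero.1 ((mul_eq_zero.1 this).resolve_left (mul_ne_zero htf0 ha))
    rw [htf, ← h1, h3]
  have hf1 : app g f = te • f := key f hf hef a hea hfa ha
  -- every singular vector has it
  have hpartner : ∀ z, Q z = 0 → polar Q e z = 1 → app g z = te • z := by
    intro z hz hez
    refine key z hz hez (a + (-polar Q z a) • e) ?_ ?_ ?_
    · rw [polar_add_right, polar_smul_right, hea, hee]; simp
    · rw [polar_add_right, polar_smul_right, polar_comm (f := ⇑Q) z e, hez]; simp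
    · rw [QuadraticMap.map_add ⇑Q, QuadraticMap.map_smul, he, polar_smul_right, polar_comm (f := ⇑Q) a e, hea]
      simpa using ha
  have hall : ∀ z, Q z = 0 → app g z = te • z := by
    intro z hz
    rcases eq_or_ne (polar Q e z) 0 with h0 | h0
    · have hQ : Q (f + z + (-polar Q f z) • e) = 0 := by
        simp only [QuadraticMap.map_add ⇑Q, QuadraticMap.map_smul, polar_add_left, polar_smul_right, hf, he, hz,
          polar_comm (f := ⇑Q) f e, hef, polar_comm (f := ⇑Q) z e, h0, smul_eq_mul]
        ring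
      have := hpartner _ hQ (by
        simp only [polar_add_right, polar_smul_right, hef, h0, hee, smul_eq_mul]; ring)
      rw [map_add, map_add, map_smul, hf1, hte] at this
      linear_combination (norm := module) this
    · have := hpartner ((polar Q e z)⁻¹ • z) (by rw [QuadraticMap.map_smul, hz, smul_zero])
        (by rw [polar_smul_right, smul_eq_mul, inv_mul_cancel₀ h0])
      rw [map_smul, smul_comm] at this
      exact smul_right_injective _ (inv_ne_zero h0) this
  refine ⟨te, fun x => ?_⟩
  have hle : Submodule.span F {v : ι → F | Q v = 0} ≤ LinearMap.ker (app g - te • LinearMap.id) :=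
    Submodule.span_le.2 fun z hz => by simp [hall z hz]
  have hsp := CfsgLib.POmega.span_singular (Q := Q) hg.nd hg.three
  have hx := hle (hsp ▸ Submodule.mem_top : x ∈ Submodule.span F {v : ι → F | Q v = 0})
  simpa [sub_eq_zero] using hx

/-- A non-scalar group normalised by `Ω` contains a root group with anisotropic parameter. -/
theorem exists_root (hg : IsGood Q) (Γ : Subgroup (O Q)) (hΓ : Γ ≤ commutator (O Q))
    (hnorm : ∀ x ∈ commutator (O Q), ∀ γ ∈ Γ, x * γ * x⁻¹ ∈ Γ) (hne : Γ ≠ ⊥) :
    ∃ e f a : ι → F, Q e = 0 ∧ Q f = 0 ∧ polar Q e f = 1 ∧ polar Q e a = 0 ∧ polar Q f a = 0 ∧ Q a ≠ 0 ∧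
      ∀ s : F, eich Q e (s • a) ∈ Γ := by
  classical
  let R : (ι → F) → (ι → F) → Prop := fun u w => ∃ γ ∈ Γ, ∃ t : F, t ≠ 0 ∧ app γ u = t • w
  have hsymm : ∀ {u w}, R u w → R w u := by
    rintro u w ⟨γ, hγ, t, ht, e⟩
    refine ⟨γ⁻¹, inv_mem hγ, t⁻¹, inv_ne_zero ht, ?_⟩
    have := congrArg (app γ⁻¹) e
    rw [app_inv_app, map_smul] at this
    rw [this, smul_smul, inv_mul_cancel₀ ht, one_smul]
  have htrans : ∀ {u v w}, R u v → R v w → R u w := by
    rintro u v w ⟨γ, hγ, t, ht, e⟩ ⟨γ', hγ', t', ht', e'⟩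
    refine ⟨γ' * γ, mul_mem hγ' hγ, t * t', mul_ne_zero ht ht', ?_⟩
    rw [app_mul, e, map_smul, e', smul_smul]
  have hmove : ∀ {u w}, R u w → ∀ h ∈ commutator (O Q), R (app h u) (app h w) := by
    rintro u w ⟨γ, hγ, t, ht, e⟩ h hh
    exact ⟨h * γ * h⁻¹, hnorm h hh γ hγ, t, ht, by rw [app_mul, app_mul, app_inv_app, e, map_smul]⟩
  have hscal : ∀ {u w} {c : F}, c ≠ 0 → (R u (c • w) ↔ R u w) := by
    intro u w c hc
    constructor
    · rintro ⟨γ, hγ, t, ht, e⟩
      exact ⟨γ, hγ, t * c, mul_ne_zero ht hc, by rw [e, smul_smul]⟩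
    · rintro ⟨γ, hγ, t, ht, e⟩
      exact ⟨γ, hγ, t / c, div_ne_zero ht hc, by rw [e, smul_smul, div_mul_cancel₀ _ hc]⟩
  -- two related singular vectors which are not orthogonal
  obtain ⟨u, w, hu, hw, hp, hR⟩ : ∃ u w, Q u = 0 ∧ Q w = 0 ∧ polar Q u w ≠ 0 ∧ R u w := by
    obtain ⟨⟨γ, hγ⟩, hne'⟩ := Subgroup.ne_bot_iff_exists_ne_one.1 hne
    obtain ⟨u, hu, hgu⟩ : ∃ u, Q u = 0 ∧ ∀ t : F, app γ u ≠ t • u := by
      by_contra hno
      push Not at hno
      exact hne' (Subtype.ext (eq_one_of_scalar hg (scalar_of_singular_lines hg hno) (hΓ hγ)))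
    set w := app γ u with hwdef
    have hw : Q w = 0 := by rw [hwdef, Q_app, hu]
    have hR : R u w := ⟨γ, hγ, 1, one_ne_zero, by rw [one_smul]⟩
    by_cases hp : polar Q u w = 0
    · have hu0 : u ≠ 0 := fun h => hgu 0 (by simp [hwdef, h])
      have hind : w ∉ Submodule.span F {u} := fun hmem => by
        obtain ⟨c, hc⟩ := Submodule.mem_span_singleton.1 hmem
        exact hgu c hc.symm
      obtain ⟨r₀, hr1, hr2⟩ := exists_polar_eq_zero_one (Q := Q) hg.nd hind
      set r := r₀ + (-Q r₀) • w with hrdef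
      have hqr : Q r = 0 := by
        rw [hrdef, QuadraticMap.map_add ⇑Q, QuadraticMap.map_smul, polar_smul_right,
          polar_comm (f := ⇑Q) r₀ w, hr2, hw]
        simp
      have hur : polar Q u r = 0 := by rw [hrdef, polar_add_right, polar_smul_right, hr1, hp]; simp
      have hwr : polar Q w r = 1 := by
        rw [hrdef, polar_add_right, polar_smul_right, polar_self', hw, hr2]; simp
      obtain ⟨b, hb, hqb⟩ := CfsgLib.POmega.exists_aniso_perp hg.nd ![u, r]
        (by have := five_of_plane hg hu0 hu hw hp hind; omega)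
      have hub : polar Q u b = 0 := hb 0
      have hrb : polar Q r b = 0 := hb 1
      have hEu : app (eich Q r b) u = u := by
        rw [app_eich hqr hrb, hur, polar_comm (f := ⇑Q) u b, ← polar_comm (f := ⇑Q) u b, hub]; simp
      have h1 := hmove hR _ (eich_omega hg hqr hrb)
      rw [hEu] at h1
      refine ⟨w, _, hw, by rw [Q_app, hw], ?_, htrans (hsymm hR) h1⟩
      rw [app_eich hqr hrb, hwr, polar_add_right, polar_add_right, polar_smul_right, polar_smul_right, hwr,
        polar_self', hw]
      simp only [smul_eq_mul]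
      intro h
      exact hqb (by linear_combination -h)
    · exact ⟨u, w, hu, hw, hp, hR⟩
  have hnon : ∀ {u w y}, Q u = 0 → Q w = 0 → Q y = 0 → polar Q u w ≠ 0 → polar Q u y ≠ 0 → R u w → R u y := by
    intro u w y hu hw hy hp hp' hR
    obtain ⟨h1, h2⟩ := CfsgLib.GeomClasses.OrthEich.app_eich_move (q := Q) hu
      (x := (polar Q u w)⁻¹ • w) (y := (polar Q u y)⁻¹ • y)
      (by rw [QuadraticMap.map_smul, hw, smul_zero]) (by rw [QuadraticMap.map_smul, hy, smul_zero])
      (by rw [polar_smul_left, polar_comm (f := ⇑Q) w u, smul_eq_mul, inv_mul_cancel₀ hp])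
      (by rw [polar_smul_left, polar_comm (f := ⇑Q) y u, smul_eq_mul, inv_mul_cancel₀ hp'])
    have h3 := hmove ((hscal (inv_ne_zero hp)).2 hR) _ (eich_omega hg hu h1)
    rw [h2, app_eich hu h1, polar_self', hu, h1] at h3
    refine (hscal (inv_ne_zero hp')).1 ?_
    simpa using h3
  obtain ⟨f', hf', hqf'⟩ : ∃ f', polar Q u f' = 1 ∧ Q f' = 0 :=
    ⟨(polar Q u w)⁻¹ • w, by rw [polar_smul_right, smul_eq_mul, inv_mul_cancel₀ hp],
      by rw [QuadraticMap.map_smul, hw, smul_zero]⟩
  have hall : ∀ y, Q y = 0 → y ≠ 0 → R y u := by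
    intro y hy hy0
    by_cases huy : polar Q u y = 0
    · by_cases hmem : y ∈ Submodule.span F {u}
      · obtain ⟨c, rfl⟩ := Submodule.mem_span_singleton.1 hmem
        exact ⟨1, one_mem _, c, (smul_ne_zero_iff.1 hy0).1, by rw [app_one]⟩
      · obtain ⟨r₀, hr1, hr2⟩ := exists_polar_eq_zero_one (Q := Q) hg.nd hmem
        -- a vector pairing with both
        set r := f' + r₀ + (-polar Q y f') • r₀ with hrdef
        set z := r + (-Q r) • u with hzdef
        have hru : polar Q u r = 1 := by
          rw [hrdef, polar_add_right, polar_add_right, polar_smul_right, hf', hr1]; simp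
        have hry : polar Q y r = 1 := by
          rw [hrdef, polar_add_right, polar_add_right, polar_smul_right, hr2, smul_eq_mul, mul_one]; ring
        have hz : Q z = 0 := by
          rw [hzdef, QuadraticMap.map_add ⇑Q, QuadraticMap.map_smul, hu, polar_smul_right,
            polar_comm (f := ⇑Q) r u, hru]
          simp
        have hzu : polar Q u z = 1 := by
          rw [hzdef, polar_add_right, polar_smul_right, polar_self', hu, hru]; simp
        have hzy : polar Q y z = 1 := by
          rw [hzdef, polar_add_right, polar_smul_right, polar_comm (f := ⇑Q) y u, huy, hry]; simp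
        have h1 : R z u := hsymm (hnon hu hw hz hp (by rw [hzu]; exact one_ne_zero) hR)
        have h2 : R z y := hnon hz hu hy (by rw [polar_comm, hzu]; exact one_ne_zero)
          (by rw [polar_comm, hzy]; exact one_ne_zero) h1
        exact htrans (hsymm h2) h1
    · exact hsymm (hnon hu hw hy hp huy hR)
  -- root elements commute modulo `Γ`
  have hN : (Γ.subgroupOf (commutator (O Q))).Normal := ⟨fun γ hγ x => hnorm x x.2 γ hγ⟩
  let π := QuotientGroup.mk' (Γ.subgroupOf (commutator (O Q)))
  have hcomm : ∀ {x a y b : ι → F} (hx : Q x = 0) (ha : polar Q x a = 0) (hy : Q y = 0) (hb : polar Q y b = 0),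
      Commute (π ⟨_, eich_omega hg hx ha⟩) (π ⟨_, eich_omega hg hy hb⟩) := by
    have hrep : ∀ {x a : ι → F} (hx : Q x = 0) (ha : polar Q x a = 0), ∃ a', ∃ ha' : polar Q u a' = 0,
        π ⟨_, eich_omega hg hx ha⟩ = π ⟨_, eich_omega hg hu ha'⟩ := by
      intro x a hx ha
      by_cases hx0 : x = 0
      · refine ⟨0, polar_zero_right _ _, congrArg π (Subtype.ext ?_)⟩
        simp only [hx0, eich_zero_left, CfsgLib.POmega.eich_zero_right hu]
      obtain ⟨γ, hγ, t, ht, e⟩ := hall x hx hx0
      have hua : polar Q u (app γ a) = 0 := by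
        have := polar_app γ x a
        rw [e, ha, polar_smul_left, smul_eq_mul, mul_eq_zero] at this
        exact this.resolve_left ht
      refine ⟨t • app γ a, by rw [polar_smul_right, hua, smul_zero], ?_⟩
      have e2 : (⟨eich Q u (t • app γ a), eich_omega hg hu (by rw [polar_smul_right, hua, smul_zero])⟩ :
          commutator (O Q)) = ⟨γ, hΓ hγ⟩ * ⟨_, eich_omega hg hx ha⟩ * ⟨γ, hΓ hγ⟩⁻¹ := by
        refine Subtype.ext ?_
        rw [Subgroup.coe_mul, Subgroup.coe_mul, Subgroup.coe_inv, eich_conj hx ha, e,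
          CfsgLib.GeomClasses.OrthEich.eich_smul_left hu hua t]
      have hk1 : π ⟨γ, hΓ hγ⟩ = 1 := (QuotientGroup.eq_one_iff _).2 hγ
      rw [e2, map_mul, map_mul, map_inv, hk1, one_mul, inv_one, mul_one]
    intro x a y b hx ha hy hb
    obtain ⟨a', ha', e1⟩ := hrep hx ha
    obtain ⟨b', hb', e2⟩ := hrep hy hb
    rw [e1, e2]
    refine Commute.map ?_ π
    exact Subtype.ext (CfsgLib.POmega.eich_mul_of_line hu ha' hb')
  have hmem : ∀ {x y : commutator (O Q)}, Commute (π x) (π y) → (x : O Q) * (y : O Q) * (x : O Q)⁻¹ * (y : O Q)⁻¹ ∈ Γ := fun {x y} h => by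
    have h1 : π (x * y * x⁻¹ * y⁻¹) = 1 := by
      simp only [map_mul, map_inv, h.eq, mul_inv_cancel_right, mul_inv_cancel]
    have h2 := (QuotientGroup.eq_one_iff (N := Γ.subgroupOf (commutator (O Q))) _).1 h1
    simpa [Subgroup.mem_subgroupOf] using h2
  obtain ⟨e, f, a, he, hf, hef, hea, hfa, ha⟩ := exists_triple hg
  rcases card_field hg.two with hq3 | hq5
  · -- three elements: long roots
    have h5 : 5 ≤ Fintype.card ι := hg.big.resolve_right (by omega)
    have hlong : ∀ v, Q v = 0 → polar Q e v = 0 → eich Q e v ∈ Γ := by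
      intro v hv hev
      obtain ⟨b, hb, hqb⟩ := CfsgLib.POmega.exists_aniso_perp hg.nd ![e, v] (by omega)
      have heb : polar Q e b = 0 := hb 0
      have hvb : polar Q v b = 0 := hb 1
      have hm := hmem (x := ⟨_, eich_omega hg hv hvb⟩)
        (y := ⟨_, eich_omega hg he (show polar Q e ((-(2 * Q b)⁻¹) • b) = 0 by rw [polar_smul_right, heb, smul_zero])⟩)
        (hcomm hv hvb he (by rw [polar_smul_right, heb, smul_zero]))
      set c := -(2 * Q b)⁻¹ with hc
      have hec : polar Q e (c • b) = 0 := by rw [polar_smul_right, heb, smul_zero]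
      have he' : app (eich Q v b) e = e := by
        rw [app_eich hv hvb, hev, heb]; simp
      have hb' : app (eich Q v b) (c • b) = c • b + v := by
        rw [map_smul, app_eich hv hvb, polar_comm (f := ⇑Q) b v, hvb, polar_self', hc]
        have := hg.two
        match_scalars <;> field_simp <;> ring
      simp only [Subgroup.coe_mk] at hm
      rw [eich_conj he hec, he', hb', ← eich_add he hec hev, CfsgLib.POmega.eich_mul_of_line he hec hev,
        mul_inv_cancel_right] at hm
      exact hm
    -- an anisotropic sum of two singular vectors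
    obtain ⟨v₁, hv₁, hv₁0, hq₁⟩ := CfsgLib.POmega.exists_singular_mem (Q := Q)
      (LinearMap.BilinForm.orthogonal Q.polarBilin (Submodule.span F (Set.range ![e, f]))) (by
        rw [LinearMap.BilinForm.finrank_orthogonal hg.nd, Module.finrank_fintype_fun_eq_card]
        have := finrank_range_le_card (R := F) ![e, f]
        rw [Set.finrank, Fintype.card_fin] at this
        omega)
    have hev : polar Q e v₁ = 0 := LinearMap.BilinForm.mem_orthogonal_iff.1 hv₁ e (Submodule.subset_span ⟨0, rfl⟩)
    have hfv : polar Q f v₁ = 0 := LinearMap.BilinForm.mem_orthogonal_iff.1 hv₁ f (Submodule.subset_span ⟨1, rfl⟩)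
    obtain ⟨r₀, hr₀⟩ := exists_polar_eq_one (Q := Q) hg.nd hv₁0
    set r₁ := r₀ - polar Q f r₀ • e - polar Q e r₀ • f with hr₁
    have hee : polar Q e e = 0 := by rw [polar_self', he, mul_zero]
    have hff : polar Q f f = 0 := by rw [polar_self', hf, mul_zero]
    have her : polar Q e r₁ = 0 := by
      simp only [hr₁, polar_sub_right, polar_smul_right, hee, hef, smul_eq_mul]; ring
    have hfr : polar Q f r₁ = 0 := by
      simp only [hr₁, polar_sub_right, polar_smul_right, hff, polar_comm (f := ⇑Q) f e, hef, smul_eq_mul]; ring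
    have hvr : polar Q v₁ r₁ = 1 := by
      simp only [hr₁, polar_sub_right, polar_smul_right, polar_comm (f := ⇑Q) v₁ e, hev,
        polar_comm (f := ⇑Q) v₁ f, hfv, hr₀, smul_eq_mul]; ring
    set v₂ := r₁ + (-Q r₁) • v₁ with hv₂
    have hq₂ : Q v₂ = 0 := by
      rw [hv₂, QuadraticMap.map_add ⇑Q, QuadraticMap.map_smul, polar_smul_right, polar_comm (f := ⇑Q) r₁ v₁, hvr,
        hq₁]
      simp
    have hev₂ : polar Q e v₂ = 0 := by rw [hv₂, polar_add_right, polar_smul_right, her, hev]; simp
    have hfv₂ : polar Q f v₂ = 0 := by rw [hv₂, polar_add_right, polar_smul_right, hfr, hfv]; simp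
    refine ⟨e, f, v₁ + v₂, he, hf, hef, by rw [polar_add_right, hev, hev₂, add_zero],
      by rw [polar_add_right, hfv, hfv₂, add_zero], ?_, fun s => ?_⟩
    · rw [QuadraticMap.map_add ⇑Q, hq₁, hq₂, hv₂, polar_add_right, polar_smul_right, hvr, polar_self', hq₁]
      simp
    · have h1 : polar Q e (s • v₁) = 0 := by rw [polar_smul_right, hev, smul_zero]
      have h2 : polar Q e (s • v₂) = 0 := by rw [polar_smul_right, hev₂, smul_zero]
      rw [smul_add, ← eich_add he h1 h2]
      exact mul_mem (hlong _ (by rw [QuadraticMap.map_smul, hq₁, smul_zero]) h1)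
        (hlong _ (by rw [QuadraticMap.map_smul, hq₂, smul_zero]) h2)
  · -- a torus element
    obtain ⟨c, hc0, hc⟩ : ∃ c : F, c ≠ 0 ∧ c * c ≠ 1 := CfsgLib.TensorMax63.exists_scale hq5 1
    refine ⟨e, f, a, he, hf, hef, hea, hfa, ha, fun s => ?_⟩
    have hca : polar Q e (c • a) = 0 := by rw [polar_smul_right, hea, smul_zero]
    have hfca : polar Q f (c • a) = 0 := by rw [polar_smul_right, hfa, smul_zero]
    have hQc : Q (c • a) ≠ 0 := by rw [QuadraticMap.map_smul, smul_eq_mul]; exact mul_ne_zero (mul_ne_zero hc0 hc0) ha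
    have hsa : ∀ r : F, polar Q e (r • a) = 0 := fun r => by rw [polar_smul_right, hea, smul_zero]
    obtain ⟨W1, -, W1a⟩ := app_wEl hg he hf hef hea hfa ha
    obtain ⟨W2e, W2f, W2a⟩ := app_wEl hg he hf hef hca hfca hQc
    set h := wEl Q e f (c • a) * wEl Q e f a
    have hhm : h ∈ commutator (O Q) := mul_mem (wEl_mem hg he hf hca hfca) (wEl_mem hg he hf hea hfa)
    have hhe : app h e = (c * c) • e := by
      rw [app_mul, W1, map_neg, map_smul, W2f, smul_neg, neg_neg, smul_smul, QuadraticMap.map_smul, smul_eq_mul]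
      congr 1
      field_simp
    have hha : app h a = a := by
      have h2 : app (wEl Q e f (c • a)) a = -a :=
        smul_right_injective _ hc0 (show c • app (wEl Q e f (c • a)) a = c • (-a) by rw [← map_smul, W2a, smul_neg])
      rw [app_mul, W1a, map_neg, h2, neg_neg]
    have hcw : ∀ r : F, Commute (π ⟨h, hhm⟩) (π ⟨_, eich_omega hg he (hsa r)⟩) := by
      intro r
      have e1 : (⟨h, hhm⟩ : commutator (O Q)) =
          ⟨_, eich_omega hg he hca⟩ * ⟨_, eich_omega hg hf (show polar Q f ((Q (c • a))⁻¹ • (c • a)) = 0 by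
            rw [polar_smul_right, hfca, smul_zero])⟩ * ⟨_, eich_omega hg he hca⟩ *
          (⟨_, eich_omega hg he hea⟩ * ⟨_, eich_omega hg hf (show polar Q f ((Q a)⁻¹ • a) = 0 by
            rw [polar_smul_right, hfa, smul_zero])⟩ * ⟨_, eich_omega hg he hea⟩) := rfl
      rw [e1]
      simp only [map_mul]
      refine ((((hcomm he hca he (hsa r)).mul_left (hcomm hf ?_ he (hsa r))).mul_left (hcomm he hca he (hsa r))).mul_left
        (((hcomm he hea he (hsa r)).mul_left (hcomm hf ?_ he (hsa r))).mul_left (hcomm he hea he (hsa r))))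
      · rw [polar_smul_right, hfca, smul_zero]
      · rw [polar_smul_right, hfa, smul_zero]
    have key : ∀ r : F, eich Q e (((c * c - 1) * r) • a) ∈ Γ := fun r => by
      have hm := hmem (hcw r)
      simp only [Subgroup.coe_mk] at hm
      rw [eich_conj he (hsa r), hhe, map_smul, hha, CfsgLib.GeomClasses.OrthEich.eich_smul_left he (hsa r),
        smul_smul, CfsgLib.POmega.eich_neg_inv he (hsa r), eich_add he (hsa _) (by
          rw [polar_neg_right, hsa r, neg_zero])] at hm
      rw [sub_mul, one_mul, sub_smul, sub_eq_add_neg]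
      exact hm
    have := key (s / (c * c - 1))
    rwa [mul_div_cancel₀ _ (sub_ne_zero.2 hc)] at this

end CfsgLib.TensorPowOdd
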