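import Mathlib
import Cfsg.Agent.Lib.TensorPowOdd.Ctx
import Cfsg.Agent.Lib.TensorPowOdd.Roots
import Cfsg.Agent.Lib.GeomClasses.OrthPair

/-!
In a square of an orthogonal space, root elements supported on one slice generate the whole derived group.
-/

set_option autoImplicit false
set_option linter.unusedSectionVars false

namespace CfsgLib.TensorPowOdd

open Matrix QuadraticMap CfsgLib.Orth CfsgLib.TensorOdd

variable {F : Type*} [Field F] [Fintype F]

section

variable {μ : Type} [Fintype μ] [DecidableEq μ] {Q : QuadraticForm F (μ → F)}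

/-- The stable sets of `Ω` containing an anisotropic vector contain its whole value, up to sign. -/
theorem value_subset (hg : IsGood Q) {Z : Set (μ → F)} (hneg : ∀ z ∈ Z, -z ∈ Z)
    (hinv : ∀ ω ∈ commutator (O Q), ∀ z ∈ Z, app ω z ∈ Z) {z : μ → F} (hz : z ∈ Z) (hqz : Q z ≠ 0)
    {y : μ → F} (hy : Q y = Q z) : y ∈ Z := by
  obtain ⟨v₀, hv₀⟩ := exists_frame hg.nd hg.two
  obtain ⟨v, i, -, hvi, hR⟩ := refr_vec hv₀ Finset.univ (fun j hj => absurd (Finset.mem_univ j) hj) hqz
  have hother : ∀ c : F, ∃ h, polar Q z h = 0 ∧ Q h = c := fun c => by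
    obtain ⟨h, hh, hc⟩ := exists_value_block hR.1 (S := Finset.univ.erase i) (by
      rw [Finset.card_erase_of_mem (Finset.mem_univ i), Finset.card_univ]
      have := hg.three
      omega) c
    refine ⟨h, ?_, hc⟩
    rw [← hvi, polar_comm]
    exact hh i (Finset.notMem_erase i _)
  have key : ∀ y, Q y = Q z → Q (z - y) ≠ 0 → y ∈ Z := fun y hy h0 => by
    obtain ⟨h, hzh, hqh⟩ := hother (Q (z - y))
    have hw := hinv _ (pair_mem hg h0 hqh.symm) z hz
    rw [app_mul, app_refl_of_ortho hzh, app_refl] at hw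
    have e : polar Q z (z - y) = Q (z - y) := by
      rw [sub_eq_add_neg z y, QuadraticMap.map_add ⇑Q, polar_add_right, polar_self', QuadraticMap.map_neg, hy]
      ring
    rwa [e, inv_mul_cancel₀ h0, one_smul, sub_sub_cancel] at hw
  by_cases h0 : Q (z - y) = 0
  · have h := key (-y) (by rw [QuadraticMap.map_neg, hy]) (fun h1 => hqz ?_)
    · simpa using hneg _ h
    · rw [sub_eq_add_neg, QuadraticMap.map_add ⇑Q, QuadraticMap.map_neg, polar_neg_right, hy] at h0
      rw [sub_neg_eq_add, QuadraticMap.map_add ⇑Q, hy] at h1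
      have : (2 * 2 : F) * Q z = 0 := by linear_combination h0 + h1
      exact (mul_eq_zero.1 this).resolve_left (mul_ne_zero hg.two hg.two)
  · exact key y hy h0

/-- The vectors of the value of `z` which are not orthogonal to it span. -/
theorem span_nonorth_value (hg : IsGood Q) {z : μ → F} (hz : Q z ≠ 0) :
    Submodule.span F {y | Q y = Q z ∧ polar Q y z ≠ 0} = ⊤ := by
  classical
  set M := Submodule.span F {y | Q y = Q z ∧ polar Q y z ≠ 0} with hM
  have hzM : z ∈ M := Submodule.subset_span ⟨rfl, by rw [polar_self']; exact mul_ne_zero hg.two hz⟩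
  set X := (⊤ : Submodule F (μ → F)) ⊓ CfsgLib.GeomClasses.OrthTools.orth Q (Submodule.span F {z})
  have hmemX : ∀ {x}, x ∈ X ↔ polar Q z x = 0 := fun {x} => by
    simp [X, CfsgLib.TensorMax63.mem_orth_one]
  have hX : CfsgLib.TensorMax63.Nondeg Q X :=
    CfsgLib.TensorMax63.nondeg_inf hg.two (CfsgLib.TensorMax63.nondeg_top hg.nd) trivial hz
  have hdim : Module.finrank F X + 1 = Fintype.card μ := CfsgLib.TensorMax63.finrank_orth_one hg.nd hg.two
    hg.three z fun h => hz (by rw [h, QuadraticMap.map_zero])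
  have h3 := hg.three
  obtain ⟨r, α, hr, hr0, hα, hrq⟩ : ∃ (r : μ → F) (α : F), r ∈ X ∧ r ≠ 0 ∧ α ≠ 0 ∧ Q r = Q z * (1 - α * α) := by
    rcases card_field hg.two with hq3 | hq5
    · obtain ⟨r, hr, hr0, hqr⟩ := CfsgLib.POmega.exists_singular_mem (Q := Q) X (by
        have := hg.big.resolve_right (by omega)
        omega)
      exact ⟨r, 1, hr, hr0, one_ne_zero, by rw [hqr]; ring⟩
    · obtain ⟨α, hα0, hα⟩ := CfsgLib.TensorMax63.exists_scale hq5 1
      obtain ⟨r, hr, hqr⟩ := CfsgLib.OrthOmega.exists_value_sub hg.two X hX.sep (by omega)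
        (mul_ne_zero hz (sub_ne_zero.2 (Ne.symm hα)))
      refine ⟨r, α, hr, fun h => ?_, hα0, hqr⟩
      rw [h, QuadraticMap.map_zero] at hqr
      exact mul_ne_zero hz (sub_ne_zero.2 (Ne.symm hα)) hqr.symm
  have hzr : polar Q z r = 0 := hmemX.1 hr
  have hrM : r ∈ M := by
    have h1 : α • z + r ∈ M := Submodule.subset_span ⟨by
      rw [QuadraticMap.map_add ⇑Q, QuadraticMap.map_smul, polar_smul_left, hzr, hrq, smul_eq_mul, smul_zero]
      ring, by
      rw [polar_add_left, polar_smul_left, polar_self', polar_comm (f := ⇑Q) r z, hzr, add_zero, smul_eq_mul]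
      exact mul_ne_zero hα (mul_ne_zero hg.two hz)⟩
    simpa using M.sub_mem h1 (M.smul_mem α hzM)
  have hirr : M ⊓ X = X := by
    refine CfsgLib.TensorMax63.irreducible hg.nd hg.two hX ?_ inf_le_right ⟨r, ⟨hrM, hr⟩, hr0⟩ ?_
    · rcases hg.big with h | h
      · exact Or.inr (by omega)
      · exact Or.inl h
    intro u hu hqu s hs
    refine ⟨?_, ?_⟩
    · have hfix : app (refl Q u) z = z := app_refl_of_ortho (hmemX.1 hu)
      have hle : M ≤ M.comap (app (refl Q u)) := Submodule.span_le.2 fun y hy => Submodule.subset_span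
        ⟨by rw [Q_app]; exact hy.1, by rw [← hfix, polar_app]; exact hy.2⟩
      exact hle hs.1
    · rw [app_refl]
      exact X.sub_mem hs.2 (X.smul_mem _ hu)
  refine eq_top_iff.2 fun x _ => ?_
  have hx : x - ((2 * Q z)⁻¹ * polar Q z x) • z ∈ X := hmemX.2 (by
    rw [polar_sub_right, polar_smul_right, polar_self', smul_eq_mul]
    have := hg.two
    field_simp
    ring)
  rw [← hirr] at hx
  simpa using M.add_mem hx.1 (M.smul_mem ((2 * Q z)⁻¹ * polar Q z x) hzM)

end

variable {ι : Type} [Fintype ι] [DecidableEq ι] {q : QuadraticForm F (ι → F)} {a b : ℕ}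

/-- Root elements on one slice give all the root pairs on the line of `e`. -/
theorem pairs (D : Data q a b) {H : Subgroup (O q)}
    (hL : ∀ ω ∈ commutator (O D.q1), D.L ω ∈ H) {e w : Fin b → F} (he : D.q2 e = 0)
    (hew : polar D.q2 e w = 0) (hw : D.q2 w ≠ 0) {x : Fin a → F} (hx : D.q1 x ≠ 0)
    (h : ∀ c : F, eich q (D.tp x e) (c • D.tp x w) ∈ H) :
    ∀ y y' : Fin a → F, eich q (D.tp y e) (D.tp y' e) ∈ H := by
  have hQ : ∀ y, q (D.tp y e) = 0 := fun y => by rw [D.Q_tp, he, mul_zero]
  have hee : ∀ y y', polar q (D.tp y e) (D.tp y' e) = 0 := fun y y' => by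
    rw [D.polar_tp, polar_self', he, mul_zero, mul_zero]
  have hew' : ∀ y y', polar q (D.tp y e) (D.tp y' w) = 0 := fun y y' => by rw [D.polar_tp, hew, mul_zero]
  set Z := {z : Fin a → F | ∀ c : F, eich q (D.tp z e) (c • D.tp z w) ∈ H} with hZ
  have hneg : ∀ z ∈ Z, -z ∈ Z := fun z hz c => by
    rw [← neg_one_smul F z, D.tp_smul_left, D.tp_smul_left,
      CfsgLib.GeomClasses.OrthEich.eich_smul_left (hQ z) (by
        rw [polar_smul_right, polar_smul_right, hew', smul_zero, smul_zero])]
    simpa [smul_smul] using hz c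
  have hinv : ∀ ω ∈ commutator (O D.q1), ∀ z ∈ Z, app ω z ∈ Z := fun ω hω z hz c => by
    have := H.mul_mem (H.mul_mem (hL ω hω) (hz c)) (H.inv_mem (hL ω hω))
    rwa [eich_conj (hQ z) (by rw [polar_smul_right, hew', smul_zero]), D.L_tp, map_smul, D.L_tp] at this
  have hval : ∀ z, D.q1 z = D.q1 x → z ∈ Z := fun z hz => value_subset D.good1 hneg hinv h hx hz
  -- two non-orthogonal members
  have hpair : ∀ z z', D.q1 z = D.q1 x → D.q1 z' = D.q1 x → polar D.q1 z' z ≠ 0 → ∀ c : F,
      eich q (D.tp z' e) (c • D.tp z e) ∈ H := by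
    intro z z' hz hz' hp c
    set κ := polar D.q1 z' z * (2 * D.q2 w)
    have hκ : κ ≠ 0 := mul_ne_zero hp (mul_ne_zero D.good2.two hw)
    have h1 := hval z hz (-(c / κ))
    have h2 := hval z' hz' 1
    rw [one_smul] at h2
    have h3 := H.mul_mem (H.mul_mem (H.mul_mem h1 h2) (H.inv_mem h1)) (H.inv_mem h2)
    have hA : polar q (D.tp z e) ((-(c / κ)) • D.tp z w) = 0 := by rw [polar_smul_right, hew', smul_zero]
    have hfixU : app (eich q (D.tp z e) ((-(c / κ)) • D.tp z w)) (D.tp z' e) = D.tp z' e := by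
      rw [app_eich (hQ z) hA, hee, polar_smul_right, hew', smul_zero]
      simp
    have hmove : app (eich q (D.tp z e) ((-(c / κ)) • D.tp z w)) (D.tp z' w) = D.tp z' w + c • D.tp z e := by
      have e1 : polar q (D.tp z' w) (D.tp z e) = 0 := by rw [polar_comm, hew']
      rw [app_eich (hQ z) hA, e1, polar_smul_right, D.polar_tp, polar_self']
      simp only [smul_eq_mul, κ]
      have := D.good2.two
      match_scalars <;> field_simp <;> ring
    rw [eich_conj (hQ z') (hew' z' z'), hfixU, hmove,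
      CfsgLib.POmega.eich_neg_inv (hQ z') (hew' z' z'),
      eich_add (hQ z') (by rw [polar_add_right, hew', polar_smul_right, hee, smul_zero, add_zero])
        (by rw [polar_neg_right, hew', neg_zero])] at h3
    convert h3 using 2
    abel
  -- the right entries form a subspace
  have hsub : ∀ (z : Fin a → F) (S : Set (Fin a → F)), Submodule.span F S = ⊤ →
      (∀ y ∈ S, ∀ c : F, eich q (D.tp z e) (c • D.tp y e) ∈ H) → ∀ (y : Fin a → F) (c : F),
      eich q (D.tp z e) (c • D.tp y e) ∈ H := by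
    intro z S hS hmem y
    have hy : y ∈ Submodule.span F S := hS ▸ Submodule.mem_top
    induction hy using Submodule.span_induction with
    | mem y hy => exact hmem y hy
    | zero =>
      intro c
      rw [D.tp_zero_left, smul_zero, CfsgLib.POmega.eich_zero_right (hQ z)]
      exact H.one_mem
    | add y y' _ _ hy hy' =>
      intro c
      rw [D.tp_add_left, smul_add, ← eich_add (hQ z) (by rw [polar_smul_right, hee, smul_zero])
        (by rw [polar_smul_right, hee, smul_zero])]
      exact H.mul_mem (hy c) (hy' c)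
    | smul s y _ hy =>
      intro c
      rw [D.tp_smul_left, smul_smul]
      exact hy _
  have hZall : ∀ z, D.q1 z = D.q1 x → ∀ (y : Fin a → F) (c : F), eich q (D.tp z e) (c • D.tp y e) ∈ H :=
    fun z hz => hsub z _ (span_nonorth_value D.good1 (hz ▸ hx)) fun y hy c =>
      hpair y z (hy.1.trans hz) hz (by rw [polar_comm]; exact hy.2) c
  intro y y'
  have hspan : Submodule.span F {u | D.q1 u = D.q1 x} = ⊤ := top_unique
    ((span_nonorth_value D.good1 hx).ge.trans (Submodule.span_mono fun u hu => hu.1))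
  have := hsub y _ hspan (fun z hz c => ?_) y' 1
  · rwa [one_smul] at this
  · have h1 := hZall z hz y (-c)
    rw [CfsgLib.GeomClasses.OrthPair.eich_swap (hQ z) (by rw [QuadraticMap.map_smul, hQ, smul_zero])
      (by rw [polar_smul_right, hee, smul_zero]), CfsgLib.GeomClasses.OrthEich.eich_smul_left (hQ y)
      (by rw [polar_neg_right, hee, neg_zero])] at h1
    simpa [smul_smul] using h1

/-- Root pairs on both factors fill the root group of a pure singular vector. -/
theorem full_of_pairs (D : Data q a b) {H : Subgroup (O q)}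
    (hL : ∀ ω ∈ commutator (O D.q1), D.L ω ∈ H) (hR : ∀ ω ∈ commutator (O D.q2), D.R ω ∈ H)
    {y g a0 : Fin a → F} {e f b0 : Fin b → F} (hy : D.q1 y = 0) (hqg : D.q1 g = 0) (hyg : polar D.q1 y g = 1)
    (hya0 : polar D.q1 y a0 = 0 ∧ polar D.q1 g a0 = 0) (ha0 : D.q1 a0 ≠ 0)
    (he : D.q2 e = 0) (hf : D.q2 f = 0) (hef : polar D.q2 e f = 1)
    (heb0 : polar D.q2 e b0 = 0 ∧ polar D.q2 f b0 = 0) (hb0 : D.q2 b0 ≠ 0)
    (hE : ∀ z z' : Fin a → F, eich q (D.tp z e) (D.tp z' e) ∈ H)
    (hY : ∀ p p' : Fin b → F, eich q (D.tp y p) (D.tp y p') ∈ H) :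
    CfsgLib.GeomClasses.OrthEich.Full H (D.tp y e) := by
  have hyy : polar D.q1 y y = 0 := by rw [polar_self', hy, mul_zero]
  have hgg : polar D.q1 g g = 0 := by rw [polar_self', hqg, mul_zero]
  have hee : polar D.q2 e e = 0 := by rw [polar_self', he, mul_zero]
  have hff : polar D.q2 f f = 0 := by rw [polar_self', hf, mul_zero]
  have hgy : polar D.q1 g y = 1 := by rw [polar_comm, hyg]
  have hfe : polar D.q2 f e = 1 := by rw [polar_comm, hef]
  have hG : ∀ p p' : Fin b → F, eich q (D.tp g p) (D.tp g p') ∈ H := fun p p' => by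
    set W := wEl D.q1 y g a0
    have hW : D.L W ∈ H := hL _ (wEl_mem D.good1 hy hqg hya0.1 hya0.2)
    obtain ⟨W1, -, -⟩ := app_wEl D.good1 hy hqg hyg hya0.1 hya0.2 ha0
    have h := H.mul_mem (H.mul_mem hW (hY ((-D.q1 a0) • p) ((-D.q1 a0) • p'))) (H.inv_mem hW)
    rw [eich_conj (by rw [D.Q_tp, hy]; ring) (by rw [D.polar_tp, hyy, zero_mul]), D.L_tp, D.L_tp, W1] at h
    simpa [D.tp_neg_left, D.tp_neg_right, D.tp_smul_left, D.tp_smul_right, smul_smul, inv_mul_cancel₀ ha0] using h
  have hF : ∀ z z' : Fin a → F, eich q (D.tp z f) (D.tp z' f) ∈ H := fun z z' => by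
    set W := wEl D.q2 e f b0
    have hW : D.R W ∈ H := hR _ (wEl_mem D.good2 he hf heb0.1 heb0.2)
    obtain ⟨W1, -, -⟩ := app_wEl D.good2 he hf hef heb0.1 heb0.2 hb0
    have h := H.mul_mem (H.mul_mem hW (hE ((-D.q2 b0) • z) ((-D.q2 b0) • z'))) (H.inv_mem hW)
    rw [eich_conj (by rw [D.Q_tp, he, mul_zero]) (by rw [D.polar_tp, hee, mul_zero]), D.R_tp, D.R_tp, W1] at h
    simpa [D.tp_neg_left, D.tp_neg_right, D.tp_smul_left, D.tp_smul_right, smul_smul, inv_mul_cancel₀ hb0, mul_inv_cancel₀ hb0] using h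
  set u := D.tp y e with hu
  have hQu : q u = 0 := by rw [hu, D.Q_tp, he, mul_zero]
  let S : Set (ι → F) := {A | polar q u A = 0 ∧ eich q u A ∈ H}
  have hadd : ∀ {A B}, A ∈ S → B ∈ S → A + B ∈ S := fun {A B} hA hB =>
    ⟨by rw [polar_add_right, hA.1, hB.1, add_zero], eich_add hQu hA.1 hB.1 ▸ H.mul_mem hA.2 hB.2⟩
  have hsub : ∀ {A B}, A ∈ S → B ∈ S → A - B ∈ S := fun {A B} hA hB => by
    rw [sub_eq_add_neg]
    exact hadd hA ⟨by rw [polar_neg_right, hB.1, neg_zero],
      CfsgLib.POmega.eich_neg_inv hQu hB.1 ▸ H.inv_mem hB.2⟩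
  have hconj : ∀ k ∈ H, app k u = u → ∀ {A}, A ∈ S → app k A ∈ S := fun k hk hku {A} hA =>
    ⟨by rw [← hku, polar_app]; exact hA.1, by
      have := H.mul_mem (H.mul_mem hk hA.2) (H.inv_mem hk)
      rwa [eich_conj hQu hA.1, hku] at this⟩
  have hXe : ∀ z, D.tp z e ∈ S := fun z => ⟨by rw [hu, D.polar_tp, hee, mul_zero], hE y z⟩
  have hyW : ∀ p, D.tp y p ∈ S := fun p => ⟨by rw [hu, D.polar_tp, hyy, zero_mul], hY e p⟩
  have hgp : ∀ p, polar D.q2 e p = 0 → D.tp g p ∈ S := by
    intro p hp
    have hku : app (eich q (D.tp g e) (D.tp g p)) u = u := by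
      rw [app_eich (by rw [D.Q_tp, he, mul_zero]) (by rw [D.polar_tp, hgg, zero_mul]), hu, D.polar_tp, hee,
        mul_zero, D.polar_tp, hp, mul_zero]
      simp
    have h := hconj _ (hG e p) hku (hyW f)
    rw [app_eich (by rw [D.Q_tp, he, mul_zero]) (by rw [D.polar_tp, hgg, zero_mul]), D.polar_tp, hyg, hfe,
      mul_one, one_smul] at h
    have h2 := hsub (hsub h (hyW f)) (hXe ((-(polar q (D.tp y f) (D.tp g p)) - q (D.tp g p) * 1) • g))
    rw [D.tp_smul_left] at h2
    convert h2 using 1
    abel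
  have hpf : ∀ z, polar D.q1 y z = 0 → D.tp z f ∈ S := by
    intro z hz
    have hku : app (eich q (D.tp y f) (D.tp z f)) u = u := by
      rw [app_eich (by rw [D.Q_tp, hf, mul_zero]) (by rw [D.polar_tp, hff, mul_zero]), hu, D.polar_tp, hyy,
        zero_mul, D.polar_tp, hz, zero_mul]
      simp
    have h := hconj _ (hF y z) hku (hXe g)
    rw [app_eich (by rw [D.Q_tp, hf, mul_zero]) (by rw [D.polar_tp, hff, mul_zero]), D.polar_tp, hgy, hef,
      mul_one, one_smul] at h
    have h2 := hsub (hsub h (hXe g)) (hyW ((-(polar q (D.tp g e) (D.tp z f)) - q (D.tp z f) * 1) • f))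
    rw [D.tp_smul_right] at h2
    convert h2 using 1
    abel
  have hzp : ∀ z p, polar D.q1 y z = 0 → polar D.q1 g z = 0 → polar D.q2 e p = 0 → D.tp z p ∈ S := by
    intro z p hz hgz hp
    have h := hconj _ (hL _ (eich_omega D.good1 hy hz))
      (by rw [hu, D.L_tp, app_eich hy hz, hyy, hz]; simp) (hgp p hp)
    rw [D.L_tp, app_eich hy hz, hgy, hgz, one_smul, D.tp_add_left, D.tp_add_left, D.tp_smul_left] at h
    have h2 := hsub (hsub h (hgp p hp)) (hyW ((-0 - D.q1 z * 1) • p))
    rw [D.tp_smul_right] at h2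
    convert h2 using 1
    abel
  refine ⟨hQu, fun A hA => ?_⟩
  -- the projection on the orthogonal of `u`
  let proj : (ι → F) →ₗ[F] (ι → F) := LinearMap.id - (q.polarBilin u).smulRight (D.tp g f)
  have hall : ∀ z p, D.tp z p - polar q u (D.tp z p) • D.tp g f ∈ S := by
    intro z p
    set zm := z - polar D.q1 g z • y - polar D.q1 y z • g with hzm
    set pm := p - polar D.q2 f p • e - polar D.q2 e p • f with hpm
    have hz1 : polar D.q1 y zm = 0 := by
      simp only [hzm, polar_sub_right, polar_smul_right, hyy, hyg, smul_eq_mul]; ring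
    have hz2 : polar D.q1 g zm = 0 := by
      simp only [hzm, polar_sub_right, polar_smul_right, hgy, hgg, smul_eq_mul]; ring
    have hp1 : polar D.q2 e pm = 0 := by
      simp only [hpm, polar_sub_right, polar_smul_right, hee, hef, smul_eq_mul]; ring
    have h1 := hyW (polar D.q1 g z • p)
    have h2 := hXe (polar D.q2 f p • (z - polar D.q1 g z • y))
    have h3 := hpf (polar D.q2 e p • zm) (by rw [polar_smul_right, hz1, smul_zero])
    have h4 := hgp (polar D.q1 y z • pm) (by rw [polar_smul_right, hp1, smul_zero])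
    have h5 := hzp zm pm hz1 hz2 hp1
    have e1 : D.tp z p - polar q u (D.tp z p) • D.tp g f = D.tp y (polar D.q1 g z • p) +
        D.tp (polar D.q2 f p • (z - polar D.q1 g z • y)) e + D.tp (polar D.q2 e p • zm) f +
        D.tp g (polar D.q1 y z • pm) + D.tp zm pm := by
      have hzs : z = polar D.q1 g z • y + polar D.q1 y z • g + zm := by rw [hzm]; abel
      have hps : p = polar D.q2 f p • e + polar D.q2 e p • f + pm := by rw [hpm]; abel
      rw [hu, D.polar_tp]
      have key : ∀ cg cy cf ce : F, z = cg • y + cy • g + zm → p = cf • e + ce • f + pm →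
          D.tp z p - (cy * ce) • D.tp g f = D.tp y (cg • p) + D.tp (cf • (z - cg • y)) e + D.tp (ce • zm) f +
            D.tp g (cy • pm) + D.tp zm pm := by
        intro cg cy cf ce h1 h2
        have hz' : z - cg • y = cy • g + zm := by rw [h1]; abel
        rw [hz']
        conv_lhs => rw [h1, h2]
        conv_rhs => rw [h2]
        simp only [D.tp_add_left, D.tp_add_right, D.tp_smul_left, D.tp_smul_right, smul_smul, smul_add]
        module
      exact key _ _ _ _ hzs hps
    rw [e1]
    exact hadd (hadd (hadd (hadd h1 h2) h3) h4) h5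
  have hspan : ∀ A, proj A ∈ S := by
    intro A
    have hA : A ∈ Submodule.span F (Set.range fun p : (Fin a → F) × (Fin b → F) => D.tp p.1 p.2) := by
      have e : (⊤ : Submodule F (ι → F)) ≤
          Submodule.span F (Set.range fun p : (Fin a → F) × (Fin b → F) => D.tp p.1 p.2) := by
        rw [← ((Pi.basisFun F (Fin a × Fin b)).map D.E).span_eq, Submodule.span_le]
        rintro _ ⟨p, rfl⟩
        refine Submodule.subset_span ⟨(Pi.single p.1 1, Pi.single p.2 1), ?_⟩
        rw [Module.Basis.map_apply, Pi.basisFun_apply]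
        exact D.tp_single p.1 p.2
      exact e Submodule.mem_top
    suffices H2 : ∀ c : F, proj (c • A) ∈ S by simpa using H2 1
    induction hA using Submodule.span_induction with
    | mem A hA =>
      obtain ⟨⟨z, p⟩, rfl⟩ := hA
      intro c
      rw [← D.tp_smul_left]
      simpa [proj] using hall (c • z) p
    | zero =>
      intro c
      simp only [smul_zero, map_zero]
      exact ⟨polar_zero_right _ _, by rw [CfsgLib.POmega.eich_zero_right hQu]; exact H.one_mem⟩
    | add A B _ _ hA hB => intro c; rw [smul_add, map_add]; exact hadd (hA c) (hB c)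
    | smul s A _ hA => intro c; rw [smul_smul]; exact hA _
  have h := (hspan A).2
  simpa [proj, hA] using h

end CfsgLib.TensorPowOdd
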