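import Mathlib
import Cfsg.Agent.Lib.TensorPowOdd.Extract
import Cfsg.Agent.Lib.TensorPowOdd.Pairs

/-!
In a proper overgroup of the monomial isometries an element supported on one slice is monomial.
-/

set_option autoImplicit false
set_option linter.unusedSectionVars false
set_option maxHeartbeats 400000

namespace CfsgLib.TensorPowOdd

open Matrix QuadraticMap CfsgLib.Orth CfsgLib.TensorOdd CfsgLib.Maximal.TensorPower

variable {F : Type*} [Field F] [Fintype F] {k : ℕ} {q1 : QuadraticForm F (Fin k → F)}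
variable {ι : Type} [Fintype ι] [DecidableEq ι] {q : QuadraticForm F (ι → F)}

namespace Pow

section

variable {t : ℕ} (P : Pow q q1 (t + 2))

theorem ext_slices {l : Fin (t + 2)} {u : Fin k → Fin k → F} (hu : IsFrame q1 u) {g g' : O q}
    (h : ∀ j w, app g ((P.D l).tp (u j) w) = app g' ((P.D l).tp (u j) w)) : g = g' :=
  (P.D l).swap.ext_col hu fun j w => by rw [(P.D l).swap_tp]; exact h j w

theorem exists_index (hg : IsGood q1) : Nonempty (Fin k) := ⟨⟨0, by have := three_le hg; omega⟩⟩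

variable {P}

/-- A monomial element with a fixed slice is an element of the factor. -/
theorem Supp.eq_sl {l : Fin (t + 2)} {u : Fin k → Fin k → F} (hu : IsFrame q1 u) {S : Finset (Fin k)} {g : O q}
    (hg : g ∈ P.Mon) (hS : P.Supp l u S g) {j : Fin k} (hj : j ∉ S) :
    ∃ A, (∀ i, i ∉ S → app A (u i) = u i) ∧ g = P.sl l A := by
  obtain ⟨A, -, hA⟩ := P.mon_fix hg (hu.li.ne_zero j) (hS j hj)
  obtain ⟨v, hv⟩ := exists_frame (P.D l).good2.nd (P.D l).good2.two
  obtain ⟨m⟩ : Nonempty (Fin (k ^ (t + 1))) := Fintype.card_pos_iff.1 (by have := (P.D l).good2.three; omega)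
  refine ⟨A, fun i hi => (P.D l).tp_left_cancel (hv.li.ne_zero m) ?_, hA⟩
  rw [← (P.D l).L_tp, P.L_eq_sl, ← hA]
  exact hS i hi _

/-- An element supported on a slice acts on it by an isometry. -/
theorem Supp.exists_slice {l : Fin (t + 2)} {u : Fin k → Fin k → F} (hu : IsFrame q1 u) {i : Fin k} {g : O q}
    (hg : P.Supp l u {i} g) :
    ∃ B : O (pf q1 (t + 1)), ∀ w, app g ((P.D l).tp (u i) w) = (P.D l).tp (u i) (app B w) := by
  have hm : P.Maps g l (u i) l (u i) := fun w => by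
    obtain ⟨w', hw'⟩ := (P.D l).swap.mem_col hu i (z := app g ((P.D l).tp (u i) w)) fun j hj y => by
      rw [(P.D l).swap_tp]
      conv_lhs => rw [← hg j (by simpa using hj) y]
      rw [polar_app, (P.D l).polar_tp]
      show polar q1 (u i) (u j) * _ = 0
      rw [hu.orth i j (Ne.symm hj), zero_mul]
    exact ⟨w', by rw [hw', (P.D l).swap_tp]⟩
  obtain ⟨B, c, -, hc, hB⟩ := P.maps_iso (hu.nz i) (hu.li.ne_zero i) hm
  have hc2 : c * c = 1 := by
    rw [QuadraticMap.map_smul, smul_eq_mul] at hc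
    exact mul_right_cancel₀ (hu.nz i) (hc.trans (one_mul _).symm)
  rcases mul_self_eq_one_iff.1 hc2 with rfl | rfl
  · exact ⟨B, fun w => by rw [hB, one_smul]⟩
  · exact ⟨negId _ * B, fun w => by
      rw [hB, app_mul, app_negId, neg_one_smul, (P.D l).tp_neg_left, (P.D l).tp_neg_right]⟩

variable {H : Subgroup (O q)}

/-- The actions on a slice of the elements supported on it. -/
noncomputable def cellGroup (P : Pow q q1 (t + 2)) (H : Subgroup (O q)) (l : Fin (t + 2))
    (u : Fin k → Fin k → F) (i : Fin k) : Subgroup (O (pf q1 (t + 1))) where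
  carrier := {B | B ∈ commutator (O (pf q1 (t + 1))) ∧
    ∃ h ∈ H, P.Supp l u {i} h ∧ ∀ w, app h ((P.D l).tp (u i) w) = (P.D l).tp (u i) (app B w)}
  one_mem' := ⟨one_mem _, 1, H.one_mem, fun _ _ _ => app_one _, fun w => by rw [app_one, app_one]⟩
  mul_mem' := by
    rintro B B' ⟨hB, h, hh, hs, hw⟩ ⟨hB', h', hh', hs', hw'⟩
    exact ⟨mul_mem hB hB', h * h', H.mul_mem hh hh', hs.mul hs', fun w => by rw [app_mul, hw', hw, app_mul]⟩
  inv_mem' := by
    rintro B ⟨hB, h, hh, hs, hw⟩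
    refine ⟨inv_mem hB, h⁻¹, H.inv_mem hh, hs.inv, fun w => app_injective h ?_⟩
    rw [app_app_inv, hw, app_app_inv]

theorem mem_cellGroup {l : Fin (t + 2)} {u : Fin k → Fin k → F} {i : Fin k} {B : O (pf q1 (t + 1))} :
    B ∈ cellGroup P H l u i ↔ B ∈ commutator (O (pf q1 (t + 1))) ∧
      ∃ h ∈ H, P.Supp l u {i} h ∧ ∀ w, app h ((P.D l).tp (u i) w) = (P.D l).tp (u i) (app B w) :=
  Iff.rfl

theorem Over.R_H (hO : P.Over H) (l : Fin (t + 2)) {η : O (pf q1 (t + 1))}
    (hη : η ∈ (std P.good1 t).Mon) (hη' : η ∈ commutator (O (pf q1 (t + 1)))) : (P.D l).R η ∈ H :=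
  hO.G_le (Subgroup.mem_inf.2 ⟨P.R_mem_Mon l hη, (P.D l).R_omega hη'⟩)

theorem cellGroup_normal (hO : P.Over H) {l : Fin (t + 2)} {u : Fin k → Fin k → F} {i : Fin k} :
    ∀ η ∈ (std P.good1 t).Mon ⊓ commutator (O (pf q1 (t + 1))), ∀ B ∈ cellGroup P H l u i,
      η * B * η⁻¹ ∈ cellGroup P H l u i := by
  rintro η hη B ⟨hB, h, hh, hs, hw⟩
  obtain ⟨hη1, hη2⟩ := Subgroup.mem_inf.1 hη
  refine ⟨mul_mem (mul_mem hη2 hB) (inv_mem hη2), _,
    H.mul_mem (H.mul_mem (hO.R_H l hη1 hη2) hh) (H.inv_mem (hO.R_H l hη1 hη2)), hs.conj_R η, fun w => ?_⟩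
  rw [app_mul, app_mul, ← map_inv, (P.D l).R_tp, hw, (P.D l).R_tp, app_mul, app_mul]

/-- A slot element supported on one slice acts on it by a scalar. -/
theorem scalar_of_sl {l : Fin (t + 2)} {x : Fin k → F} (hx : q1 x ≠ 0) {A : O q1} {B : O (pf q1 (t + 1))}
    (h : ∀ w, app (P.sl l A) ((P.D l).tp x w) = (P.D l).tp x (app B w)) : IsScalar B := by
  have hp : polar q1 x x ≠ 0 := by rw [polar_self']; exact mul_ne_zero P.good1.two hx
  refine ⟨polar q1 (app A x) x / polar q1 x x, fun w => ?_⟩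
  refine eq_of_sub_eq_zero (eq_zero_of_polar (Q := pf q1 (t + 1)) (P.D l).good2.nd fun z => ?_)
  have e := congrArg (fun v => polar q v ((P.D l).tp x z)) (h w)
  simp only [← P.L_eq_sl, (P.D l).L_tp, (P.D l).polar_tp] at e
  change polar q1 (app A x) x * polar (pf q1 (t + 1)) w z = polar q1 x x * polar (pf q1 (t + 1)) (app B w) z at e
  rw [polar_sub_left, polar_smul_left, smul_eq_mul, div_mul_eq_mul_div, e, mul_div_cancel_left₀ _ hp, sub_self]

/-- The cell groups are trivial: factors with at least two other factors. -/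
theorem cellGroup_eq_bot_succ {t : ℕ} {P : Pow q q1 (t + 1 + 2)} {H : Subgroup (O q)} (hO : P.Over H)
    {l : Fin (t + 1 + 2)} {u : Fin k → Fin k → F} (hu : IsFrame q1 u) (i : Fin k) :
    cellGroup P H l u i = ⊥ := by
  by_contra hne
  have h7 : 7 ≤ Fintype.card (Fin (k ^ (t + 1 + 1))) := by
    rw [Fintype.card_fin]
    have h3 := three_le P.good1
    calc 7 ≤ 3 ^ 2 := by norm_num
      _ ≤ k ^ 2 := Nat.pow_le_pow_left h3 2
      _ ≤ k ^ (t + 1 + 1) := Nat.pow_le_pow_right (by omega) (by omega)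
  set Γ := cellGroup P H l u i
  have hdich := hO.dich (by omega) (Γ ⊔ ((std P.good1 (t + 1)).Mon ⊓ commutator (O (pf q1 (t + 1 + 1)))))
    (sup_le (fun B hB => hB.1) inf_le_right) le_sup_right
  obtain ⟨γ, hγ, hγ1, n, hn⟩ := Pow.exists_comm_slot (t := t) (std P.good1 (t + 1)) h7 Γ (fun B hB => hB.1)
    (cellGroup_normal hO) hne hdich
  obtain ⟨hγΩ, h, hh, hs, hw⟩ := hγ
  have hM : h ∈ P.Mon := hO.mon_of_comm hh (l.succAbove n) fun v hv => by
    rw [← P.R_sl]
    refine P.ext_slices (l := l) hu fun j w => ?_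
    rw [app_mul, app_mul, (P.D l).R_tp]
    by_cases hj : j = i
    · subst hj
      rw [hw, hw, (P.D l).R_tp, ← app_mul, hn v hv, app_mul]
    · rw [hs j (by simpa using hj), hs j (by simpa using hj), (P.D l).R_tp]
  obtain ⟨j, hj⟩ := @_root_.exists_ne _ (Fin.nontrivial_iff_two_le.2 (by have := three_le P.good1; omega)) i
  obtain ⟨A, -, rfl⟩ := hs.eq_sl hu hM (j := j) (by simpa using hj)
  exact hγ1 (eq_one_of_scalar (P.D l).good2 (scalar_of_sl (hu.nz i) hw) hγΩ)

end

/-! ### Two factors -/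

/-- The numbering of one factor. -/
def ixOne (k : ℕ) : Fin (k ^ 1) ≃ Fin k := (ix k 1).symm.trans (Equiv.funUnique (Fin 1) (Fin k))

/-- One factor as the rest of two. -/
noncomputable def ψ : (Fin k → F) ≃ₗ[F] (Fin (k ^ (0 + 1)) → F) := LinearEquiv.funCongrLeft F F (ixOne k)

theorem ψ_eq (x : Fin k → F) : ψ x = tvR (t := 1) fun _ => x := by
  funext j
  simp [ψ, ixOne, tvR, tp, LinearEquiv.funCongrLeft_apply, LinearMap.funLeft_apply]

theorem polar_ψ (hg : IsGood q1) (x y : Fin k → F) : polar (pf q1 1) (ψ x) (ψ y) = polar q1 x y := by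
  rw [ψ_eq, ψ_eq]
  exact (polar_pf hg.two q1 (t := 1) _ _).trans (by simp)

theorem Q_ψ (hg : IsGood q1) (x : Fin k → F) : pf q1 1 (ψ x) = q1 x := by
  have h := polar_ψ hg x x
  rw [polar_self', polar_self'] at h
  exact mul_left_cancel₀ hg.two h

theorem mem_Mon_one (hg : IsGood q1) (B : O (pf q1 (0 + 1))) : B ∈ (std hg 0).Mon := by
  let L : (Fin k → F) →ₗ[F] (Fin k → F) := ψ.symm.toLinearMap ∘ₗ app B ∘ₗ (ψ (F := F) (k := k)).toLinearMap
  let M : (Fin k → F) →ₗ[F] (Fin k → F) := ψ.symm.toLinearMap ∘ₗ app B⁻¹ ∘ₗ (ψ (F := F) (k := k)).toLinearMap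
  let a : O q1 := mkO L M (LinearMap.ext fun x => by
      simp only [L, M, LinearMap.comp_apply, LinearEquiv.coe_coe, LinearEquiv.apply_symm_apply, LinearMap.id_apply]
      rw [app_app_inv, LinearEquiv.symm_apply_apply]) (LinearMap.ext fun x => by
      simp only [L, M, LinearMap.comp_apply, LinearEquiv.coe_coe, LinearEquiv.apply_symm_apply, LinearMap.id_apply]
      rw [app_inv_app, LinearEquiv.symm_apply_apply])
    fun x => by
      rw [← Q_ψ hg, ← Q_ψ hg x]
      simp [L]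
  have e : (std hg 0).sl 0 a = B := (std hg 0).ext_tv_O fun xs => by
    have hxs : xs = fun _ => xs 0 := funext fun i => by rw [Fin.fin_one_eq_zero i]
    have hup : ∀ z, Function.update xs 0 z = fun _ => z := fun z => funext fun i => by
      rw [Fin.fin_one_eq_zero i, Function.update_self]
    rw [sl_tv, hup, hxs, std_tv, std_tv]
    show tvR (fun _ => app a (xs 0)) = app B (tvR fun _ => xs 0)
    rw [← ψ_eq, ← ψ_eq, app_mkO]
    simp [L]
  exact e ▸ (std hg 0).sl_mem 0 a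

theorem swap_tp_ψ {P : Pow q q1 (0 + 2)} {l n : Fin (0 + 2)} (hn : n ≠ l) (x y : Fin k → F) :
    app (P.perm (Equiv.swap l n)) ((P.D l).tp x (ψ y)) = (P.D l).tp y (ψ x) := by
  rw [ψ_eq, ψ_eq, P.tp_tvR, P.tp_tvR, perm_tv]
  congr 1
  funext i
  induction i using l.succAboveCases with
  | x =>
    obtain ⟨j, rfl⟩ := Fin.exists_succAbove_eq hn
    simp
  | p j =>
    have hj : l.succAbove j = n := by
      obtain ⟨j', rfl⟩ := Fin.exists_succAbove_eq hn
      rw [Fin.fin_one_eq_zero j, Fin.fin_one_eq_zero j']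
    rw [← hj, Equiv.swap_apply_right, Fin.insertNth_apply_same, Fin.insertNth_apply_succAbove]

/-- The cell groups are trivial: two factors. -/
theorem cellGroup_eq_bot_zero {P : Pow q q1 (0 + 2)} {H : Subgroup (O q)} (hO : P.Over H)
    {l : Fin (0 + 2)} {u : Fin k → Fin k → F} (hu : IsFrame q1 u) (i : Fin k) :
    cellGroup P H l u i = ⊥ := by
  by_contra hne
  have hg := P.good1
  set D := P.D l
  obtain ⟨e, f, b0, he, hf, hef, heb, hfb, hb0, hroot⟩ := exists_root D.good2 (cellGroup P H l u i)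
    (fun B hB => hB.1) (fun η hη B hB => cellGroup_normal hO η (Subgroup.mem_inf.2 ⟨mem_Mon_one hg η, hη⟩) B hB) hne
  have hL : ∀ ω ∈ commutator (O D.q1), D.L ω ∈ H := fun ω hω =>
    hO.G_le (Subgroup.mem_inf.2 ⟨P.L_eq_sl l ω ▸ P.sl_mem l ω, D.L_omega hω⟩)
  have hR : ∀ ω ∈ commutator (O D.q2), D.R ω ∈ H := fun ω hω => hO.R_H l (mem_Mon_one hg ω) hω
  have hp : polar q1 (u i) (u i) ≠ 0 := hu.polar_self_ne i
  -- the root elements as elements of `H`
  have hcell : ∀ c : F, eich q (D.tp (u i) e) (c • D.tp (u i) b0) ∈ H := by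
    intro c
    obtain ⟨-, h, hh, hs, hw⟩ := hroot (c * polar q1 (u i) (u i))
    have hU : q (D.tp (u i) e) = 0 := by rw [D.Q_tp, he, mul_zero]
    have hA : polar q (D.tp (u i) e) (c • D.tp (u i) b0) = 0 := by
      rw [polar_smul_right, D.polar_tp, heb, mul_zero, smul_zero]
    have heq : h = eich q (D.tp (u i) e) (c • D.tp (u i) b0) := P.ext_slices hu fun j w => by
      by_cases hj : j = i
      · subst hj
        rw [hw, app_eich hU hA, app_eich he (by rw [polar_smul_right, heb, smul_zero]), D.tp_add_right,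
          D.tp_add_right, D.tp_smul_right, D.tp_smul_right, D.tp_smul_right]
        rw [show polar q ((P.D l).tp (u j) w) (D.tp (u j) e) = polar D.q1 (u j) (u j) * polar D.q2 w e from
            D.polar_tp _ _ _ _,
          show polar q ((P.D l).tp (u j) w) (c • D.tp (u j) b0) = c * (polar D.q1 (u j) (u j) * polar D.q2 w b0) by
            rw [polar_smul_right, smul_eq_mul]; exact congrArg _ (D.polar_tp _ _ _ _),
          show polar D.q1 (u j) (u j) = 2 * q1 (u j) from polar_self' _]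
        simp only [D.Q_tp, polar_smul_right, QuadraticMap.map_smul, smul_eq_mul, polar_self' (Q := q1),
          D.tp_smul_right]
        module
      · have h0 : ∀ y w', polar q (D.tp (u j) w') (D.tp (u i) y) = 0 := fun y w' => by
          rw [D.polar_tp]
          show polar q1 (u j) (u i) * _ = 0
          rw [hu.orth j i hj, zero_mul]
        rw [hs j (by simpa using hj), app_eich hU hA, h0, polar_smul_right, h0]
        simp
    exact heq ▸ hh
  have hE := pairs D hL he heb hb0 (hu.nz i) hcell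
  -- exchange the factors
  obtain ⟨e1, rfl⟩ := (ψ (F := F) (k := k)).surjective e
  obtain ⟨f1, rfl⟩ := (ψ (F := F) (k := k)).surjective f
  obtain ⟨a1, rfl⟩ := (ψ (F := F) (k := k)).surjective b0
  change pf q1 1 (ψ e1) = 0 at he
  change pf q1 1 (ψ f1) = 0 at hf
  change polar (pf q1 1) (ψ e1) (ψ f1) = 1 at hef
  change polar (pf q1 1) (ψ e1) (ψ a1) = 0 at heb
  change polar (pf q1 1) (ψ f1) (ψ a1) = 0 at hfb
  change pf q1 1 (ψ a1) ≠ 0 at hb0
  rw [polar_ψ hg] at hef heb hfb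
  rw [Q_ψ hg] at he hf hb0
  obtain ⟨n, hn⟩ := @_root_.exists_ne _ (Fin.nontrivial_iff_two_le.2 (by omega)) l
  obtain ⟨A, -, hA⟩ := P.exists_sl_mem l hu (S := Finset.univ) (by
    rw [Finset.card_univ, Fintype.card_fin]; have := three_le hg; omega) (P.perm (Equiv.swap l n))
  have hgH : P.perm (Equiv.swap l n) * P.sl l A ∈ H :=
    hO.G_le (Subgroup.mem_inf.2 ⟨mul_mem (P.perm_mem _) (P.sl_mem _ _), hA⟩)
  have hY : ∀ p p', eich q (D.tp e1 p) (D.tp e1 p') ∈ H := by
    intro p p'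
    obtain ⟨x, rfl⟩ := (ψ (F := F) (k := k)).surjective p
    obtain ⟨x', rfl⟩ := (ψ (F := F) (k := k)).surjective p'
    have h := H.mul_mem (H.mul_mem hgH (hE (app A⁻¹ x) (app A⁻¹ x'))) (H.inv_mem hgH)
    rw [eich_conj (by rw [D.Q_tp]; show _ * pf q1 1 _ = 0; rw [Q_ψ hg, he, mul_zero]) (by
      rw [D.polar_tp]; show _ * polar (pf q1 1) _ _ = 0
      rw [polar_ψ hg, polar_self', he, mul_zero, mul_zero]), app_mul, app_mul, ← P.L_eq_sl, D.L_tp, D.L_tp,
      app_app_inv, app_app_inv, swap_tp_ψ hn, swap_tp_ψ hn] at h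
    exact h
  have heψ : D.q2 (ψ e1) = 0 := (Q_ψ hg e1).trans he
  have hfψ : D.q2 (ψ f1) = 0 := (Q_ψ hg f1).trans hf
  have hefψ : polar D.q2 (ψ e1) (ψ f1) = 1 := (polar_ψ hg e1 f1).trans hef
  have hebψ : polar D.q2 (ψ e1) (ψ a1) = 0 := (polar_ψ hg e1 a1).trans heb
  have hfbψ : polar D.q2 (ψ f1) (ψ a1) = 0 := (polar_ψ hg f1 a1).trans hfb
  have hb0ψ : D.q2 (ψ a1) ≠ 0 := fun h => hb0 ((Q_ψ hg a1).symm.trans h)
  have hfull := full_of_pairs D hL hR (a0 := a1) (b0 := ψ a1) he hf hef ⟨heb, hfb⟩ hb0 heψ hfψ hefψ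
    ⟨hebψ, hfbψ⟩ hb0ψ hE hY
  -- move the centre to the opposite vector
  obtain ⟨W1, -, -⟩ := app_wEl D.good1 (Q := D.q1) (e := e1) (f := f1) (a := a1) he hf hef heb hfb hb0
  obtain ⟨W2, -, -⟩ := app_wEl D.good2 heψ hfψ hefψ hebψ hfbψ hb0ψ
  have hk : D.L (wEl D.q1 e1 f1 a1) * D.R (wEl D.q2 (ψ e1) (ψ f1) (ψ a1)) ∈ H :=
    H.mul_mem (hL _ (wEl_mem D.good1 he hf heb hfb)) (hR _ (wEl_mem D.good2 heψ hfψ hebψ hfbψ))
  refine hO.ne (CfsgLib.GeomClasses.OrthEich.commutator_le_of_pair P.good.nd ?_ hfull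
    (CfsgLib.GeomClasses.OrthEich.full_conj hk hfull) ?_)
  · have h1 := Fintype.card_congr (Equiv.refl ι)
    have h3 := three_le hg
    have e : Fintype.card ι = k ^ (0 + 2) := by
      have := LinearEquiv.finrank_eq P.E
      simpa [Module.finrank_fintype_fun_eq_card] using this.symm
    rw [e]
    calc 7 ≤ 3 ^ 2 := by norm_num
      _ ≤ k ^ (0 + 2) := Nat.pow_le_pow_left h3 2
  · rw [app_mul, D.R_tp, W2, D.L_tp, W1, D.tp_neg_left, D.tp_neg_right, neg_neg, D.tp_smul_left, D.tp_smul_right,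
      smul_smul, polar_smul_left, D.polar_tp]
    have hfe1 : polar D.q1 f1 e1 = 1 := by rw [polar_comm]; exact hef
    have hfe2 : polar D.q2 (ψ f1) (ψ e1) = 1 := by rw [polar_comm]; exact hefψ
    rw [hfe1, hfe2, mul_one, smul_eq_mul, mul_one]
    exact mul_ne_zero (inv_ne_zero hb0) (inv_ne_zero hb0ψ)

/-- An element supported on one slice is monomial. -/
theorem Over.cell {t : ℕ} {P : Pow q q1 (t + 2)} {H : Subgroup (O q)} (hO : P.Over H) {l : Fin (t + 2)}
    {u : Fin k → Fin k → F} (hu : IsFrame q1 u) (i : Fin k) {g : O q} (hg : g ∈ H) (hs : P.Supp l u {i} g) :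
    g ∈ P.Mon := by
  have hbot : cellGroup P H l u i = ⊥ := by
    cases t with
    | zero => exact cellGroup_eq_bot_zero hO hu i
    | succ t => exact cellGroup_eq_bot_succ hO hu i
  obtain ⟨B, hB⟩ := hs.exists_slice hu
  refine hO.mon_of_comm hg (l.succAbove 0) fun v hv => ?_
  set η := (std P.good1 t).sl 0 (TensorPowOdd.nr q1 v) with hη
  have hηΩ : η ∈ commutator (O (pf q1 (t + 1))) := (std P.good1 t).sl_omega _ hv.2
  have hc : B * η * B⁻¹ * η⁻¹ ∈ cellGroup P H l u i := by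
    refine ⟨mul_mem ((Subgroup.Normal.conj_mem inferInstance _ hηΩ) B) (inv_mem hηΩ), _,
      comm_mem hg (hO.R_H l ((std P.good1 t).sl_mem _ _) hηΩ), hs.comm_R η, fun w => ?_⟩
    have hi : ∀ z, app g⁻¹ ((P.D l).tp (u i) z) = (P.D l).tp (u i) (app B⁻¹ z) := fun z =>
      app_injective g (by rw [app_app_inv, hB, app_app_inv])
    rw [app_mul, app_mul, app_mul, ← map_inv, (P.D l).R_tp, hi, (P.D l).R_tp, hB]
    simp only [app_mul, hη]
  rw [hbot, Subgroup.mem_bot, mul_inv_eq_one, mul_inv_eq_iff_eq_mul] at hc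
  rw [← P.R_sl]
  refine P.ext_slices (l := l) hu fun j w => ?_
  rw [app_mul, app_mul, (P.D l).R_tp]
  by_cases hj : j = i
  · subst hj
    rw [hB, hB, (P.D l).R_tp, ← app_mul, hc, app_mul]
  · rw [hs j (by simpa using hj), hs j (by simpa using hj), (P.D l).R_tp]

end Pow

end CfsgLib.TensorPowOdd
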