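import Mathlib
import Cfsg.Agent.Lib.TensorPowOdd.Cells

/-!
An element of a proper overgroup which keeps the slice of an admissible vector is monomial, if the elements
with a smaller support are.
-/

set_option autoImplicit false
set_option linter.unusedSectionVars false
set_option maxHeartbeats 400000

namespace CfsgLib.TensorPowOdd

open Matrix QuadraticMap CfsgLib.Orth CfsgLib.TensorOdd

variable {F : Type*} [Field F] [Fintype F] {k : ℕ} {q1 : QuadraticForm F (Fin k → F)}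
variable {ι : Type} [Fintype ι] [DecidableEq ι] {q : QuadraticForm F (ι → F)}

/-- A change inside a smaller block. -/
theorem refr_mono {κ μ : Type} [Fintype κ] [DecidableEq κ] [Fintype μ] [DecidableEq μ]
    {Q : QuadraticForm F (μ → F)} {v v' : κ → μ → F} (hv : IsFrame Q v) {T S : Finset κ} (hTS : T ⊆ S)
    (h : Refr Q v v' T) : Refr Q v v' S :=
  ⟨h.1, fun j hj => h.2.1 j fun hh => hj (hTS hh), fun a ha => by
    by_cases haT : a ∈ T
    · exact (h.2.2 a haT).mono hTS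
    · rw [h.2.1 a haT]; exact InBlock.vec hv ha⟩

/-- The derived group moves a vector to every vector of the same value, up to sign. -/
theorem exists_omega_map {μ : Type} [Fintype μ] [DecidableEq μ] {Q : QuadraticForm F (μ → F)} (hg : IsGood Q)
    {v v' : μ → F} (hv : Q v ≠ 0) (hv' : Q v' = Q v) :
    ∃ ω ∈ commutator (O Q), app ω v = v' ∨ app ω v = -v' := by
  refine value_subset hg (Z := {z | ∃ ω ∈ commutator (O Q), app ω v = z ∨ app ω v = -z}) ?_ ?_
    (z := v) ⟨1, one_mem _, Or.inl (app_one _)⟩ hv hv'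
  · rintro z ⟨ω, hω, h | h⟩
    · exact ⟨ω, hω, Or.inr (by rw [h, neg_neg])⟩
    · exact ⟨ω, hω, Or.inl h⟩
  · rintro η hη z ⟨ω, hω, h | h⟩
    · exact ⟨η * ω, mul_mem hη hω, Or.inl (by rw [app_mul, h])⟩
    · exact ⟨η * ω, mul_mem hη hω, Or.inr (by rw [app_mul, h, map_neg])⟩

namespace Pow

variable {t : ℕ} {P : Pow q q1 (t + 2)} {H : Subgroup (O q)}

/-- The elements supported on at most `n` slices, not on all, are monomial. -/
def SmallOK (P : Pow q q1 (t + 2)) (H : Subgroup (O q)) (n : ℕ) : Prop :=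
  ∀ l u, IsFrame q1 u → ∀ S : Finset (Fin k), S.card ≤ n → S.card < k → ∀ g ∈ H, P.Supp l u S g → g ∈ P.Mon

/-- The action on a preserved slice. -/
theorem exists_act {g : O q} {l : Fin (t + 2)} {x : Fin k → F} (hx : q1 x ≠ 0) (h : P.Maps g l x l x) :
    ∃ B : O (pf q1 (t + 1)), ∀ w, app g ((P.D l).tp x w) = (P.D l).tp x (app B w) := by
  have hx0 : x ≠ 0 := fun h0 => hx (by rw [h0, QuadraticMap.map_zero])
  obtain ⟨B, c, -, hc, hB⟩ := P.maps_iso hx hx0 h
  have hc2 : c * c = 1 := by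
    rw [QuadraticMap.map_smul, smul_eq_mul] at hc
    exact mul_right_cancel₀ hx (hc.trans (one_mul _).symm)
  rcases mul_self_eq_one_iff.1 hc2 with rfl | rfl
  · exact ⟨B, fun w => by rw [hB, one_smul]⟩
  · exact ⟨negId _ * B, fun w => by
      rw [hB, app_mul, app_negId, neg_one_smul, (P.D l).tp_neg_left, (P.D l).tp_neg_right]⟩

theorem act_inv {g : O q} {l : Fin (t + 2)} {x : Fin k → F} {B : O (pf q1 (t + 1))}
    (h : ∀ w, app g ((P.D l).tp x w) = (P.D l).tp x (app B w)) (w : Fin (k ^ (t + 1)) → F) :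
    app g⁻¹ ((P.D l).tp x w) = (P.D l).tp x (app B⁻¹ w) :=
  app_injective g (by rw [app_app_inv, h, app_app_inv])

/-- Commutators with elements of the other factors act by commutators. -/
theorem act_comm {g : O q} {l : Fin (t + 2)} {x : Fin k → F} {B : O (pf q1 (t + 1))}
    (h : ∀ w, app g ((P.D l).tp x w) = (P.D l).tp x (app B w)) (η : O (pf q1 (t + 1)))
    (w : Fin (k ^ (t + 1)) → F) :
    app (g * (P.D l).R η * g⁻¹ * ((P.D l).R η)⁻¹) ((P.D l).tp x w) =
      (P.D l).tp x (app (B * η * B⁻¹ * η⁻¹) w) := by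
  rw [app_mul, app_mul, app_mul, ← map_inv, (P.D l).R_tp, act_inv h, (P.D l).R_tp, h]
  simp only [app_mul]

/-- Slices of orthogonal vectors have orthogonal images. -/
theorem orth_of_act {g : O q} {l : Fin (t + 2)} {a b a' b' : Fin k → F}
    {B B' : O (pf q1 (t + 1))} (hab : polar q1 a b = 0)
    (ha : ∀ w, app g ((P.D l).tp a w) = (P.D l).tp a' (app B w))
    (hb : ∀ w, app g ((P.D l).tp b w) = (P.D l).tp b' (app B' w)) : polar q1 a' b' = 0 := by
  obtain ⟨v, hv⟩ := exists_frame (P.D l).good2.nd (P.D l).good2.two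
  obtain ⟨m⟩ : Nonempty (Fin (k ^ (t + 1))) := Fintype.card_pos_iff.1 (by have := (P.D l).good2.three; omega)
  have e := polar_app g ((P.D l).tp a (app B⁻¹ (v m))) ((P.D l).tp b (app B'⁻¹ (v m)))
  rw [ha, hb, app_app_inv, app_app_inv, (P.D l).polar_tp, (P.D l).polar_tp] at e
  change polar q1 a' b' * polar (pf q1 (t + 1)) (v m) (v m) = polar q1 a b * _ at e
  rw [hab, zero_mul] at e
  exact (mul_eq_zero.1 e).resolve_right (hv.polar_self_ne m)

/-- Small support, a slice fixed: a factor element. -/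
theorem small_sl {n : ℕ} (hS : SmallOK P H n) {l : Fin (t + 2)} {u : Fin k → Fin k → F} (hu : IsFrame q1 u)
    {S : Finset (Fin k)} (hn : S.card ≤ n) {j : Fin k} (hj : j ∉ S) {g : O q} (hg : g ∈ H)
    (hs : P.Supp l u S g) : ∃ A, (∀ i, i ∉ S → app A (u i) = u i) ∧ g = P.sl l A :=
  hs.eq_sl hu (hS l u hu S hn (by
    have := Finset.card_lt_univ_of_notMem hj
    simpa using this) g hg hs) hj

/-- The actions on a slice of the elements supported on a block. -/
noncomputable def sliceGroup (P : Pow q q1 (t + 2)) (H : Subgroup (O q)) (l : Fin (t + 2))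
    (u : Fin k → Fin k → F) (S : Finset (Fin k)) (i : Fin k) : Subgroup (O (pf q1 (t + 1))) where
  carrier := {B | B ∈ commutator (O (pf q1 (t + 1))) ∧
    ∃ h ∈ H, P.Supp l u S h ∧ ∀ w, app h ((P.D l).tp (u i) w) = (P.D l).tp (u i) (app B w)}
  one_mem' := ⟨one_mem _, 1, H.one_mem, fun _ _ _ => app_one _, fun w => by rw [app_one, app_one]⟩
  mul_mem' := by
    rintro B B' ⟨hB, h, hh, hs, hw⟩ ⟨hB', h', hh', hs', hw'⟩
    exact ⟨mul_mem hB hB', h * h', H.mul_mem hh hh', hs.mul hs', fun w => by rw [app_mul, hw', hw, app_mul]⟩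
  inv_mem' := by
    rintro B ⟨hB, h, hh, hs, hw⟩
    exact ⟨inv_mem hB, h⁻¹, H.inv_mem hh, hs.inv, act_inv hw⟩

theorem sliceGroup_normal (hO : P.Over H) {l : Fin (t + 2)} {u : Fin k → Fin k → F} {S : Finset (Fin k)}
    {i : Fin k} : ∀ η ∈ (std P.good1 t).Mon ⊓ commutator (O (pf q1 (t + 1))), ∀ B ∈ sliceGroup P H l u S i,
      η * B * η⁻¹ ∈ sliceGroup P H l u S i := by
  rintro η hη B ⟨hB, h, hh, hs, hw⟩
  obtain ⟨hη1, hη2⟩ := Subgroup.mem_inf.1 hη
  refine ⟨mul_mem (mul_mem hη2 hB) (inv_mem hη2), _,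
    H.mul_mem (H.mul_mem (hO.R_H l hη1 hη2) hh) (H.inv_mem (hO.R_H l hη1 hη2)), hs.conj_R η, fun w => ?_⟩
  rw [app_mul, app_mul, ← map_inv, (P.D l).R_tp, hw, (P.D l).R_tp, app_mul, app_mul]

/-- A commutator acting trivially on a preserved slice. -/
theorem comm_of_act (hO : P.Over H) {n : ℕ} (hS : SmallOK P H n) {l : Fin (t + 2)} {u : Fin k → Fin k → F}
    (hu : IsFrame q1 u) {S : Finset (Fin k)} (hn : S.card ≤ n + 1) {i : Fin k} (hi : i ∈ S) {g : O q}
    (hg : g ∈ H) (hs : P.Supp l u S g) {B : O (pf q1 (t + 1))}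
    (hB : ∀ w, app g ((P.D l).tp (u i) w) = (P.D l).tp (u i) (app B w)) (m : Fin (t + 1)) {v : Fin k → F}
    (hv : Adm q1 v) (hc : B * (std P.good1 t).sl m (TensorPowOdd.nr q1 v) = (std P.good1 t).sl m (TensorPowOdd.nr q1 v) * B) :
    g * P.sl (l.succAbove m) (TensorPowOdd.nr q1 v) = P.sl (l.succAbove m) (TensorPowOdd.nr q1 v) * g := by
  set η := (std P.good1 t).sl m (TensorPowOdd.nr q1 v) with hη
  have hηH : (P.D l).R η ∈ H := hO.R_H l ((std P.good1 t).sl_mem _ _) ((std P.good1 t).sl_omega _ hv.2)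
  have hsupp : P.Supp l u (S.erase i) (g * (P.D l).R η * g⁻¹ * ((P.D l).R η)⁻¹) := fun j hj w => by
    by_cases hji : j = i
    · subst hji
      rw [act_comm hB, hc, mul_inv_cancel_right, mul_inv_cancel, app_one]
    · exact hs.comm_R η j (fun h => hj (Finset.mem_erase.2 ⟨hji, h⟩)) w
  obtain ⟨A, -, hA⟩ := small_sl hS hu (by rw [Finset.card_erase_of_mem hi]; omega) (Finset.notMem_erase i S)
    (comm_mem hg hηH) hsupp
  refine comm_of_L (P := P) (l := l) (A := A) (Fin.succAbove_ne l m) ?_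
  rw [← P.R_sl, ← hA, ← hη]
  group

/-- An element keeping a slice maps the orthogonal admissible slices to slices. -/
theorem key_maps (hO : P.Over H) {n : ℕ} (hS : SmallOK P H n) {l : Fin (t + 2)} {u : Fin k → Fin k → F}
    (hu : IsFrame q1 u) {S : Finset (Fin k)} (hn : S.card ≤ n + 1) {i : Fin k} (hi : i ∈ S) {g : O q}
    (hg : g ∈ H) (hs : P.Supp l u S g) {B : O (pf q1 (t + 1))}
    (hB : ∀ w, app g ((P.D l).tp (u i) w) = (P.D l).tp (u i) (app B w)) {v : Fin k → F} (hv : Adm q1 v)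
    (hvb : InBlock q1 u (S.erase i) v) : ∃ v', v' ≠ 0 ∧ P.Maps g l v l v' := by
  have hσ : ∀ j, j ∉ S.erase i → ∀ w, app (P.sl l (TensorPowOdd.nr q1 v)) ((P.D l).tp (u j) w) = -(P.D l).tp (u j) w :=
    fun j hj w => by
      rw [← P.L_eq_sl, (P.D l).L_tp, TensorPowOdd.nr, app_mul, app_negId,
        app_refl_of_ortho (by rw [polar_comm]; exact hvb j hj), (P.D l).tp_neg_left]
  have hsupp : P.Supp l u (S.erase i)
      (g * P.sl l (TensorPowOdd.nr q1 v) * g⁻¹ * (P.sl l (TensorPowOdd.nr q1 v))⁻¹) := fun j hj w => by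
    rw [sl_inv, app_mul, app_mul, app_mul, hσ j hj, map_neg]
    by_cases hji : j = i
    · subst hji
      rw [act_inv hB, map_neg, hσ j hj, neg_neg, hB, app_app_inv]
    · have hjS : j ∉ S := fun h => hj (Finset.mem_erase.2 ⟨hji, h⟩)
      rw [hs.inv j hjS, map_neg, hσ j hj, neg_neg, hs j hjS]
  obtain ⟨A, -, hA⟩ := small_sl hS hu (by rw [Finset.card_erase_of_mem hi]; omega) (Finset.notMem_erase i S)
    (comm_mem hg (hO.nr_H l hv)) hsupp
  refine P.maps_of_conj hv.1 (B := A * TensorPowOdd.nr q1 v) ?_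
  rw [map_mul, ← hA, sl_inv, mul_assoc _ (P.sl l _) (P.sl l _), sl_invol, mul_one]

/-- A slice group is trivial: more than two factors. -/
theorem sliceGroup_eq_bot_succ {t : ℕ} {P : Pow q q1 (t + 1 + 2)} {H : Subgroup (O q)} (hO : P.Over H) {n : ℕ}
    (hS : SmallOK P H n) {l : Fin (t + 1 + 2)} {u : Fin k → Fin k → F} (hu : IsFrame q1 u) {S : Finset (Fin k)}
    (hn : S.card ≤ n + 1) (hk : S.card < k) {i : Fin k} (hi : i ∈ S) : sliceGroup P H l u S i = ⊥ := by
  by_contra hne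
  have h7 : 7 ≤ Fintype.card (Fin (k ^ (t + 1 + 1))) := by
    rw [Fintype.card_fin]
    have h3 := three_le P.good1
    calc 7 ≤ 3 ^ 2 := by norm_num
      _ ≤ k ^ 2 := Nat.pow_le_pow_left h3 2
      _ ≤ k ^ (t + 1 + 1) := Nat.pow_le_pow_right (by omega) (by omega)
  set Γ := sliceGroup P H l u S i
  have hdich := hO.dich (by omega) (Γ ⊔ ((std P.good1 (t + 1)).Mon ⊓ commutator (O (pf q1 (t + 1 + 1)))))
    (sup_le (fun B hB => hB.1) inf_le_right) le_sup_right
  obtain ⟨γ, hγ, hγ1, m, hm⟩ := Pow.exists_comm_slot (t := t) (std P.good1 (t + 1)) h7 Γ (fun B hB => hB.1)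
    (sliceGroup_normal hO) hne hdich
  obtain ⟨hγΩ, h, hh, hs, hw⟩ := hγ
  have hM : h ∈ P.Mon := hO.mon_of_comm hh (l.succAbove m) fun v hv =>
    comm_of_act hO hS hu hn hi hh hs hw m hv (hm v hv)
  obtain ⟨j, hj⟩ : ∃ j, j ∉ S := by
    by_contra hno
    push Not at hno
    rw [Finset.eq_univ_iff_forall.2 hno, Finset.card_univ, Fintype.card_fin] at hk
    exact lt_irrefl _ hk
  obtain ⟨A, -, rfl⟩ := hs.eq_sl hu hM hj
  exact hγ1 (eq_one_of_scalar (P.D l).good2 (scalar_of_sl (hu.nz i) hw) hγΩ)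

/-- The pairs of actions on two preserved slices. -/
def PairAct (P : Pow q q1 (t + 2)) (H : Subgroup (O q)) (l : Fin (t + 2)) (u : Fin k → Fin k → F)
    (S : Finset (Fin k)) (a b : Fin k) (γ δ : O (pf q1 (t + 1))) : Prop :=
  γ ∈ commutator (O (pf q1 (t + 1))) ∧ δ ∈ commutator (O (pf q1 (t + 1))) ∧ ∃ h ∈ H, P.Supp l u S h ∧
    (∀ w, app h ((P.D l).tp (u a) w) = (P.D l).tp (u a) (app γ w)) ∧
    ∀ w, app h ((P.D l).tp (u b) w) = (P.D l).tp (u b) (app δ w)

theorem pairAct_trivial {P : Pow q q1 (0 + 2)} {H : Subgroup (O q)} (hO : P.Over H) {n : ℕ}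
    (hS : SmallOK P H n) {l : Fin (0 + 2)} {u : Fin k → Fin k → F} (hu : IsFrame q1 u) {S : Finset (Fin k)}
    (hn : S.card ≤ n + 1) {j : Fin k} (hj : j ∉ S) {a b : Fin k} (ha : a ∈ S) (hb : b ∈ S) (hab : a ≠ b)
    {γ δ : O (pf q1 (0 + 1))} (h : PairAct P H l u S a b γ δ) : γ = 1 := by
  have hg2 := (P.D l).good2
  by_contra hγ1
  -- one action determines the other
  have det : ∀ {γ δ δ'}, PairAct P H l u S a b γ δ → PairAct P H l u S a b γ δ' → δ = δ' := by
    rintro γ δ δ' ⟨-, hδ, h, hh, hs, hwa, hwb⟩ ⟨-, hδ', h', hh', hs', hwa', hwb'⟩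
    have hs2 : P.Supp l u (S.erase a) (h'⁻¹ * h) := fun i hi w => by
      by_cases hia : i = a
      · subst hia; rw [app_mul, hwa, act_inv hwa', app_inv_app]
      · exact (hs'.inv.mul hs) i (fun hh2 => hi (Finset.mem_erase.2 ⟨hia, hh2⟩)) w
    obtain ⟨A, -, hA⟩ := small_sl hS hu (by rw [Finset.card_erase_of_mem ha]; omega) (Finset.notMem_erase a S)
      (H.mul_mem (H.inv_mem hh') hh) hs2
    have hsc := eq_one_of_scalar hg2 (scalar_of_sl (P := P) (B := δ'⁻¹ * δ) (hu.nz b) (A := A) fun w => by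
      rw [← hA, app_mul, hwb, act_inv hwb', app_mul]) (mul_mem (inv_mem hδ') hδ)
    rw [inv_mul_eq_one] at hsc
    exact hsc.symm
  have conjR : ∀ {γ δ}, PairAct P H l u S a b γ δ → ∀ ω ∈ commutator (O (pf q1 (0 + 1))),
      PairAct P H l u S a b (ω * γ * ω⁻¹) (ω * δ * ω⁻¹) := by
    rintro γ δ ⟨hγ, hδ, h, hh, hs, hwa, hwb⟩ ω hω
    refine ⟨mul_mem (mul_mem hω hγ) (inv_mem hω), mul_mem (mul_mem hω hδ) (inv_mem hω), _,
      H.mul_mem (H.mul_mem (hO.R_H l (mem_Mon_one P.good1 ω) hω) hh)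
        (H.inv_mem (hO.R_H l (mem_Mon_one P.good1 ω) hω)), hs.conj_R ω, fun w => ?_, fun w => ?_⟩
    · rw [app_mul, app_mul, ← map_inv, (P.D l).R_tp, hwa, (P.D l).R_tp, app_mul, app_mul]
    · rw [app_mul, app_mul, ← map_inv, (P.D l).R_tp, hwb, (P.D l).R_tp, app_mul, app_mul]
  have conjH : ∀ {γ δ γ' δ'}, PairAct P H l u S a b γ δ → PairAct P H l u S a b γ' δ' →
      PairAct P H l u S a b (γ * γ' * γ⁻¹) (δ * δ' * δ⁻¹) := by
    rintro γ δ γ' δ' ⟨hγ, hδ, h, hh, hs, hwa, hwb⟩ ⟨hγ', hδ', h', hh', hs', hwa', hwb'⟩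
    refine ⟨mul_mem (mul_mem hγ hγ') (inv_mem hγ), mul_mem (mul_mem hδ hδ') (inv_mem hδ), _,
      H.mul_mem (H.mul_mem hh hh') (H.inv_mem hh), (hs.mul hs').mul hs.inv, fun w => ?_, fun w => ?_⟩
    · rw [app_mul, app_mul, act_inv hwa, hwa', hwa, app_mul, app_mul]
    · rw [app_mul, app_mul, act_inv hwb, hwb', hwb, app_mul, app_mul]
  -- the two actions agree
  obtain ⟨hγΩ, hδΩ, h0, hh0, hs0, hwa0, hwb0⟩ := h
  have hδ1 : δ ≠ 1 := fun hd => by
    have hs2 : P.Supp l u (S.erase b) h0 := fun i hi w => by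
      by_cases hib : i = b
      · subst hib; rw [hwb0, hd, app_one]
      · exact hs0 i (fun hh2 => hi (Finset.mem_erase.2 ⟨hib, hh2⟩)) w
    obtain ⟨A, -, rfl⟩ := small_sl hS hu (by rw [Finset.card_erase_of_mem hb]; omega) (Finset.notMem_erase b S)
      hh0 hs2
    exact hγ1 (eq_one_of_scalar hg2 (scalar_of_sl (hu.nz a) hwa0) hγΩ)
  have h : PairAct P H l u S a b γ δ := ⟨hγΩ, hδΩ, h0, hh0, hs0, hwa0, hwb0⟩
  have heq : δ = γ := by
    have hsc : IsScalar (γ⁻¹ * δ) := scalar_of_commute hg2 {δ' | ∃ γ', PairAct P H l u S a b γ' δ'}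
      (fun ω hω δ' ⟨γ', h'⟩ => ⟨_, conjR h' ω hω⟩) ⟨γ, h⟩
      (fun hs => hδ1 (eq_one_of_scalar hg2 hs hδΩ)) fun δ' ⟨γ', h'⟩ => by
        have e := det (conjH h h') (conjR h' γ hγΩ)
        rw [mul_inv_eq_iff_eq_mul] at e
        calc γ⁻¹ * δ * δ' = γ⁻¹ * (γ * δ' * γ⁻¹ * δ) := by rw [mul_assoc γ⁻¹, e]
          _ = δ' * (γ⁻¹ * δ) := by group
    have := eq_one_of_scalar hg2 hsc (mul_mem (inv_mem hγΩ) hδΩ)
    rw [inv_mul_eq_one] at this
    exact this.symm
  -- a vector of the plane with the value of an outer member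
  have hcard : ({a, b} : Finset (Fin k)).card = 2 := Finset.card_pair hab
  have hsub : ({a, b} : Finset (Fin k)) ⊆ S := by
    intro x hx
    rcases Finset.mem_insert.1 hx with rfl | hx
    · exact ha
    · rw [Finset.mem_singleton.1 hx]; exact hb
  obtain ⟨u', z, hz, hzq, hR⟩ := refr_value hu hcard.ge (hu.nz j)
  obtain ⟨z', hz', hzz⟩ : ∃ z' ∈ ({a, b} : Finset (Fin k)), z' ≠ z := by
    rcases Finset.mem_insert.1 hz with rfl | hz
    · exact ⟨b, by simp, hab.symm⟩
    · exact ⟨a, by simp, by rw [Finset.mem_singleton.1 hz]; exact hab⟩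
  have hRS := refr_mono hu hsub hR
  have hu' := hR.1
  have hjz : j ≠ z := fun e => hj (e ▸ hsub hz)
  have hju : u' j = u j := hRS.2.1 j hj
  -- the swap
  set y := u' z - u' j with hy
  have hzjq : q1 (u' j) = q1 (u' z) := by rw [hju, hzq]
  have hyq : q1 y = 2 * q1 (u' z) := by
    rw [hy, sub_eq_add_neg, QuadraticMap.map_add ⇑q1, QuadraticMap.map_neg, polar_neg_right,
      hu'.orth z j hjz.symm, hzjq]
    ring
  have hy0 : q1 y ≠ 0 := hyq ▸ mul_ne_zero hu'.two (hu'.nz z)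
  have hswap : app (refl q1 y) (u' z) = u' j := by
    rw [app_refl, hyq, hy, polar_sub_right, polar_self', hu'.orth z j hjz.symm, sub_zero,
      inv_mul_cancel₀ (mul_ne_zero hu'.two (hu'.nz z)), one_smul, sub_sub_cancel]
  have hswap' : app (refl q1 y) (u' j) = u' z := by rw [← hswap, ← app_mul, refl_mul_self, app_one]
  have hfix : ∀ i, i ≠ z → i ≠ j → app (refl q1 y) (u' i) = u' i := fun i h1 h2 => app_refl_of_ortho (by
    rw [hy, polar_sub_right, hu'.orth i z h1, hu'.orth i j h2, sub_zero])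
  obtain ⟨v0, hv0⟩ := exists_frame (P.D l).good2.nd (P.D l).good2.two
  obtain ⟨β, -, hβ⟩ := (P.D l).exists_R_mem hv0 (S := Finset.univ) (by
    rw [Finset.card_univ, Fintype.card_fin]; have := (P.D l).three_b; omega) ((P.D l).L (refl q1 y))
  set mm := (P.D l).L (refl q1 y) * (P.D l).R β with hmm
  have hmH : mm ∈ H := hO.G_le (Subgroup.mem_inf.2 ⟨mul_mem (P.L_eq_sl l _ ▸ P.sl_mem _ _)
    (P.R_mem_Mon l (mem_Mon_one P.good1 β)), hβ⟩)
  -- the supported elements with equal actions keep the new slices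
  have hact : ∀ {γ' : O (pf q1 (0 + 1))} {h' : O q},
      (∀ w, app h' ((P.D l).tp (u a) w) = (P.D l).tp (u a) (app γ' w)) →
      (∀ w, app h' ((P.D l).tp (u b) w) = (P.D l).tp (u b) (app γ' w)) → ∀ c ∈ ({a, b} : Finset (Fin k)),
      ∀ w, app h' ((P.D l).tp (u' c) w) = (P.D l).tp (u' c) (app γ' w) := by
    intro γ' h' h1 h2 c hc w
    rw [(hR.2.2 c hc).eq_sum hu, (P.D l).tp_sum_left, map_sum, (P.D l).tp_sum_left]
    refine Finset.sum_congr rfl fun i hi => ?_
    rw [map_smul]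
    rcases Finset.mem_insert.1 hi with rfl | hi
    · rw [h1]
    · rw [Finset.mem_singleton.1 hi, h2]
  have hconjm : ∀ {γ' : O (pf q1 (0 + 1))} {h' : O q}, P.Supp l u S h' →
      (∀ c ∈ ({a, b} : Finset (Fin k)), ∀ w, app h' ((P.D l).tp (u' c) w) = (P.D l).tp (u' c) (app γ' w)) →
      (∀ w, app (mm * h' * mm⁻¹) ((P.D l).tp (u' z) w) = (P.D l).tp (u' z) w) ∧
      (∀ w, app (mm * h' * mm⁻¹) ((P.D l).tp (u' j) w) = (P.D l).tp (u' j) (app (β * γ' * β⁻¹) w)) ∧
      (∀ w, app (mm * h' * mm⁻¹) ((P.D l).tp (u' z') w) = (P.D l).tp (u' z') (app (β * γ' * β⁻¹) w)) ∧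
      P.Supp l u' (insert j S) (mm * h' * mm⁻¹) := by
    intro γ' h' hs' hw'
    have hs'' : P.Supp l u' S h' := hs'.refr hRS
    have hinv : mm⁻¹ = ((P.D l).R β⁻¹) * (P.D l).L (refl q1 y) := by
      rw [hmm, _root_.mul_inv_rev, map_inv, ← map_inv (P.D l).L, refl_inv]
    have hval : ∀ x x' w w', app (refl q1 y) x = x' →
        app h' ((P.D l).tp x' (app β⁻¹ w)) = (P.D l).tp x' w' →
        app (mm * h' * mm⁻¹) ((P.D l).tp x w) = (P.D l).tp x (app β w') := by
      intro x x' w w' hx hh'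
      rw [app_mul, app_mul, hinv, app_mul (h := (P.D l).L (refl q1 y)), (P.D l).L_tp, hx, (P.D l).R_tp, hh', hmm,
        app_mul, (P.D l).R_tp, (P.D l).L_tp, ← hx, ← app_mul, refl_mul_self, app_one]
    refine ⟨fun w => ?_, fun w => ?_, fun w => ?_, fun i hi w => ?_⟩
    · rw [hval _ _ w _ hswap (hs'' j hj _), app_app_inv]
    · rw [hval _ _ w _ hswap' (hw' z hz _), app_mul, app_mul]
    · rw [hval _ _ w _ (hfix z' hzz fun e => hj (e ▸ hsub hz')) (hw' z' hz' _), app_mul, app_mul]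
    · rw [Finset.mem_insert, not_or] at hi
      rw [hval _ _ w _ (hfix i (fun e => hi.2 (e ▸ hsub hz)) hi.1) (hs'' i hi.2 _), app_app_inv]
  -- the conjugated actions commute
  refine hγ1 (eq_one_of_scalar hg2 (scalar_of_commute hg2
    {x | ∃ γ' δ', PairAct P H l u S a b γ' δ' ∧ γ' = δ' ∧ x = β * γ' * β⁻¹} ?_ ⟨γ, δ, h, heq.symm, rfl⟩ ?_ ?_) hγΩ)
  · rintro ω hω _ ⟨γ', δ', h', rfl, rfl⟩
    have hω' : β⁻¹ * ω * β ∈ commutator (O (pf q1 (0 + 1))) := by
      have := (Subgroup.Normal.conj_mem inferInstance _ hω) β⁻¹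
      simpa using this
    exact ⟨_, _, conjR h' _ hω', rfl, by group⟩
  · intro hsc
    refine hγ1 ?_
    obtain ⟨c, hc⟩ := hsc
    refine eq_one_of_scalar hg2 ⟨c, fun x => app_injective β ?_⟩ hγΩ
    have := hc (app β x)
    rw [app_mul, app_mul, app_inv_app] at this
    rw [this, map_smul]
  · rintro _ ⟨γ', δ', ⟨hγ', -, h', hh', hs', hwa', hwb'⟩, rfl, rfl⟩
    subst heq
    have hw0 := hact hwa0 hwb0
    have hw' := hact hwa' hwb'
    obtain ⟨cz, cj, cz', cs⟩ := hconjm hs' hw'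
    set d' := mm * h' * mm⁻¹
    set G' := β * γ' * β⁻¹
    have hd'H : d' ∈ H := H.mul_mem (H.mul_mem hmH hh') (H.inv_mem hmH)
    have hs0' : P.Supp l u' S h0 := hs0.refr hRS
    have hsupp : P.Supp l u' (S.erase z) (h0 * d' * h0⁻¹ * d'⁻¹) := fun i hi w => by
      by_cases hiz : i = z
      · subst hiz
        rw [app_mul, app_mul, app_mul, show app d'⁻¹ ((P.D l).tp (u' i) w) = (P.D l).tp (u' i) w from
          app_injective d' (by rw [app_app_inv, cz]), act_inv (hw0 i hz), cz, hw0 i hz, app_app_inv]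
      · have hiS : i ∉ S := fun hh2 => hi (Finset.mem_erase.2 ⟨hiz, hh2⟩)
        rw [app_mul, app_mul, app_mul]
        by_cases hij : i = j
        · subst hij
          rw [act_inv cj, hs0'.inv i hiS, cj, hs0' i hiS, app_app_inv]
        · rw [cs.inv i (by simp [hij, hiS]), hs0'.inv i hiS, cs i (by simp [hij, hiS]), hs0' i hiS]
    obtain ⟨A, -, hA⟩ := small_sl hS hu' (by rw [Finset.card_erase_of_mem (hsub hz)]; omega)
      (Finset.notMem_erase z S) (comm_mem hh0 hd'H) hsupp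
    have hG'Ω : G' ∈ commutator (O (pf q1 (0 + 1))) := (Subgroup.Normal.conj_mem inferInstance _ hγ') β
    have hsc := eq_one_of_scalar hg2 (scalar_of_sl (P := P) (x := u' z') (B := δ * G' * δ⁻¹ * G'⁻¹) (hu'.nz z')
      (A := A) fun w => by
        rw [← hA, app_mul, app_mul, app_mul, act_inv cz', act_inv (hw0 z' hz'), cz', hw0 z' hz']
        simp only [app_mul, G'])
      (mul_mem (mul_mem (mul_mem hγΩ hG'Ω) (inv_mem hγΩ)) (inv_mem hG'Ω))
    rwa [mul_inv_eq_one, mul_inv_eq_iff_eq_mul] at hsc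

/-- A slice group is trivial: two factors. -/
theorem sliceGroup_eq_bot_zero {P : Pow q q1 (0 + 2)} {H : Subgroup (O q)} (hO : P.Over H) {n : ℕ}
    (hS : SmallOK P H n) {l : Fin (0 + 2)} {u : Fin k → Fin k → F} (hu : IsFrame q1 u) {S : Finset (Fin k)}
    (hn : S.card ≤ n + 1) {j : Fin k} (hj : j ∉ S) {i : Fin k} (hi : i ∈ S) :
    sliceGroup P H l u S i = ⊥ := by
  have hg2 := (P.D l).good2
  rcases Nat.lt_or_ge S.card 2 with h1 | h2
  · -- a single slice
    have hS1 : S = {i} := Finset.eq_singleton_iff_unique_mem.2 ⟨hi, fun x hx => by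
      by_contra hne
      have := Finset.one_lt_card.2 ⟨x, hx, i, hi, hne⟩
      omega⟩
    subst hS1
    exact cellGroup_eq_bot_zero hO hu i
  refine (Subgroup.eq_bot_iff_forall _).2 fun γ hγ => ?_
  obtain ⟨hγΩ, h, hh, hs, hw⟩ := hγ
  obtain ⟨iv, hiv⟩ := Finset.card_pos.1 (show 0 < (S.erase i).card by rw [Finset.card_erase_of_mem hi]; omega)
  -- a second slice kept by the commutators
  obtain ⟨v', hv'0, hm, hv'b⟩ : ∃ v' : Fin k → F, q1 v' ≠ 0 ∧
      (∃ (x : Fin k → F) (B : O (pf q1 (0 + 1))), InBlock q1 u (S.erase i) x ∧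
        ∀ w, app h ((P.D l).tp x w) = (P.D l).tp v' (app B w)) ∧ InBlock q1 u (S.erase i) v' := by
    obtain ⟨x, B', v', hx, hB'⟩ : ∃ (x : Fin k → F) (B : O (pf q1 (0 + 1))) (v' : Fin k → F),
        (q1 x ≠ 0 ∧ q1 v' = q1 x ∧ InBlock q1 u (S.erase i) x) ∧
        ∀ w, app h ((P.D l).tp x w) = (P.D l).tp v' (app B w) := by
      by_cases h3 : 2 ≤ (S.erase i).card
      · obtain ⟨u', i', hi', hadm, hR⟩ := exists_adm_block P.good1 hu h3
        obtain ⟨v', hv', hm⟩ := key_maps hO hS hu hn hi hh hs hw hadm (hR.2.2 i' hi')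
        obtain ⟨B, c, -, hc, hB⟩ := P.maps_iso hadm.1 hv' hm
        exact ⟨u' i', B, c • v', ⟨hadm.1, hc, hR.2.2 i' hi'⟩, hB⟩
      · have hm : P.Maps h l (u iv) l (u iv) := fun w => by
          obtain ⟨w', hw'⟩ := (P.D l).swap.mem_col hu iv (z := app h ((P.D l).tp (u iv) w)) fun a ha y => by
            rw [(P.D l).swap_tp]
            by_cases hai : a = i
            · subst hai
              rw [← app_app_inv h ((P.D l).tp (u a) y), act_inv hw, polar_app, (P.D l).polar_tp]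
              show polar q1 (u iv) (u a) * _ = 0
              rw [hu.orth iv a (Finset.mem_erase.1 hiv).1, zero_mul]
            · have haS : a ∉ S := fun haS => ha (Finset.card_le_one.1 (by omega) a
                (Finset.mem_erase.2 ⟨hai, haS⟩) iv hiv)
              conv_lhs => rw [← hs a haS y]
              rw [polar_app, (P.D l).polar_tp]
              show polar q1 (u iv) (u a) * _ = 0
              rw [hu.orth iv a (Ne.symm ha), zero_mul]
          exact ⟨w', by rw [hw', (P.D l).swap_tp]⟩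
        obtain ⟨B, hB⟩ := exists_act (hu.nz iv) hm
        exact ⟨u iv, B, u iv, ⟨hu.nz iv, rfl, InBlock.vec hu hiv⟩, hB⟩
    refine ⟨v', hx.2.1 ▸ hx.1, ⟨x, B', hx.2.2, hB'⟩, fun a ha => ?_⟩
    by_cases hai : a = i
    · subst hai
      refine orth_of_act (P := P) (hx.2.2 a ha) hB' (B' := γ) ?_
      exact hw
    · exact orth_of_act (P := P) (hx.2.2 a ha) hB' (B' := 1) fun w => by
        rw [app_one]; exact hs a (fun haS => ha (Finset.mem_erase.2 ⟨hai, haS⟩)) w
  obtain ⟨x, B, hxb, hB⟩ := hm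
  obtain ⟨u', b, hb, hbv, hR⟩ := refr_vec hu (S.erase i) hv'b hv'0
  have hRS := refr_mono hu (Finset.erase_subset i S) hR
  have hui : u' i = u i := hR.2.1 i (Finset.notMem_erase i S)
  have key : ∀ ω ∈ commutator (O (pf q1 (0 + 1))), γ * ω * γ⁻¹ * ω⁻¹ = 1 := by
    intro ω hω
    refine pairAct_trivial hO hS hR.1 hn hj hi (Finset.erase_subset i S hb) (Finset.mem_erase.1 hb).1.symm
      (δ := B * ω * B⁻¹ * ω⁻¹) ⟨mul_mem (mul_mem (mul_mem hγΩ hω) (inv_mem hγΩ)) (inv_mem hω),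
        mul_mem (Subgroup.Normal.conj_mem inferInstance _ hω B) (inv_mem hω), _,
        comm_mem hh (hO.R_H l (mem_Mon_one P.good1 ω) hω), (hs.comm_R ω).refr hRS, fun w => ?_, fun w => ?_⟩
    · rw [hui, act_comm hw]
    · rw [hbv, app_mul, app_mul, app_mul, ← map_inv, (P.D l).R_tp,
        show app h⁻¹ ((P.D l).tp v' (app ω⁻¹ w)) = (P.D l).tp x (app B⁻¹ (app ω⁻¹ w)) from
          app_injective h (by rw [app_app_inv, hB, app_app_inv]), (P.D l).R_tp, hB]
      simp only [app_mul]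
  refine eq_one_of_scalar hg2 (scalar_of_adm hg2 fun v hv => comm_of_negId ?_) hγΩ
  have := key _ hv.2
  rwa [mul_inv_eq_one, mul_inv_eq_iff_eq_mul] at this

/-- An element keeping the slice of an admissible vector is monomial, inside a block. -/
theorem Over.step_lt (hO : P.Over H) {n : ℕ} (hS : SmallOK P H n) {l : Fin (t + 2)} {u : Fin k → Fin k → F}
    (hu : IsFrame q1 u) {S : Finset (Fin k)} (hn : S.card ≤ n + 1) (hk : S.card < k) {i : Fin k} (hi : i ∈ S)
    {g : O q} (hg : g ∈ H) (hs : P.Supp l u S g) (hm : P.Maps g l (u i) l (u i)) : g ∈ P.Mon := by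
  obtain ⟨j, hj⟩ : ∃ j, j ∉ S := by
    by_contra hno
    push Not at hno
    rw [Finset.eq_univ_iff_forall.2 hno, Finset.card_univ, Fintype.card_fin] at hk
    exact lt_irrefl _ hk
  have hbot : sliceGroup P H l u S i = ⊥ := by
    cases t with
    | zero => exact sliceGroup_eq_bot_zero hO hS hu hn hj hi
    | succ t => exact sliceGroup_eq_bot_succ hO hS hu hn hk hi
  obtain ⟨B, hB⟩ := exists_act (hu.nz i) hm
  refine hO.mon_of_comm hg (l.succAbove 0) fun v hv => comm_of_act hO hS hu hn hi hg hs hB 0 hv ?_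
  set η := (std P.good1 t).sl 0 (TensorPowOdd.nr q1 v)
  have hηΩ : η ∈ commutator (O (pf q1 (t + 1))) := (std P.good1 t).sl_omega _ hv.2
  have hc : B * η * B⁻¹ * η⁻¹ ∈ sliceGroup P H l u S i :=
    ⟨mul_mem (Subgroup.Normal.conj_mem inferInstance _ hηΩ B) (inv_mem hηΩ), _,
      comm_mem hg (hO.R_H l ((std P.good1 t).sl_mem _ _) hηΩ), hs.comm_R η, act_comm hB η⟩
  rwa [hbot, Subgroup.mem_bot, mul_inv_eq_one, mul_inv_eq_iff_eq_mul] at hc

/-- The elements keeping a slice act on it monomially: more than two factors. -/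
theorem act_mon_succ {t : ℕ} {P : Pow q q1 (t + 1 + 2)} {H : Subgroup (O q)} (hO : P.Over H)
    (hS : SmallOK P H (k - 1)) {l : Fin (t + 1 + 2)} {u : Fin k → Fin k → F} (hu : IsFrame q1 u) (i : Fin k)
    {B : O (pf q1 (t + 1 + 1))} (hB : B ∈ sliceGroup P H l u Finset.univ i) :
    B ∈ (std P.good1 (t + 1)).Mon := by
  have hle : (std P.good1 (t + 1)).Mon ⊓ commutator (O (pf q1 (t + 1 + 1))) ≤
      sliceGroup P H l u Finset.univ i := fun η hη => by
    obtain ⟨h1, h2⟩ := Subgroup.mem_inf.1 hη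
    exact ⟨h2, _, hO.R_H l h1 h2, fun j hj => absurd (Finset.mem_univ j) hj, fun w => (P.D l).R_tp η _ w⟩
  rcases hO.dich (by omega) (sliceGroup P H l u Finset.univ i) (fun B hB => hB.1) hle with h | h
  · exact h hB
  exfalso
  let W : Pow (pf q1 (t + 1 + 1)) q1 (t + 2) := std P.good1 (t + 1)
  obtain ⟨v, hv, hadm⟩ := exists_adm_frame P.good1
  have hk3 := three_le P.good1
  let c0 : Fin k := ⟨0, by omega⟩
  let c1 : Fin k := ⟨1, by omega⟩
  let c2 : Fin k := ⟨2, by omega⟩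
  have h01 : c0 ≠ c1 := by simp [c0, c1, Fin.ext_iff]
  have h02 : c0 ≠ c2 := by simp [c0, c2, Fin.ext_iff]
  have h12 : c1 ≠ c2 := by simp [c1, c2, Fin.ext_iff]
  obtain ⟨w, hwf⟩ := exists_frame (W.D 0).good2.nd (W.D 0).good2.two
  obtain ⟨m⟩ : Nonempty (Fin (k ^ (t + 1))) := Fintype.card_pos_iff.1 (by
    have := (W.D 0).good2.three; omega)
  obtain ⟨s, hs0, hs⟩ : ∃ s : F, s ≠ 0 ∧ q1 (v c1) + s * s * q1 (v c2) ≠ 0 := by
    by_cases h : q1 (v c1) + q1 (v c2) = 0
    · rcases card_field P.good1.two with hq3 | hq5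
      · exfalso
        have hsq : IsSquare (q1 (v c1) * q1 (v c2)) := by
          have hc0 : ∏ i, q1 (v i) ≠ 0 := Finset.prod_ne_zero_iff.2 fun i _ => hv.nz i
          rw [← sqSign_eq_iff (hv.nz _) (hv.nz _), (sqSign_eq_iff (hv.nz _) hc0).2
            ((adm_iff_frame P.good1 hv (hv.nz _)).1 (hadm c1)), (sqSign_eq_iff (hv.nz _) hc0).2
            ((adm_iff_frame P.good1 hv (hv.nz _)).1 (hadm c2))]
        obtain ⟨r, hr⟩ := hsq
        obtain ⟨h30, hsq1⟩ := three_facts hq3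
        have hr0 : r ≠ 0 := fun h0 => mul_ne_zero (hv.nz c1) (hv.nz c2) (by rw [hr, h0, mul_zero])
        have h1 := hsq1 r hr0
        have h2 := hsq1 _ (hv.nz c2)
        have : (2 : F) = 0 := by linear_combination (q1 (v c2)) * h - hr - h1 - h2
        exact P.good1.two this
      · obtain ⟨s, hs0, hs⟩ := CfsgLib.TensorMax63.exists_scale hq5 1
        refine ⟨s, hs0, fun h' => hs ?_⟩
        exact mul_right_cancel₀ (hv.nz c2) (by linear_combination h' - h)
    · exact ⟨1, one_ne_zero, by simpa using h⟩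
  obtain ⟨w', m2, hm2, hw2, hRw⟩ := refr_value hwf (S := Finset.univ.erase m) (by
    rw [Finset.card_erase_of_mem (Finset.mem_univ m), Finset.card_univ, Fintype.card_fin]
    have := (W.D 0).three_b; omega) (div_ne_zero (mul_ne_zero hs (hwf.nz m)) (hv.nz c2))
  have hwm : w' m = w m := hRw.2.1 m (Finset.notMem_erase m _)
  have hm2' : m2 ≠ m := (Finset.mem_erase.1 hm2).1
  set a := (W.D 0).tp (v c1 + s • v c2) (w' m) with ha
  set b := (W.D 0).tp (v c2) (w' m2) with hb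
  have hqv : q1 (v c1 + s • v c2) = q1 (v c1) + s * s * q1 (v c2) := by
    rw [QuadraticMap.map_add ⇑q1, QuadraticMap.map_smul, polar_smul_right, hv.orth c1 c2 h12, smul_eq_mul]
    simp
  have hqa : pf q1 (t + 1 + 1) a ≠ 0 := by
    rw [ha, (W.D 0).Q_tp]
    show (2 : F) * q1 _ * _ ≠ 0
    rw [hqv]
    exact mul_ne_zero (mul_ne_zero P.good1.two hs) (hRw.1.nz m)
  have hab : pf q1 (t + 1 + 1) a = pf q1 (t + 1 + 1) b := by
    rw [ha, hb, (W.D 0).Q_tp, (W.D 0).Q_tp]
    show (2 : F) * q1 _ * _ = (2 : F) * q1 _ * _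
    rw [hqv, hw2, hwm]
    have := hv.nz c2
    field_simp
  set η := refl (pf q1 (t + 1 + 1)) a * refl (pf q1 (t + 1 + 1)) b
  have hηΩ : η ∈ commutator (O (pf q1 (t + 1 + 1))) := pair_mem W.good hqa hab
  obtain ⟨-, g, hg, -, hgw⟩ : η ∈ sliceGroup P H l u Finset.univ i := h.symm ▸ hηΩ
  have hη0 : ∀ x, app η ((W.D 0).tp (v c0) x) = (W.D 0).tp (v c0) x := fun x => by
    rw [app_mul, app_refl_of_ortho (x := (W.D 0).tp (v c0) x) (v := b), app_refl_of_ortho]
    · rw [ha, (W.D 0).polar_tp]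
      show polar q1 (v c0) _ * _ = 0
      rw [polar_add_right, polar_smul_right, hv.orth _ _ h01, hv.orth _ _ h02, smul_zero, add_zero, zero_mul]
    · rw [hb, (W.D 0).polar_tp]
      show polar q1 (v c0) _ * _ = 0
      rw [hv.orth _ _ h02, zero_mul]
  have hcy : η * W.sl 0 (TensorPowOdd.nr q1 (v c0)) = W.sl 0 (TensorPowOdd.nr q1 (v c0)) * η :=
    W.comm_of_maps (hv.nz c0) fun x => ⟨x, hη0 x⟩
  set nn := l.succAbove 0 with hnn
  have hgy : g * P.sl nn (TensorPowOdd.nr q1 (v c0)) = P.sl nn (TensorPowOdd.nr q1 (v c0)) * g :=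
    comm_of_act hO hS hu (by rw [Finset.card_univ, Fintype.card_fin]; omega) (Finset.mem_univ i) hg
      (fun j hj => absurd (Finset.mem_univ j) hj) hgw 0 (hadm c0) hcy
  obtain ⟨Bn, hBn⟩ := exists_act (hv.nz c0) (P.maps_of_comm (hv.nz c0) hgy)
  obtain ⟨y', hy'0, hy'⟩ := key_maps hO hS (l := nn) hv (S := Finset.univ)
    (by rw [Finset.card_univ, Fintype.card_fin]; omega) (Finset.mem_univ c0) hg
    (fun j hj => absurd (Finset.mem_univ j) hj) hBn (hadm c1)
    (InBlock.vec hv (Finset.mem_erase.2 ⟨h01.symm, Finset.mem_univ _⟩))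
  -- the image of the orthogonal slice
  have hsl : W.Maps η 0 (v c1) 0 y' := by
    intro x
    obtain ⟨z, hz⟩ : ∃ z, app g ((P.D l).tp (u i) ((W.D 0).tp (v c1) x)) = (P.D nn).tp y' z := by
      obtain ⟨xx, hxx⟩ : ∃ xx, (P.D l).tp (u i) ((W.D 0).tp (v c1) x) = (P.D nn).tp (v c1) xx := by
        let T : (Fin (k ^ (t + 1)) → F) →ₗ[F] (ι → F) ⧸ LinearMap.range ((P.D nn).tpR (v c1)) :=
          (LinearMap.range ((P.D nn).tpR (v c1))).mkQ ∘ₗ (P.D l).tpR (u i) ∘ₗ (W.D 0).tpR (v c1)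
        have hT : T = 0 := ext_tvR fun ys => by
          simp only [T, LinearMap.comp_apply, LinearMap.zero_apply, Submodule.mkQ_apply,
            Submodule.Quotient.mk_eq_zero]
          refine ⟨tvR (nn.removeNth (l.insertNth (α := fun _ => Fin k → F) (u i)
            (Fin.insertNth (α := fun _ => Fin k → F) 0 (v c1) ys))), ?_⟩
          show (P.D nn).tp _ _ = (P.D l).tp (u i) ((W.D 0).tp (v c1) (tvR ys))
          rw [W.tp_tvR, std_tv, P.tp_tvR, P.tp_tvR]
          congr 1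
          have e : ∀ X : Fin (t + 1 + 2) → Fin k → F, X nn = v c1 → nn.insertNth (v c1) (nn.removeNth X) = X :=
            fun X hX => by rw [← hX, Fin.insertNth_self_removeNth]
          exact e _ (by rw [hnn, Fin.insertNth_apply_succAbove, Fin.insertNth_apply_same])
        have h1 := LinearMap.congr_fun hT x
        simp only [T, LinearMap.comp_apply, LinearMap.zero_apply, Submodule.mkQ_apply,
          Submodule.Quotient.mk_eq_zero] at h1
        obtain ⟨xx, hxx⟩ := h1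
        exact ⟨xx, hxx.symm⟩
      obtain ⟨z, hz⟩ := hy' xx
      exact ⟨z, by rw [hxx]; exact hz⟩
    rw [hgw] at hz
    -- pairing with the vectors orthogonal to `y'`
    obtain ⟨z0, hz0⟩ := exists_polar_eq_one (Q := q1) P.good1.nd hy'0
    obtain ⟨z1, hz1⟩ : ∃ z1, app η ((W.D 0).tp (v c1) x) = (W.D 0).tp y' z1 := by
      obtain ⟨f0, hf0⟩ := exists_frame P.good1.nd P.good1.two
      by_contra hno
      push Not at hno
      have hperp : ∀ r, polar q1 y' r = 0 → ∀ zz, polar (pf q1 (t + 1 + 1))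
          (app η ((W.D 0).tp (v c1) x)) ((W.D 0).tp r zz) = 0 := fun r hr zz => by
        have e := congrArg (fun vv => polar q vv ((P.D l).tp (u i) ((W.D 0).tp r zz))) hz
        simp only [(P.D l).polar_tp] at e
        obtain ⟨r', hr'⟩ : ∃ r', (P.D l).tp (u i) ((W.D 0).tp r zz) = (P.D nn).tp r r' := by
          let T : (Fin (k ^ (t + 1)) → F) →ₗ[F] (ι → F) ⧸ LinearMap.range ((P.D nn).tpR r) :=
            (LinearMap.range ((P.D nn).tpR r)).mkQ ∘ₗ (P.D l).tpR (u i) ∘ₗ (W.D 0).tpR r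
          have hT : T = 0 := ext_tvR fun ys => by
            simp only [T, LinearMap.comp_apply, LinearMap.zero_apply, Submodule.mkQ_apply,
              Submodule.Quotient.mk_eq_zero]
            refine ⟨tvR (nn.removeNth (l.insertNth (α := fun _ => Fin k → F) (u i)
              (Fin.insertNth (α := fun _ => Fin k → F) 0 r ys))), ?_⟩
            show (P.D nn).tp _ _ = (P.D l).tp (u i) ((W.D 0).tp r (tvR ys))
            rw [W.tp_tvR, std_tv, P.tp_tvR, P.tp_tvR]
            congr 1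
            have e : ∀ X : Fin (t + 1 + 2) → Fin k → F, X nn = r → nn.insertNth (r) (nn.removeNth X) = X :=
              fun X hX => by rw [← hX, Fin.insertNth_self_removeNth]
            exact e _ (by rw [hnn, Fin.insertNth_apply_succAbove, Fin.insertNth_apply_same])
          have h1 := LinearMap.congr_fun hT zz
          simp only [T, LinearMap.comp_apply, LinearMap.zero_apply, Submodule.mkQ_apply,
            Submodule.Quotient.mk_eq_zero] at h1
          obtain ⟨r', hr'⟩ := h1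
          exact ⟨r', hr'.symm⟩
        rw [hr', (P.D nn).polar_tp] at e
        change polar q1 (u i) (u i) * _ = polar q1 y' r * _ at e
        rw [hr, zero_mul] at e
        exact (mul_eq_zero.1 e).resolve_left (hu.polar_self_ne i)
      by_cases hqy : q1 y' = 0
      · -- `y'` has the value of `v c1`
        obtain ⟨Bi, c, -, hc, -⟩ := P.maps_iso (hv.nz c1) hy'0 hy'
        rw [QuadraticMap.map_smul, hqy, smul_zero] at hc
        exact hv.nz c1 hc.symm
      · obtain ⟨f1, jy, -, hjy, hR1⟩ := refr_vec hf0 Finset.univ (fun j hj => absurd (Finset.mem_univ j) hj) hqy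
        obtain ⟨z1, hz1⟩ := (W.D 0).swap.mem_col hR1.1 jy (z := app η ((W.D 0).tp (v c1) x)) fun a ha zz => by
          rw [(W.D 0).swap_tp]
          exact hperp _ (hjy ▸ hR1.1.orth jy a (Ne.symm ha)) zz
        exact hno z1 (by rw [hz1, (W.D 0).swap_tp, hjy])
    exact ⟨z1, hz1⟩
  -- but `η` does not do this
  obtain ⟨z1, hz1⟩ := hsl (w' m2)
  obtain ⟨z2, hz2⟩ := hsl (w' m)
  have hfix : app η ((W.D 0).tp (v c1) (w' m2)) = (W.D 0).tp (v c1) (w' m2) := by
    rw [app_mul, app_refl_of_ortho (x := (W.D 0).tp (v c1) (w' m2)) (v := b), app_refl_of_ortho]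
    · rw [ha, (W.D 0).polar_tp, hRw.1.orth m2 m hm2', mul_zero]
    · rw [hb, (W.D 0).polar_tp]
      show polar q1 (v c1) _ * _ = 0
      rw [hv.orth _ _ h12, zero_mul]
  have hy'l : ∃ c : F, c ≠ 0 ∧ y' = c • v c1 := by
    rw [hfix] at hz1
    obtain ⟨c, hc, h1, -⟩ := (W.D 0).tp_eq (hv.li.ne_zero c1) (hRw.1.li.ne_zero m2) hz1
    exact ⟨c, hc, h1⟩
  obtain ⟨c, hc0, rfl⟩ := hy'l
  have e := congrArg (fun vv => polar (pf q1 (t + 1 + 1)) vv ((W.D 0).tp (v c2) (w' m))) hz2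
  have e1 : polar (pf q1 (t + 1 + 1)) ((W.D 0).tp (v c1) (w' m)) b = 0 := by
    rw [hb, (W.D 0).polar_tp]
    show polar q1 (v c1) _ * _ = 0
    rw [hv.orth _ _ h12, zero_mul]
  simp only [η, app_mul, app_refl_of_ortho e1, app_refl, polar_sub_left, polar_smul_left, (W.D 0).polar_tp, ha] at e
  change polar q1 (v c1) (v c2) * polar (pf q1 (t + 1)) (w' m) (w' m) -
    _ • (polar q1 (v c1 + s • v c2) (v c2) * polar (pf q1 (t + 1)) (w' m) (w' m)) = _ at e
  rw [hv.orth _ _ h12, polar_add_left, polar_smul_left, hv.orth _ _ h12] at e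
  simp only [zero_mul, zero_sub, zero_add, smul_eq_mul, neg_eq_zero, mul_zero] at e
  have hne : ((pf q1 (t + 1 + 1)) a)⁻¹ *
      (polar q1 (v c1) (v c1 + s • v c2) * polar (pf q1 (t + 1)) (w' m) (w' m)) ≠ 0 := by
    refine mul_ne_zero (inv_ne_zero hqa) (mul_ne_zero ?_ (hRw.1.polar_self_ne m))
    rw [polar_add_right, polar_smul_right, hv.orth _ _ h12, smul_zero, add_zero]
    exact hv.polar_self_ne c1
  exact mul_ne_zero hne (mul_ne_zero (mul_ne_zero hs0 (hv.polar_self_ne c2)) (hRw.1.polar_self_ne m)) e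

/-- An element keeping the slice of a member of a frame with enough information is monomial. -/
theorem Over.step_univ (hO : P.Over H) (hS : SmallOK P H (k - 1)) {l : Fin (t + 2)} {x : Fin k → F}
    (hx : Adm q1 x) {g : O q} (hg : g ∈ H) (hm : P.Maps g l x l x) : g ∈ P.Mon := by
  obtain ⟨u₀, hu₀⟩ := exists_frame P.good1.nd P.good1.two
  obtain ⟨u, i, -, hui, hR⟩ := refr_vec hu₀ Finset.univ (fun j hj => absurd (Finset.mem_univ j) hj) hx.1
  subst hui
  have hu := hR.1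
  have hk3 := three_le P.good1
  obtain ⟨B, hB⟩ := exists_act (hu.nz i) hm
  have huniv : ∀ h : O q, P.Supp l u Finset.univ h := fun h j hj => absurd (Finset.mem_univ j) hj
  have hcard : 2 ≤ (Finset.univ.erase i : Finset (Fin k)).card := by
    rw [Finset.card_erase_of_mem (Finset.mem_univ i), Finset.card_univ, Fintype.card_fin]; omega
  have comp : ∀ β ∈ (std P.good1 t).Mon, ∃ h ∈ H, h⁻¹ * g ∈ P.Mon ∧
      ∀ w, app h ((P.D l).tp (u i) w) = (P.D l).tp (u i) (app (B * β) w) := by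
    intro β hβ
    obtain ⟨a, ha, haΩ⟩ := P.exists_sl_mem l hu hcard ((P.D l).R β)
    have hmon : (P.D l).R β * P.sl l a ∈ P.Mon := mul_mem (P.R_mem_Mon l hβ) (P.sl_mem l a)
    refine ⟨g * ((P.D l).R β * P.sl l a), H.mul_mem hg (hO.G_le (Subgroup.mem_inf.2 ⟨hmon, haΩ⟩)), ?_, fun w => ?_⟩
    · rw [_root_.mul_inv_rev, inv_mul_cancel_right]; exact inv_mem hmon
    · rw [app_mul, app_mul, ← P.L_eq_sl, (P.D l).L_tp, ha i (Finset.notMem_erase i _), (P.D l).R_tp, hB,
        app_mul]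
  have hBmon : B ∈ (std P.good1 t).Mon := by
    cases t with
    | zero => exact mem_Mon_one P.good1 B
    | succ t =>
      obtain ⟨w, hw⟩ := exists_frame P.good1.nd P.good1.two
      obtain ⟨b, -, hb⟩ := Pow.exists_sl_mem (t := t) (std P.good1 (t + 1)) 0 hw (S := Finset.univ) (by
        rw [Finset.card_univ, Fintype.card_fin]; omega) B
      have hbM : (std P.good1 (t + 1)).sl 0 b ∈ (std P.good1 (t + 1)).Mon := (std P.good1 (t + 1)).sl_mem _ _
      obtain ⟨h, hh, -, hw'⟩ := comp _ hbM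
      have := act_mon_succ hO hS hu i (B := B * (std P.good1 (t + 1)).sl 0 b) ⟨hb, h, hh, huniv h, hw'⟩
      exact ((std P.good1 (t + 1)).Mon.mul_mem_cancel_right hbM).1 this
  obtain ⟨h, hh, hhg, hw⟩ := comp B⁻¹ (inv_mem hBmon)
  have hM : h ∈ P.Mon := hS l u hu (Finset.univ.erase i)
    (by rw [Finset.card_erase_of_mem (Finset.mem_univ i), Finset.card_univ, Fintype.card_fin])
    (by rw [Finset.card_erase_of_mem (Finset.mem_univ i), Finset.card_univ, Fintype.card_fin]; omega)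
    h hh fun j hj w => by
      simp only [Finset.mem_erase, Finset.mem_univ, and_true, not_not] at hj
      subst hj
      rw [hw, mul_inv_cancel, app_one]
  simpa using mul_mem hM hhg

/-- An element mapping the slice of an admissible vector to a slice is monomial, inside a block. -/
theorem Over.step'_lt (hO : P.Over H) {n : ℕ} (hS : SmallOK P H n) {l : Fin (t + 2)} {u : Fin k → Fin k → F}
    (hu : IsFrame q1 u) {S : Finset (Fin k)} (hn : S.card ≤ n + 1) (hk : S.card < k) {g : O q}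
    (hg : g ∈ H) (hs : P.Supp l u S g) {x x' : Fin k → F} (hx : Adm q1 x) (hxb : InBlock q1 u S x)
    (hx'0 : x' ≠ 0) (hm : P.Maps g l x l x') : g ∈ P.Mon := by
  obtain ⟨B, c, hc0, hc, hB⟩ := P.maps_iso hx.1 hx'0 hm
  set y := c • x'
  have hqy : q1 y ≠ 0 := hc ▸ hx.1
  have hyb : InBlock q1 u S y := fun j hj =>
    orth_of_act (P := P) (hxb j hj) hB (B' := 1) fun w => by rw [app_one]; exact hs j hj w
  obtain ⟨u', i, hi, hiy, hR⟩ := refr_vec hu S hyb hqy
  obtain ⟨j, hj⟩ : ∃ j, j ∉ S := by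
    by_contra hno
    push Not at hno
    rw [Finset.eq_univ_iff_forall.2 hno, Finset.card_univ, Fintype.card_fin] at hk
    exact lt_irrefl _ hk
  refine hO.mon_of_comm hg (l.succAbove 0) fun v hv => ?_
  set η := (std P.good1 t).sl 0 (TensorPowOdd.nr q1 v) with hη
  have hηΩ : η ∈ commutator (O (pf q1 (t + 1))) := (std P.good1 t).sl_omega _ hv.2
  have hcH := comm_mem hg (hO.R_H l ((std P.good1 t).sl_mem _ _) hηΩ)
  have hgi : ∀ z, app g⁻¹ ((P.D l).tp y z) = (P.D l).tp x (app B⁻¹ z) := fun z =>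
    app_injective g (by rw [app_app_inv, hB, app_app_inv])
  have hcs := (hs.comm_R η).refr hR
  have hcm : P.Maps (g * (P.D l).R η * g⁻¹ * ((P.D l).R η)⁻¹) l (u' i) l (u' i) := fun w =>
    ⟨app (B * η * B⁻¹ * η⁻¹) w, by
      rw [hiy, app_mul, app_mul, app_mul, ← map_inv, (P.D l).R_tp, hgi, (P.D l).R_tp, hB]
      simp only [app_mul]⟩
  obtain ⟨A, -, hA⟩ := hcs.eq_sl hR.1 (hO.step_lt hS hR.1 hn hk hi hcH hcs hcm) hj
  refine comm_of_L (P := P) (l := l) (A := A) (Fin.succAbove_ne l _) ?_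
  rw [← hA, ← P.R_sl, ← hη]
  group

/-- An element mapping the slice of an admissible vector to a slice is monomial. -/
theorem Over.step'_univ (hO : P.Over H) (hS : SmallOK P H (k - 1)) {l : Fin (t + 2)} {g : O q}
    (hg : g ∈ H) {x x' : Fin k → F} (hx : Adm q1 x) (hx'0 : x' ≠ 0) (hm : P.Maps g l x l x') : g ∈ P.Mon := by
  obtain ⟨B, c, -, hc, hB⟩ := P.maps_iso hx.1 hx'0 hm
  obtain ⟨ω, hω, hωx⟩ := exists_omega_map P.good1 (v := c • x') (hc ▸ hx.1) hc.symm
  have hωM : P.sl l ω ∈ P.Mon := P.sl_mem l ω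
  have hωH : P.sl l ω ∈ H := hO.G_le (Subgroup.mem_inf.2 ⟨hωM, P.sl_omega l hω⟩)
  have := hO.step_univ hS hx (H.mul_mem hωH hg) (l := l) fun w => ?_
  · exact (P.Mon.mul_mem_cancel_left hωM).1 this
  rcases hωx with e | e
  · exact ⟨app B w, by rw [app_mul, hB, ← P.L_eq_sl, (P.D l).L_tp, e]⟩
  · exact ⟨-app B w, by
      rw [app_mul, hB, ← P.L_eq_sl, (P.D l).L_tp, e, (P.D l).tp_neg_left, (P.D l).tp_neg_right]⟩

end Pow

end CfsgLib.TensorPowOdd
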