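import Mathlib
import Cfsg.Agent.Lib.TensorPowOdd.Step

/-!
Irreducibility of the factorwise involutions of a tensor power, root elements of one factor and what commutes
with them, and determinants of factor elements.
-/

set_option autoImplicit false
set_option linter.unusedSectionVars false
set_option maxHeartbeats 400000

namespace CfsgLib.TensorPowOdd

open Matrix QuadraticMap CfsgLib.Orth CfsgLib.TensorOdd CfsgLib.Maximal.TensorPower

variable {F : Type*} [Field F] [Fintype F] {k : ℕ} {q1 : QuadraticForm F (Fin k → F)}

theorem tvR_zero {t : ℕ} {xs : Fin t → Fin k → F} {i : Fin t} (h : xs i = 0) : tvR xs = 0 := by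
  funext j
  exact Finset.prod_eq_zero (Finset.mem_univ i) (by rw [h]; rfl)

theorem tvR_update_add {t : ℕ} (xs : Fin t → Fin k → F) (i : Fin t) (x y : Fin k → F) :
    tvR (Function.update xs i (x + y)) = tvR (Function.update xs i x) + tvR (Function.update xs i y) := by
  funext j
  simp only [tvR, tp, Pi.add_apply, ← Finset.mul_prod_erase Finset.univ _ (Finset.mem_univ i),
    Function.update_self]
  rw [add_mul]
  congr 1 <;> refine congrArg _ (Finset.prod_congr rfl fun m hm => ?_) <;>
    simp [Function.update_of_ne (Finset.ne_of_mem_erase hm)]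

theorem tvR_update_smul {t : ℕ} (xs : Fin t → Fin k → F) (i : Fin t) (c : F) (x : Fin k → F) :
    tvR (Function.update xs i (c • x)) = c • tvR (Function.update xs i x) := by
  funext j
  simp only [tvR, tp, Pi.smul_apply, ← Finset.mul_prod_erase Finset.univ _ (Finset.mem_univ i),
    Function.update_self, smul_eq_mul]
  rw [mul_assoc]
  refine congrArg _ (congrArg _ (Finset.prod_congr rfl fun m hm => ?_))
  simp [Function.update_of_ne (Finset.ne_of_mem_erase hm)]

/-- The factorwise admissible involutions leave no proper non-zero subspace invariant. -/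
theorem invariant_top (hg : IsGood q1) {t : ℕ} (E : Submodule F (Fin (k ^ (t + 1)) → F))
    (hE : ∀ (j : Fin (t + 1)) (v : Fin k → F), Adm q1 v → ∀ z ∈ E, app ((std hg t).sl j (nr q1 v)) z ∈ E)
    {z : Fin (k ^ (t + 1)) → F} (hz : z ∈ E) (hz0 : z ≠ 0) : E = ⊤ := by
  classical
  obtain ⟨v, hv, hadm⟩ := exists_adm_frame hg
  have hf := isFrame_pf hg (t + 1) hv
  set f := fun I : Fin (k ^ (t + 1)) => tvR fun i => v ((ix k (t + 1)).symm I i) with hfdef
  obtain ⟨J, hJ⟩ : ∃ J, polar (pf q1 (t + 1)) z (f J) ≠ 0 := by
    by_contra hno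
    push Not at hno
    exact hz0 (hf.ext_vec fun J => by rw [polar_zero_left]; exact hno J)
  have hproj : ∀ s : Finset (Fin (t + 1)), ∃ y ∈ E, polar (pf q1 (t + 1)) y (f J) ≠ 0 ∧
      ∀ j ∈ s, ∀ I, (ix k (t + 1)).symm I j ≠ (ix k (t + 1)).symm J j → polar (pf q1 (t + 1)) y (f I) = 0 := by
    intro s
    induction s using Finset.induction_on with
    | empty => exact ⟨z, hz, hJ, fun j hj => absurd hj (Finset.notMem_empty j)⟩
    | @insert j s _ ih =>
      obtain ⟨y, hy, hyJ, hys⟩ := ih
      set jJ := (ix k (t + 1)).symm J j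
      set σ := (std hg t).sl j (nr q1 (v jJ))
      have hσ : ∀ I, app σ (f I) = (if (ix k (t + 1)).symm I j = jJ then (1 : F) else -1) • f I := by
        intro I
        simp only [hfdef]
        rw [← Pow.std_tv hg, Pow.sl_tv, Pow.std_tv, Pow.std_tv]
        by_cases h : (ix k (t + 1)).symm I j = jJ
        · rw [if_pos h, one_smul, nr, app_mul, app_negId, h, app_refl_self (hv.nz _), neg_neg, ← h]
          exact congrArg tvR (Function.update_eq_self j _)
        · rw [if_neg h, nr, app_mul, app_negId, app_refl_of_ortho (hv.orth _ _ h), ← neg_one_smul F (v _),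
            tvR_update_smul]
          exact congrArg _ (congrArg tvR (Function.update_eq_self j _))
      have hinv : σ * σ = 1 := by rw [← map_mul, nr_invol, map_one]
      have hp : ∀ I, polar (pf q1 (t + 1)) (y + app σ y) (f I) =
          (1 + (if (ix k (t + 1)).symm I j = jJ then (1 : F) else -1)) * polar (pf q1 (t + 1)) y (f I) := by
        intro I
        have e : polar (pf q1 (t + 1)) (app σ y) (f I) = polar (pf q1 (t + 1)) y (app σ (f I)) := by
          rw [← polar_app σ y (app σ (f I)), ← app_mul σ σ, hinv, app_one]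
        rw [polar_add_left, e, hσ, polar_smul_right, smul_eq_mul]
        ring
      refine ⟨y + app σ y, E.add_mem hy (hE j _ (hadm _) y hy), ?_, fun j' hj' I hI => ?_⟩
      · rw [hp, if_pos rfl, one_add_one_eq_two]
        exact mul_ne_zero hg.two hyJ
      · rw [hp]
        rcases Finset.mem_insert.1 hj' with rfl | hj'
        · rw [if_neg hI, add_neg_cancel, zero_mul]
        · rw [hys j' hj' I hI, mul_zero]
  obtain ⟨y, hy, hyJ, hyall⟩ := hproj Finset.univ
  have hys : y = (polar (pf q1 (t + 1)) y (f J) / (2 * pf q1 (t + 1) (f J))) • f J := by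
    conv_lhs => rw [hf.eq_sum y]
    refine Finset.sum_eq_single J (fun I _ hI => ?_) (fun h => absurd (Finset.mem_univ J) h)
    obtain ⟨j, hj⟩ := Function.ne_iff.1 fun h => hI ((ix k (t + 1)).symm.injective h)
    rw [hyall j (Finset.mem_univ j) I hj, zero_div, zero_smul]
  rw [hys] at hy
  have hfJ : f J ∈ E := (Submodule.smul_mem_iff E
    (div_ne_zero hyJ (mul_ne_zero hg.two (hf.nz J)))).1 hy
  have hall : ∀ s : Finset (Fin (t + 1)), ∀ xs : Fin (t + 1) → Fin k → F,
      (∀ i, i ∉ s → xs i = v ((ix k (t + 1)).symm J i)) → tvR xs ∈ E := by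
    intro s
    induction s using Finset.induction_on with
    | empty =>
      intro xs hxs
      rw [show xs = fun i => v ((ix k (t + 1)).symm J i) from funext fun i => hxs i (Finset.notMem_empty i)]
      exact hfJ
    | @insert j s hjs ih =>
      intro xs hxs
      let Ej : Submodule F (Fin k → F) :=
        { carrier := {x | tvR (Function.update xs j x) ∈ E}
          zero_mem' := by
            show tvR (Function.update xs j 0) ∈ E
            rw [tvR_zero (i := j) (Function.update_self ..)]
            exact E.zero_mem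
          add_mem' := fun {a b} ha hb => by
            show tvR (Function.update xs j (a + b)) ∈ E
            rw [tvR_update_add]
            exact E.add_mem ha hb
          smul_mem' := fun c a ha => by
            show tvR (Function.update xs j (c • a)) ∈ E
            rw [tvR_update_smul]
            exact E.smul_mem c ha }
      have hne : v ((ix k (t + 1)).symm J j) ∈ Ej := ih _ fun i hi => by
        by_cases hij : i = j
        · subst hij; rw [Function.update_self]
        · rw [Function.update_of_ne hij]; exact hxs i (by simp [hij, hi])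
      have hinv : ∀ w, Adm q1 w → ∀ x ∈ Ej, app (refl q1 w) x ∈ Ej := by
        intro w hw x hx
        have h3 : tvR (Function.update xs j x) ∈ E := hx
        have h4 := hE j w hw _ h3
        rw [← Pow.std_tv hg, Pow.sl_tv, Pow.std_tv, Function.update_self, Function.update_idem, nr, app_mul,
          app_negId, ← neg_one_smul F (app _ x), tvR_update_smul] at h4
        exact (Submodule.smul_mem_iff E (neg_ne_zero.2 (one_ne_zero (α := F)))).1 h4
      rcases invariant_eq hg Ej hinv with h0 | h1
      · rw [h0, Submodule.mem_bot] at hne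
        exact absurd hne (hv.li.ne_zero _)
      · have h2 : xs j ∈ Ej := h1 ▸ Submodule.mem_top
        have h2' : tvR (Function.update xs j (xs j)) ∈ E := h2
        rwa [Function.update_eq_self] at h2'
  refine eq_top_iff.2 fun x _ => ?_
  have h := ext_tvR (f := E.mkQ) (g := (0 : (Fin (k ^ (t + 1)) → F) →ₗ[F] _ ⧸ E)) fun ys => by
    rw [Submodule.mkQ_apply, LinearMap.zero_apply, Submodule.Quotient.mk_eq_zero]
    exact hall Finset.univ ys fun i hi => absurd (Finset.mem_univ i) hi
  exact (Submodule.Quotient.mk_eq_zero E).1 (by simpa using LinearMap.congr_fun h x)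

/-- The involutions of admissible vectors lie in every group containing the root elements. -/
theorem nr_mem_of_roots (hg : IsGood q1) (C : Subgroup (O q1))
    (hC : ∀ e a, q1 e = 0 → polar q1 e a = 0 → eich q1 e a ∈ C) {v : Fin k → F} (hv : Adm q1 v) :
    nr q1 v ∈ C := by
  by_cases h5 : 5 ≤ k
  · have h : CfsgLib.POmega.eichGroup q1 ≤ C := by
      show Subgroup.closure _ ≤ C
      exact (Subgroup.closure_le _).2 fun g ⟨e, a, he, ha, hge⟩ => hge ▸ hC e a he ha
    refine h ?_
    rw [← CfsgLib.POmega.commutator_eq_eichGroup hg.nd (by rw [Fintype.card_fin]; exact h5)]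
    exact hv.2
  have hk : k = 3 := by
    have h3 := three_le hg
    obtain ⟨m, hm⟩ := hg.odd
    rw [Fintype.card_fin] at hm
    omega
  -- three dimensions
  obtain ⟨v₀, hv₀⟩ := exists_frame hg.nd hg.two
  obtain ⟨u₁, i, -, hi, hR⟩ := refr_vec hv₀ Finset.univ (fun j hj => absurd (Finset.mem_univ j) hj) hv.1
  obtain ⟨u, j, hj, huj, hR'⟩ := refr_value hR.1 (S := Finset.univ.erase i)
    (by rw [Finset.card_erase_of_mem (Finset.mem_univ i), Finset.card_univ, Fintype.card_fin]; omega)
    (neg_ne_zero.2 hv.1)
  have hui : u i = v := (hR'.2.1 i (Finset.notMem_erase i _)).trans hi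
  have hji : j ≠ i := (Finset.mem_erase.1 hj).1
  obtain ⟨m, hm⟩ := Finset.card_pos.1 (show 0 < ((Finset.univ.erase i).erase j).card by
    rw [Finset.card_erase_of_mem hj, Finset.card_erase_of_mem (Finset.mem_univ i), Finset.card_univ,
      Fintype.card_fin]; omega)
  simp only [Finset.mem_erase, Finset.mem_univ, and_true] at hm
  have hun : (Finset.univ : Finset (Fin k)) = {i, j, m} := (Finset.eq_univ_of_card _ (by
    rw [Finset.card_insert_of_notMem (by simp [hji.symm, hm.2.symm]), Finset.card_pair hm.1.symm,
      Fintype.card_fin, hk])).symm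
  have hu := hR'.1
  obtain ⟨r, hr⟩ := (adm_iff_frame hg hu hv.1).1 hv
  rw [hun, Finset.prod_insert (by simp [hji.symm, hm.2.symm]), Finset.prod_pair hm.1.symm, hui, huj] at hr
  -- the third vector, scaled
  have hr0 : r ≠ 0 := fun h => by
    rw [h, mul_zero] at hr
    exact mul_ne_zero hv.1 (mul_ne_zero hv.1 (mul_ne_zero (neg_ne_zero.2 hv.1) (hu.nz m))) hr
  set s := q1 v / r with hs
  set a := s • u m with ha
  have hqa : q1 a * q1 v = -1 := by
    rw [ha, QuadraticMap.map_smul, smul_eq_mul, hs]
    have := hv.1
    field_simp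
    linear_combination -hr
  set e := (2 : F)⁻¹ • (v + u j) with he
  set f := (2 * q1 v)⁻¹ • (v - u j) with hf
  have hvj : polar q1 v (u j) = 0 := hui ▸ hu.orth i j hji.symm
  have hqe : q1 e = 0 := by
    rw [he, QuadraticMap.map_smul, QuadraticMap.map_add ⇑q1, hvj, huj]
    simp
  have hqf : q1 f = 0 := by
    rw [hf, QuadraticMap.map_smul, sub_eq_add_neg, QuadraticMap.map_add ⇑q1, QuadraticMap.map_neg, polar_neg_right,
      hvj, huj]
    simp
  have hef : polar q1 e f = 1 := by
    rw [he, hf]
    simp only [polar_smul_left, polar_smul_right, polar_add_left, polar_sub_right, polar_self', hvj,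
      polar_comm (f := ⇑q1) (u j) v, huj, smul_eq_mul]
    have := hv.1
    have := hg.two
    field_simp
    ring
  have hvm : polar q1 v (u m) = 0 := hui ▸ hu.orth i m (Ne.symm hm.2)
  have hjm : polar q1 (u j) (u m) = 0 := hu.orth j m (Ne.symm hm.1)
  have hea : polar q1 e a = 0 := by
    rw [he, ha]; simp [polar_smul_left, polar_smul_right, polar_add_left, hvm, hjm]
  have hfa : polar q1 f a = 0 := by
    rw [hf, ha]; simp [polar_smul_left, polar_smul_right, polar_sub_left, hvm, hjm]
  have hqa0 : q1 a ≠ 0 := fun h => by rw [h, zero_mul] at hqa; exact one_ne_zero (neg_eq_zero.1 hqa.symm)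
  obtain ⟨W1, W2, W3⟩ := app_wEl hg hqe hqf hef hea hfa hqa0
  have hW : wEl q1 e f a = nr q1 v := hu.ext_O fun l => by
    have hl : l ∈ ({i, j, m} : Finset (Fin k)) := hun ▸ Finset.mem_univ l
    have hv' : v = e + q1 v • f := by
      rw [he, hf, smul_smul]
      have := hv.1
      have := hg.two
      match_scalars <;> field_simp <;> ring
    have hj' : u j = e - q1 v • f := by
      rw [he, hf, smul_smul]
      have := hv.1
      have := hg.two
      match_scalars <;> field_simp <;> ring
    have hinv : (q1 a)⁻¹ = -q1 v := inv_eq_of_mul_eq_one_right (by linear_combination -hqa)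
    have hsm : ∀ (W : O q1) (c : F) (x : Fin k → F), app W (c • x) = c • app W x := fun W c x => map_smul _ _ _
    simp only [Finset.mem_insert, Finset.mem_singleton] at hl
    clear_value e f a
    rcases hl with rfl | rfl | rfl
    · rw [nr, app_mul, app_negId, hui, app_refl_self hv.1, neg_neg]
      conv_lhs => rw [hv', map_add, hsm _ (q1 v) f, W1, W2, hinv]
      conv_rhs => rw [hv']
      match_scalars <;> first | linear_combination hqa | linear_combination -hqa | ring1
    · rw [nr, app_mul, app_negId, app_refl_of_ortho (by rw [polar_comm]; exact hvj)]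
      conv_lhs => rw [hj', map_sub, hsm _ (q1 v) f, W1, W2, hinv]
      conv_rhs => rw [hj']
      match_scalars <;> first | linear_combination hqa | linear_combination -hqa | ring1
    · rw [nr, app_mul, app_negId, app_refl_of_ortho (by rw [polar_comm]; exact hvm)]
      have h3 : s • app (wEl q1 e f a) (u l) = s • (-u l) := by rw [← map_smul, ← ha, W3, ha, smul_neg]
      exact smul_right_injective _ (div_ne_zero hv.1 hr0) h3
  rw [← hW]
  exact C.mul_mem (C.mul_mem (hC e a hqe hea) (hC f _ hqf (by rw [polar_smul_right, hfa, smul_zero])))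
    (hC e a hqe hea)

/-- A derivation vanishing condition for a unit of order prime to the characteristic. -/
theorem der_zero {R : Type*} [Ring R] [Module F R] [SMulCommClass F R R] [IsScalarTower F R R] {N Y : R} {m : ℕ}
    (hY : Y ^ m = 1) (hm : (m : F) ≠ 0) (hc : Y * (N * Y - Y * N) = (N * Y - Y * N) * Y) : N * Y = Y * N := by
  set D := N * Y - Y * N with hD
  have key : ∀ j : ℕ, N * Y ^ (j + 1) - Y ^ (j + 1) * N = ((j + 1 : ℕ) : F) • (Y ^ j * D) := by
    intro j
    induction j with
    | zero => rw [pow_one, pow_zero, one_mul]; simp [hD]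
    | succ j ih =>
      have e : N * Y ^ (j + 1 + 1) - Y ^ (j + 1 + 1) * N =
          (N * Y ^ (j + 1) - Y ^ (j + 1) * N) * Y + Y ^ (j + 1) * D := by
        rw [hD, pow_succ Y (j + 1)]
        simp only [mul_sub, sub_mul, mul_assoc]
        abel
      rw [e, ih, smul_mul_assoc, mul_assoc, ← hc, ← mul_assoc, ← pow_succ, Nat.cast_succ (j + 1), add_smul,
        one_smul]
  obtain ⟨j, rfl⟩ : ∃ j, m = j + 1 := Nat.exists_eq_succ_of_ne_zero fun h => hm (by simp [h])
  have h := key j
  rw [hY, mul_one, one_mul, sub_self] at h
  have h2 : Y ^ j * D = 0 := by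
    have := congrArg (fun x => (((j + 1 : ℕ) : F))⁻¹ • x) h
    simp only [smul_zero, smul_smul, inv_mul_cancel₀ hm, one_smul] at this
    exact this.symm
  have h3 : D = 0 := by
    have := congrArg (fun x => Y * x) h2
    simp only [mul_zero, ← mul_assoc, ← pow_succ'] at this
    rwa [hY, one_mul] at this
  exact sub_eq_zero.1 h3

variable {ι : Type} [Fintype ι] [DecidableEq ι] {q : QuadraticForm F (ι → F)}

theorem kmap_add_left {a b : ℕ} (D : Data q a b) (A B : (Fin a → F) →ₗ[F] (Fin a → F)) :
    D.kmap (A + B) LinearMap.id = D.kmap A LinearMap.id + D.kmap B LinearMap.id :=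
  D.ext_tp fun x y => by simp [D.kmap_tp, D.tp_add_left]

theorem kmap_smul_left {a b : ℕ} (D : Data q a b) (c : F) (A : (Fin a → F) →ₗ[F] (Fin a → F)) :
    D.kmap (c • A) LinearMap.id = c • D.kmap A LinearMap.id :=
  D.ext_tp fun x y => by simp [D.kmap_tp, D.tp_smul_left]

/-- An element of order prime to the characteristic which commutes with its conjugates under the roots of a
factor commutes with the roots. -/
theorem comm_roots {a b : ℕ} (D : Data q a b) {y : O q} {m : ℕ} (hy : y ^ m = 1) (hm : (m : F) ≠ 0) {K : Subgroup (O q)}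
    (hyK : y ∈ K) (hK : ∀ x ∈ K, ∀ x' ∈ K, x * x' = x' * x)
    (hroot : ∀ e c : Fin a → F, D.q1 e = 0 → polar D.q1 e c = 0 → ∀ x ∈ K,
      D.L (eich D.q1 e c) * x * (D.L (eich D.q1 e c))⁻¹ ∈ K) {e c : Fin a → F} (he : D.q1 e = 0)
    (hec : polar D.q1 e c = 0) : D.L (eich D.q1 e c) * y = y * D.L (eich D.q1 e c) := by
  set Y : Module.End F (ι → F) := app y with hYdef
  have hYm : Y ^ m = 1 := by
    have h : ∀ j : ℕ, Y ^ j = app (y ^ j) := by
      intro j
      induction j with
      | zero => ext x; simp
      | succ j ih => ext x; simp [pow_succ, ih, Y]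
    rw [h, hy]
    ext x; simp
  suffices main : ∀ c, polar D.q1 e c = 0 → D.q1 c = 0 ∨ 5 ≤ Fintype.card F →
      D.L (eich D.q1 e c) * y = y * D.L (eich D.q1 e c) by
    rcases card_field D.good.two with hq3 | hq5
    · -- singular parameters suffice
      obtain rfl | he0 := eq_or_ne e 0
      · rw [eich_zero_left, map_one, one_mul, mul_one]
      obtain ⟨f, hf, hqf⟩ := CfsgLib.POmega.exists_partner D.good1.nd he he0
      have P : CfsgLib.TensorMax63.Hyp D.q1 e f := ⟨he, hqf, hf⟩
      have hX := P.nondeg_mid D.good1.nd
      have hdim : 3 ≤ Module.finrank F (CfsgLib.TensorMax63.mid D.q1 e f) := by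
        have h1 := P.finrank_mid D.good1.nd
        have h2 := D.good1.big.resolve_right (by omega)
        simp only [Fintype.card_fin] at h1 h2
        omega
      set c' := c - polar D.q1 f c • e with hc'
      have hc'X : c' ∈ CfsgLib.TensorMax63.mid D.q1 e f := CfsgLib.TensorMax63.mem_mid.2 ⟨by
          rw [hc', polar_sub_right, polar_smul_right, hec, polar_self', he]; simp, by
          rw [hc', polar_sub_right, polar_smul_right, polar_comm (f := ⇑D.q1) f e, hf]; simp⟩
      have hcomm : ∀ z ∈ CfsgLib.TensorMax63.mid D.q1 e f, Commute (D.L (eich D.q1 e z)) y := by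
        intro z hz
        have hs := CfsgLib.TensorMax63.span_value D.good1.nd D.good1.two hX (Nat.le_of_succ_le hdim) (Or.inr hdim) (c := 0)
          (Or.inr hdim) hz
        suffices H2 : ∀ r : F, Commute (D.L (eich D.q1 e (r • z))) y by simpa using H2 1
        clear hz
        induction hs using Submodule.span_induction with
        | mem z hz =>
          intro r
          exact main _ (by rw [polar_smul_right, (CfsgLib.TensorMax63.mem_mid.1 hz.1).1, smul_zero])
            (Or.inl (by rw [QuadraticMap.map_smul, hz.2, smul_zero]))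
        | zero => intro r; rw [smul_zero, CfsgLib.POmega.eich_zero_right he, map_one]; exact Commute.one_left _
        | add z z' hz hz' h h' =>
          intro r
          have hperp : ∀ w ∈ Submodule.span F {w | w ∈ CfsgLib.TensorMax63.mid D.q1 e f ∧ D.q1 w = 0}, polar D.q1 e w = 0 := fun w hw =>
            (CfsgLib.TensorMax63.mem_mid.1 ((Submodule.span_le.2 fun v hv => hv.1 : _ ≤ CfsgLib.TensorMax63.mid D.q1 e f) hw)).1
          rw [smul_add, ← eich_add he (by rw [polar_smul_right, hperp z hz, smul_zero])
            (by rw [polar_smul_right, hperp z' hz', smul_zero]), map_mul]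
          exact (h r).mul_left (h' r)
        | smul s z _ h => intro r; rw [smul_smul]; exact h _
      have h2 := hcomm c' hc'X
      have e1 : eich D.q1 e c = eich D.q1 e c' := by
        rw [← mul_one (eich D.q1 e c'), ← eich_smul_self he (polar D.q1 f c), eich_add he
          (CfsgLib.TensorMax63.mem_mid.1 hc'X).1 (by rw [polar_smul_right, polar_self', he]; simp), hc',
          sub_add_cancel]
      rw [e1]
      exact h2
    · exact main c hec (Or.inr hq5)
  intro c hec hc
  let n : (Fin a → F) →ₗ[F] (Fin a → F) :=
    (D.q1.polarBilin.flip e).smulRight c - (D.q1.polarBilin.flip c).smulRight e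
  let mq : (Fin a → F) →ₗ[F] (Fin a → F) := -((D.q1 c) • (D.q1.polarBilin.flip e).smulRight e)
  set N : Module.End F (ι → F) := D.kmap n LinearMap.id
  set M : Module.End F (ι → F) := D.kmap mq LinearMap.id
  have hU : ∀ r : F, (app (D.L (eich D.q1 e (r • c))) : Module.End F (ι → F)) = 1 + r • N + (r * r) • M := by
    intro r
    refine D.ext_tp fun x z => ?_
    simp only [N, M, LinearMap.add_apply, LinearMap.smul_apply, Module.End.one_apply, D.kmap_tp,
      LinearMap.id_apply, n, mq, LinearMap.sub_apply, LinearMap.neg_apply, LinearMap.smulRight_apply,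
      LinearMap.flip_apply, polarBilin_apply_apply]
    rw [D.L_tp, app_eich he (by rw [polar_smul_right, hec, smul_zero]), polar_smul_right, QuadraticMap.map_smul]
    simp only [smul_eq_mul, ← D.tp_smul_left, ← D.tp_add_left]
    congr 1
    module
  have hN2 : N * N = (2 : F) • M := by
    show D.kmap n LinearMap.id ∘ₗ D.kmap n LinearMap.id = _
    rw [D.kmap_comp, LinearMap.id_comp, ← kmap_smul_left]
    congr 1
    refine LinearMap.ext fun x => ?_
    simp only [n, mq, LinearMap.comp_apply, LinearMap.sub_apply, LinearMap.smulRight_apply, LinearMap.flip_apply,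
      polarBilin_apply_apply, LinearMap.smul_apply, LinearMap.neg_apply, polar_sub_left, polar_smul_left,
      polar_comm (f := ⇑D.q1) c e, hec, polar_self', he, smul_eq_mul]
    module
  set K1 := N * Y - Y * N with hK1
  set K3 := N * Y * M - M * Y * N with hK3
  have hconj : ∀ r : F, Commute ((1 + r • N + (r * r) • M) * Y * (1 + (-r) • N + (r * r) • M)) Y := by
    intro r
    have h1 := hK _ (hroot e (r • c) he (by rw [polar_smul_right, hec, smul_zero]) y hyK) y hyK
    rw [← map_inv D.L, CfsgLib.POmega.eich_neg_inv he (by rw [polar_smul_right, hec, smul_zero]), ← neg_smul] at h1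
    have h2 := congrArg (fun g => (app g : Module.End F (ι → F))) h1
    have emul : ∀ g g' : O q, (app (g * g') : Module.End F (ι → F)) = app g * app g' := fun g g' => by
      ext x; simp
    simp only [emul, hU, neg_mul_neg] at h2
    exact h2
  have hodd : ∀ r : F, r ≠ 0 → Commute (K1 + (r * r) • K3) Y := by
    intro r hr
    have h := (hconj r).sub_left (hconj (-r))
    have e : (1 + r • N + (r * r) • M) * Y * (1 + (-r) • N + (r * r) • M) -
        (1 + (-r) • N + ((-r) * (-r)) • M) * Y * (1 + (- -r) • N + ((-r) * (-r)) • M) =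
        (2 * r) • (K1 + (r * r) • K3) := by
      simp only [hK1, hK3, add_mul, mul_add, one_mul, mul_one, smul_mul_assoc, mul_smul_comm, smul_smul,
        smul_add, smul_sub, neg_smul, neg_mul, mul_neg, neg_neg]
      module
    rw [e] at h
    have h' := h.smul_left (2 * r)⁻¹
    rwa [smul_smul, inv_mul_cancel₀ (mul_ne_zero D.good.two hr), one_smul] at h'
  have hK1Y : Commute K1 Y := by
    have h1 := hodd 1 one_ne_zero
    rw [one_mul, one_smul] at h1
    rcases hc with hc0 | hq5
    · have : M = 0 := by
        have e0 : mq = 0 := by simp [mq, hc0]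
        simp only [M, e0]
        exact D.ext_tp fun x z => by simp [D.kmap_tp, D.tp_zero_left]
      simpa [hK3, this] using h1
    · obtain ⟨r, hr0, hr⟩ := CfsgLib.TensorMax63.exists_scale hq5 1
      have h3 := (hodd r hr0).sub_left h1
      have e : K1 + (r * r) • K3 - (K1 + K3) = (r * r - 1) • K3 := by module
      rw [e] at h3
      have h4 := h3.smul_left (r * r - 1)⁻¹
      rw [smul_smul, inv_mul_cancel₀ (sub_ne_zero.2 hr), one_smul] at h4
      simpa using h1.sub_left h4
  have hNY : N * Y = Y * N := der_zero hYm hm hK1Y.eq.symm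
  have hMY : Commute M Y := by
    have h := ((Commute.mul_left hNY hNY).smul_left (2 : F)⁻¹)
    rwa [hN2, smul_smul, inv_mul_cancel₀ D.good.two, one_smul] at h
  have hall : Commute ((1 : Module.End F (ι → F)) + (1 : F) • N + ((1 : F) * 1) • M) Y :=
    ((Commute.one_left Y).add_left (Commute.smul_left hNY _)).add_left (hMY.smul_left _)
  rw [← hU, one_smul] at hall
  refine ext_app fun x => ?_
  rw [app_mul, app_mul]
  exact LinearMap.congr_fun hall.eq x

/-- The determinant of a reflection of the first factor. -/
theorem detHom_L_refl {a b : ℕ} (D : Data q a b) {z : Fin a → F} (hz : D.q1 z ≠ 0) :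
    detHom q (D.L (refl D.q1 z)) = -1 := by
  obtain ⟨v, hv⟩ := exists_frame D.good2.nd D.good2.two
  rw [D.L_refl hz hv, reflList, map_list_prod, List.map_map, List.map_map]
  rw [List.map_congr_left (g := fun _ => (-1 : Fˣ)) fun j _ => ?_]
  · rw [List.map_const', List.prod_replicate, Finset.length_toList, Finset.card_univ]
    exact D.good2.odd.neg_one_pow
  · simp only [Function.comp_apply]
    exact detHom_refl (by rw [D.Q_tp]; exact mul_ne_zero (mul_ne_zero D.good.two hz) (hv.nz j))

theorem detHom_omega {g : O q} (hg : g ∈ commutator (O q)) : detHom q g = 1 :=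
  MonoidHom.mem_ker.1 (Abelianization.commutator_subset_ker (detHom q) hg)

end CfsgLib.TensorPowOdd
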