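import Mathlib
import Cfsg.Agent.Lib.TensorPowOdd.Tools

/-!
In a proper overgroup of the monomial isometries an element supported on two slices is monomial.
-/

set_option autoImplicit false
set_option linter.unusedSectionVars false
set_option linter.style.haveILetI false
set_option maxHeartbeats 400000

namespace CfsgLib.TensorPowOdd

open Matrix QuadraticMap CfsgLib.Orth CfsgLib.TensorOdd

variable {F : Type*} [Field F] [Fintype F] {k : ℕ} {q1 : QuadraticForm F (Fin k → F)}
variable {ι : Type} [Fintype ι] [DecidableEq ι] {q : QuadraticForm F (ι → F)} {t : ℕ}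

theorem nr_self {x : Fin k → F} (hx : q1 x ≠ 0) : app (nr q1 x) x = x := by
  rw [nr, app_mul, app_refl_self hx, app_negId, neg_neg]

theorem nr_ortho {x w : Fin k → F} (h : polar q1 w x = 0) : app (nr q1 x) w = -w := by
  rw [nr, app_mul, app_refl_of_ortho h, app_negId]

/-- The group of an abstract involution acting without fixed points is commutative. -/
theorem comm_of_fixedPointFree {G : Type*} [Group G] [Finite G] (K : Subgroup G) {d : G} (hd : d * d = 1)
    (hK : ∀ x ∈ K, d * x * d ∈ K) (hfix : ∀ x ∈ K, d * x = x * d → x = 1) {x y : G} (hx : x ∈ K) (hy : y ∈ K) :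
    x * y = y * x := by
  have e := inverted_of_fixedPointFree K hd hK hfix (K.mul_mem hx hy)
  have e1 := inverted_of_fixedPointFree K hd hK hfix hx
  have e2 := inverted_of_fixedPointFree K hd hK hfix hy
  have e3 : d * (x * y) * d = x⁻¹ * y⁻¹ := by
    rw [← e1, ← e2, show d * x * d * (d * y * d) = d * x * (d * d) * y * d by group, hd, mul_one]
    group
  rw [e3] at e
  have := congrArg (·⁻¹) e
  simpa [_root_.mul_inv_rev] using this.symm

namespace Pow

variable {P : Pow q q1 (t + 2)} {H : Subgroup (O q)}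

/-- The elements of `H` supported on a block. -/
noncomputable def suppGroup (P : Pow q q1 (t + 2)) (H : Subgroup (O q)) (l : Fin (t + 2))
    (u : Fin k → Fin k → F) (S : Finset (Fin k)) : Subgroup (O q) where
  carrier := {g | g ∈ H ∧ P.Supp l u S g}
  one_mem' := ⟨H.one_mem, fun _ _ _ => app_one _⟩
  mul_mem' := fun ⟨h, s⟩ ⟨h', s'⟩ => ⟨H.mul_mem h h', s.mul s'⟩
  inv_mem' := fun ⟨h, s⟩ => ⟨H.inv_mem h, s.inv⟩

theorem sl_nr_out {l : Fin (t + 2)} {u : Fin k → Fin k → F} {S : Finset (Fin k)} {w : Fin k → F}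
    (hw : InBlock q1 u S w) {j : Fin k} (hj : j ∉ S) (z : Fin (k ^ (t + 1)) → F) :
    app (P.sl l (TensorPowOdd.nr q1 w)) ((P.D l).tp (u j) z) = -(P.D l).tp (u j) z := by
  rw [← P.L_eq_sl, (P.D l).L_tp, nr_ortho (by rw [polar_comm]; exact hw j hj), (P.D l).tp_neg_left]

/-- Conjugation by the involution of a vector of the block keeps the support. -/
theorem Supp.conj_nr {l : Fin (t + 2)} {u : Fin k → Fin k → F} {S : Finset (Fin k)} {g : O q}
    (hg : P.Supp l u S g) {w : Fin k → F} (hw : InBlock q1 u S w) :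
    P.Supp l u S (P.sl l (TensorPowOdd.nr q1 w) * g * P.sl l (TensorPowOdd.nr q1 w)) := fun j hj z => by
  rw [app_mul, app_mul, sl_nr_out hw hj, map_neg, hg j hj, map_neg, sl_nr_out hw hj, neg_neg]

theorem Supp.comm_nr {l : Fin (t + 2)} {u : Fin k → Fin k → F} {S : Finset (Fin k)} {g : O q}
    (hg : P.Supp l u S g) {w : Fin k → F} (hw : InBlock q1 u S w) :
    P.Supp l u S (g * P.sl l (TensorPowOdd.nr q1 w) * g⁻¹ * P.sl l (TensorPowOdd.nr q1 w)) := by
  have h := hg.mul (hg.inv.conj_nr hw)
  rwa [← mul_assoc, ← mul_assoc] at h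

theorem sl_mem_omega_det (hO : P.Over H) {l : Fin (t + 2)} {z : Fin k → F} (hz : q1 z ≠ 0) :
    P.sl l (refl q1 z) ∉ H := by
  intro h
  have h1 := detHom_omega (hO.le h)
  rw [← P.L_eq_sl, detHom_L_refl (P.D l) hz] at h1
  have h2 := congrArg (fun u : Fˣ => (u : F)) h1
  simp only [Units.val_neg, Units.val_one] at h2
  exact P.good.two (by linear_combination -h2)

/-- An element of the factor fixed outside a pair is a rotation of the plane. -/
theorem rotation (hO : P.Over H) {l : Fin (t + 2)} {u : Fin k → Fin k → F} (hu : IsFrame q1 u) {a b : Fin k}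
    (hab : a ≠ b) {A : O q1} (hA : ∀ j, j ∉ ({a, b} : Finset (Fin k)) → app A (u j) = u j)
    (hH : P.sl l A ∈ H) :
    ∃ α β : F, α * α + q1 (u b) / q1 (u a) * (β * β) = 1 ∧ app A (u a) = α • u a + β • u b ∧
      app A (u b) = (-(q1 (u b) / q1 (u a) * β)) • u a + α • u b := by
  have hblock : ∀ i ∈ ({a, b} : Finset (Fin k)), InBlock q1 u {a, b} (app A (u i)) := fun i hi j hj => by
    rw [← hA j hj, polar_app, hu.orth]
    rintro rfl
    exact hj hi
  have hsum : ∀ i ∈ ({a, b} : Finset (Fin k)), app A (u i) =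
      (polar q1 (app A (u i)) (u a) / (2 * q1 (u a))) • u a +
        (polar q1 (app A (u i)) (u b) / (2 * q1 (u b))) • u b := fun i hi => by
    conv_lhs => rw [(hblock i hi).eq_sum hu, Finset.sum_pair hab]
  obtain ⟨α, β, hAa⟩ : ∃ α β : F, app A (u a) = α • u a + β • u b := ⟨_, _, hsum a (by simp)⟩
  obtain ⟨γ, δ, hAb⟩ : ∃ γ δ : F, app A (u b) = γ • u a + δ • u b := ⟨_, _, hsum b (by simp)⟩
  set ρ := q1 (u b) / q1 (u a) with hρ
  have hqa := hu.nz a
  have hρ0 : ρ ≠ 0 := div_ne_zero (hu.nz b) hqa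
  have hqb : q1 (u b) = ρ * q1 (u a) := by rw [hρ, div_mul_cancel₀ _ hqa]
  have hval : ∀ x y : F, q1 (x • u a + y • u b) = (x * x + ρ * (y * y)) * q1 (u a) := fun x y => by
    rw [QuadraticMap.map_add ⇑q1, QuadraticMap.map_smul, QuadraticMap.map_smul, polar_smul_left,
      polar_smul_right, hu.orth a b hab, smul_eq_mul, smul_eq_mul, hqb, smul_zero, smul_zero]
    ring
  have e1 : α * α + ρ * (β * β) = 1 := by
    have h := Q_app A (u a)
    rw [hAa, hval] at h
    exact mul_right_cancel₀ hqa (h.trans (one_mul _).symm)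
  have e2 : γ * γ + ρ * (δ * δ) = ρ := by
    have h := Q_app A (u b)
    rw [hAb, hval, hqb] at h
    exact mul_right_cancel₀ hqa h
  have e3 : α * γ + ρ * (β * δ) = 0 := by
    have h := polar_app A (u a) (u b)
    rw [hAa, hAb, hu.orth a b hab] at h
    simp only [polar_add_left, polar_add_right, polar_smul_left, polar_smul_right, hu.orth a b hab,
      hu.orth b a hab.symm, polar_self', smul_eq_mul, hqb] at h
    have h2 : (2 * q1 (u a)) * (α * γ + ρ * (β * δ)) = 0 := by linear_combination h
    exact (mul_eq_zero.1 h2).resolve_left (mul_ne_zero P.good1.two hqa)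
  -- two solutions
  set d := α * δ - β * γ with hd
  have hd2 : d * d = 1 := by
    have : ρ * (d * d) = ρ := by
      rw [hd]
      linear_combination (γ * γ + ρ * (δ * δ)) * e1 + e2 - (α * γ + ρ * (β * δ)) * e3
    exact mul_left_cancel₀ hρ0 (this.trans (mul_one ρ).symm)
  have hγ : γ = -(d * ρ * β) := by linear_combination (α) * e3 - γ * e1
  have hδ : δ = d * α := by linear_combination (β) * e3 - δ * e1
  rcases mul_self_eq_one_iff.1 hd2 with h | h
  · exact ⟨α, β, e1, hAa, by rw [hAb, hγ, hδ, h, one_mul, one_mul]⟩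
  exfalso
  have hγ' : γ = ρ * β := by rw [hγ, h]; ring
  have hδ' : δ = -α := by rw [hδ, h]; ring
  obtain ⟨z, hz, hAz⟩ : ∃ z, q1 z ≠ 0 ∧ A = refl q1 z := by
    by_cases hα : α = 1
    · have hβ : β = 0 := by
        have : ρ * (β * β) = 0 := by linear_combination e1 - (α + 1) * hα
        simpa [hρ0] using this
      refine ⟨u b, hu.nz b, hu.ext_O fun j => ?_⟩
      by_cases hja : j = a
      · subst hja; rw [hAa, hα, hβ, app_refl_of_ortho (hu.orth _ _ hab)]; module
      by_cases hjb : j = b
      · subst hjb; rw [hAb, hγ', hδ', hα, hβ, app_refl_self (hu.nz j)]; module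
      rw [hA j (by simp [hja, hjb]), app_refl_of_ortho (hu.orth _ _ hjb)]
    · set z := (1 - α) • u a + (-β) • u b with hz
      have hqz : q1 z = 2 * (1 - α) * q1 (u a) := by
        rw [hz, hval]; linear_combination q1 (u a) * e1
      have hz0 : q1 z ≠ 0 := hqz ▸ mul_ne_zero (mul_ne_zero P.good1.two (sub_ne_zero.2 (Ne.symm hα))) hqa
      refine ⟨z, hz0, hu.ext_O fun j => ?_⟩
      have hp : ∀ i, polar q1 (u i) z = (1 - α) * polar q1 (u i) (u a) + (-β) * polar q1 (u i) (u b) := fun i => by
        rw [hz, polar_add_right, polar_smul_right, polar_smul_right, smul_eq_mul, smul_eq_mul]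
      by_cases hja : j = a
      · subst hja
        rw [hAa, app_refl, hp, hu.orth _ _ hab, polar_self', hqz, hz,
          show (2 * (1 - α) * q1 (u j))⁻¹ * ((1 - α) * (2 * q1 (u j)) + -β * 0) = 1 by
            have := sub_ne_zero.2 (Ne.symm hα)
            have := P.good1.two
            field_simp
            ring]
        module
      by_cases hjb : j = b
      · subst hjb
        rw [hAb, hγ', hδ', app_refl, hp, hu.orth _ _ hab.symm, polar_self', hqz, hz,
          show (2 * (1 - α) * q1 (u a))⁻¹ * ((1 - α) * 0 + -β * (2 * q1 (u j))) = -(ρ * β) / (1 - α) by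
            have := sub_ne_zero.2 (Ne.symm hα)
            have := P.good1.two
            rw [hqb]
            field_simp
            ring]
        have h1 := sub_ne_zero.2 (Ne.symm hα)
        match_scalars <;> field_simp <;> first | ring1 | linear_combination e1 | linear_combination -e1
      rw [hA j (by simp [hja, hjb]), app_refl_of_ortho (by rw [hp, hu.orth _ _ hja, hu.orth _ _ hjb]; ring)]
  exact sl_mem_omega_det hO hz (hAz ▸ hH)

/-- An element supported on two slices, one of them admissible, is monomial. -/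
theorem Over.two (hO : P.Over H) (hS : SmallOK P H 1) {l : Fin (t + 2)} {u : Fin k → Fin k → F}
    (hu : IsFrame q1 u) {a b : Fin k} (hab : a ≠ b) (hadm : Adm q1 (u a)) {g : O q} (hg : g ∈ H)
    (hs : P.Supp l u {a, b} g) : g ∈ P.Mon := by
  classical
  have hk3 := three_le P.good1
  set S : Finset (Fin k) := {a, b} with hSdef
  have hScard : S.card = 2 := Finset.card_pair hab
  have hSk : S.card < k := by omega
  obtain ⟨jo, hjo⟩ : ∃ j, j ∉ S := by
    by_contra hno
    push Not at hno
    rw [Finset.eq_univ_iff_forall.2 hno, Finset.card_univ, Fintype.card_fin] at hSk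
    exact lt_irrefl _ hSk
  have hab' : InBlock q1 u S (u a) := InBlock.vec hu (by simp [hSdef])
  set σ := P.sl l (TensorPowOdd.nr q1 (u a)) with hσdef
  have hσH : σ ∈ H := hO.nr_H l hadm
  have hσ1 : σ * σ = 1 := P.sl_invol l _
  have hσi : σ⁻¹ = σ := P.sl_inv l _
  set B := suppGroup P H l u S with hBdef
  have hgB : g ∈ B := ⟨hg, hs⟩
  have hBσ : ∀ x ∈ B, σ * x * σ ∈ B := fun x hx => ⟨H.mul_mem (H.mul_mem hσH hx.1) hσH, hx.2.conj_nr hab'⟩
  have repr : ∀ y ∈ B, y ∈ P.Mon → ∃ A, (∀ j, j ∉ S → app A (u j) = u j) ∧ y = P.sl l A := fun y hy hM =>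
    hy.2.eq_sl hu hM hjo
  have of_conj : ∀ y ∈ B, y * σ * y⁻¹ ∈ P.Mon → y ∈ P.Mon := fun y hy hM => by
    obtain ⟨A, -, hA⟩ := repr _ ⟨H.mul_mem (H.mul_mem (H.mul_mem hy.1 hσH) (H.inv_mem hy.1)) hσH,
      hy.2.comm_nr hab'⟩ (mul_mem hM (P.sl_mem _ _))
    obtain ⟨x', hx', hm⟩ := P.maps_of_conj hadm.1 (g := y) (B := A * TensorPowOdd.nr q1 (u a)) (by
      rw [map_mul, ← hA, ← hσdef, mul_assoc (y * σ * y⁻¹) σ σ, hσ1, mul_one])
    exact hO.step'_lt hS hu (by omega) hSk hy.1 hy.2 hadm hab' hx' hm
  have inverted : ∀ y ∈ B, σ * y * σ = y⁻¹ → y * y ∈ P.Mon → y ∈ P.Mon := fun y hy hi h2 =>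
    of_conj y hy (by
      have : σ * y⁻¹ = y * σ := by
        rw [← hi, ← mul_assoc, ← mul_assoc, hσ1, one_mul]
      have e : y * σ * y⁻¹ = y * y * σ := by rw [mul_assoc, this, ← mul_assoc]
      rw [e]
      exact mul_mem h2 (P.sl_mem _ _))
  -- conjugation by `σ`
  let φ : MulAut B :=
    { toFun := fun x => ⟨σ * x * σ, hBσ _ x.2⟩
      invFun := fun x => ⟨σ * x * σ, hBσ _ x.2⟩
      left_inv := fun x => Subtype.ext (by
        show σ * (σ * x * σ) * σ = x
        rw [show σ * (σ * (x : O q) * σ) * σ = (σ * σ) * x * (σ * σ) by group, hσ1, one_mul, mul_one])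
      right_inv := fun x => Subtype.ext (by
        show σ * (σ * x * σ) * σ = x
        rw [show σ * (σ * (x : O q) * σ) * σ = (σ * σ) * x * (σ * σ) by group, hσ1, one_mul, mul_one])
      map_mul' := fun x y => Subtype.ext (by
        show σ * (x * y) * σ = σ * x * σ * (σ * y * σ)
        rw [show σ * (x : O q) * σ * (σ * y * σ) = σ * x * (σ * σ) * y * σ by group, hσ1, mul_one]
        group) }
  haveI : Fact (Nat.Prime 2) := ⟨Nat.prime_two⟩
  obtain ⟨Q, hQ⟩ : ∃ Q : Sylow 2 B, φ • Q = Q := by
    haveI : Fintype (Sylow 2 B) := Fintype.ofFinite _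
    have h2 : (MulAction.toPerm φ : Equiv.Perm (Sylow 2 B)) ^ 2 ^ 1 = 1 := by
      have hφ : φ * φ = 1 := MulEquiv.ext fun x => Subtype.ext (by
        show σ * (σ * x * σ) * σ = x
        rw [show σ * (σ * (x : O q) * σ) * σ = (σ * σ) * x * (σ * σ) by group, hσ1, one_mul, mul_one])
      rw [pow_one, pow_two]
      exact Equiv.ext fun Q => by
        show φ • φ • Q = Q
        rw [← mul_smul, hφ, one_smul]
    exact Equiv.Perm.exists_fixed_point_of_prime
      (by rw [← Nat.card_eq_fintype_card]; exact not_dvd_card_sylow (p := 2) (G := B)) h2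
  have hQφ : ∀ x : B, x ∈ (Q : Subgroup B) → φ x ∈ (Q : Subgroup B) := fun x hx => by
    have := Subgroup.smul_mem_pointwise_smul x φ _ hx
    rwa [← Sylow.pointwise_smul_def, hQ] at this
  have hQM : ∀ y : B, y ∈ (Q : Subgroup B) → (y : O q) ∈ P.Mon := by
    intro y hy
    set z : B := y⁻¹ * φ y with hz
    have hzQ : z ∈ (Q : Subgroup B) := mul_mem (inv_mem hy) (hQφ y hy)
    have hzi : σ * (z : O q) * σ = (z : O q)⁻¹ := by
      show σ * ((y : O q)⁻¹ * (σ * y * σ)) * σ = ((y : O q)⁻¹ * (σ * y * σ))⁻¹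
      rw [show σ * ((y : O q)⁻¹ * (σ * y * σ)) * σ = σ * (y : O q)⁻¹ * σ * y * (σ * σ) by group, hσ1, mul_one,
        _root_.mul_inv_rev, _root_.mul_inv_rev, _root_.mul_inv_rev, inv_inv, hσi]
      group
    obtain ⟨j, hj⟩ := Q.isPGroup' ⟨z, hzQ⟩
    have hj' : (z : O q) ^ 2 ^ j = 1 := congrArg (fun x : (Q : Subgroup B) => ((x : B) : O q)) hj
    have hdown : ∀ i, i ≤ j → (z : O q) ^ 2 ^ (j - i) ∈ P.Mon := by
      intro i
      induction i with
      | zero => intro _; rw [Nat.sub_zero, hj']; exact one_mem _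
      | succ i ih =>
        intro hi
        refine inverted _ (pow_mem z.2 _) ?_ ?_
        · rw [← inv_pow, ← hzi]
          generalize 2 ^ (j - (i + 1)) = n
          induction n with
          | zero => simp [hσ1]
          | succ n ihn =>
            rw [pow_succ, pow_succ, ← ihn, show σ * (z : O q) ^ n * σ * (σ * z * σ) = σ * (z : O q) ^ n * (σ * σ) * z * σ by
              group, hσ1, mul_one]
            group
        · rw [← pow_add, ← two_mul, ← pow_succ', show j - (i + 1) + 1 = j - i by omega]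
          exact ih (by omega)
    have hzM : (z : O q) ∈ P.Mon := by simpa using hdown j le_rfl
    refine of_conj _ y.2 ?_
    have hyi : (y : O q)⁻¹ ∈ B := (y⁻¹).2
    have e : (y : O q)⁻¹ * σ * ((y : O q)⁻¹)⁻¹ = (z : O q) * σ := by
      show _ = (y : O q)⁻¹ * (σ * y * σ) * σ
      rw [show (y : O q)⁻¹ * (σ * y * σ) * σ = (y : O q)⁻¹ * σ * y * (σ * σ) by group, hσ1, mul_one, inv_inv]
    have hyM : (y : O q)⁻¹ ∈ P.Mon := of_conj _ hyi (e ▸ mul_mem hzM (P.sl_mem _ _))
    exact mul_mem (mul_mem (inv_mem_iff.1 hyM) (P.sl_mem _ _)) hyM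
  -- the Sylow subgroup is cyclic
  obtain ⟨f0, hf0⟩ := exists_frame (P.D l).good2.nd (P.D l).good2.two
  obtain ⟨m0⟩ : Nonempty (Fin (k ^ (t + 1))) := Fintype.card_pos_iff.1 (by
    have := (P.D l).good2.three; omega)
  set ρ := q1 (u b) / q1 (u a) with hρdef
  set AC := AlgebraicClosure F with hAC
  obtain ⟨i0, hi0⟩ := IsAlgClosed.exists_pow_nat_eq (k := AC)
    (algebraMap F AC (-ρ)) (show 0 < 2 by norm_num)
  have hi00 : i0 ≠ 0 := fun h => by
    rw [h, zero_pow two_ne_zero] at hi0
    exact neg_ne_zero.2 (div_ne_zero (hu.nz b) (hu.nz a))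
      ((FaithfulSMul.algebraMap_injective F AC) (by rw [← hi0, map_zero]))
  set co : O q → Fin k → F := fun y c => polar q (app y ((P.D l).tp (u a) (f0 m0))) ((P.D l).tp (u c) (f0 m0)) /
    (polar q1 (u c) (u c) * polar (pf q1 (t + 1)) (f0 m0) (f0 m0)) with hco
  have hcoA : ∀ (A : O q1) (α β : F), app A (u a) = α • u a + β • u b →
      co (P.sl l A) a = α ∧ co (P.sl l A) b = β := fun A α β hA => by
    have hne := hf0.polar_self_ne m0
    change polar (pf q1 (t + 1)) (f0 m0) (f0 m0) ≠ 0 at hne
    constructor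
    · simp only [hco, ← P.L_eq_sl, (P.D l).L_tp, hA, (P.D l).polar_tp]
      show polar q1 (α • u a + β • u b) (u a) * polar (pf q1 (t + 1)) _ _ / _ = α
      rw [polar_add_left, polar_smul_left, polar_smul_left, hu.orth b a hab.symm, smul_zero, add_zero, smul_eq_mul]
      have := hu.polar_self_ne a
      field_simp
    · simp only [hco, ← P.L_eq_sl, (P.D l).L_tp, hA, (P.D l).polar_tp]
      show polar q1 (α • u a + β • u b) (u b) * polar (pf q1 (t + 1)) _ _ / _ = β
      rw [polar_add_left, polar_smul_left, polar_smul_left, hu.orth a b hab, smul_zero, zero_add, smul_eq_mul]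
      have := hu.polar_self_ne b
      field_simp
  set χ0 : O q → AC := fun y => algebraMap F AC (co y a) + algebraMap F AC (co y b) * i0 with hχ0
  have hQrot : ∀ y : (Q : Subgroup B), ∃ (A : O q1) (α β : F), α * α + ρ * (β * β) = 1 ∧
      app A (u a) = α • u a + β • u b ∧ app A (u b) = (-(ρ * β)) • u a + α • u b ∧
      (∀ j, j ∉ S → app A (u j) = u j) ∧ ((y : B) : O q) = P.sl l A := fun y => by
    obtain ⟨A, hA, hyA⟩ := repr _ (y : B).2 (hQM y y.2)
    obtain ⟨α, β, h1, h2, h3⟩ := rotation hO hu hab hA (hyA ▸ (y : B).2.1)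
    exact ⟨A, α, β, h1, h2, h3, hA, hyA⟩
  let χ : (Q : Subgroup B) →* AC :=
    { toFun := fun y => χ0 ((y : B) : O q)
      map_one' := by
        have := hcoA (1 : O q1) 1 0 (by rw [app_one]; module)
        rw [map_one] at this
        simp [hχ0, this.1, this.2]
      map_mul' := fun y y' => by
        obtain ⟨A, α, β, -, hAa, hAb, -, hy⟩ := hQrot y
        obtain ⟨A', α', β', -, hA'a, -, -, hy'⟩ := hQrot y'
        show χ0 (((y : B) : O q) * ((y' : B) : O q)) = χ0 _ * χ0 _
        rw [hy, hy', ← map_mul]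
        have e := hcoA (A * A') (α * α' - ρ * β * β') (α * β' + β * α') (by
          rw [app_mul, hA'a, map_add, map_smul, map_smul, hAa, hAb]; module)
        simp only [hχ0, e.1, e.2, (hcoA A α β hAa).1, (hcoA A α β hAa).2, (hcoA A' α' β' hA'a).1,
          (hcoA A' α' β' hA'a).2]
        simp only [map_sub, map_mul, map_add]
        rw [map_neg] at hi0
        linear_combination -(algebraMap F AC β * algebraMap F AC β') * hi0 }
  have hχ : Function.Injective χ := by
    rw [← MonoidHom.ker_eq_bot_iff, Subgroup.eq_bot_iff_forall]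
    intro y hy
    obtain ⟨A, α, β, h1, hAa, hAb, hA, hyA⟩ := hQrot y
    have e : algebraMap F AC α + algebraMap F AC β * i0 = 1 := by
      have h := MonoidHom.mem_ker.1 hy
      change χ0 ((y : B) : O q) = 1 at h
      rw [hyA] at h
      simpa [hχ0, (hcoA A α β hAa).1, (hcoA A α β hAa).2] using h
    rw [map_neg] at hi0
    have h1' := congrArg (algebraMap F AC) h1
    rw [map_add, map_mul, map_mul, map_mul, map_one] at h1'
    have e' : algebraMap F AC α - algebraMap F AC β * i0 = 1 := by
      linear_combination h1' - (algebraMap F AC α - algebraMap F AC β * i0) * e -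
        (algebraMap F AC β * algebraMap F AC β) * hi0
    have h2 : (2 : AC) ≠ 0 := by
      rw [← map_ofNat (algebraMap F AC) 2]
      exact (_root_.map_ne_zero _).2 P.good.two
    have hα : α = 1 := (FaithfulSMul.algebraMap_injective F AC) (by
      rw [map_one]; exact mul_left_cancel₀ h2 (by linear_combination e + e'))
    have hβ : β = 0 := (FaithfulSMul.algebraMap_injective F AC) (by
      rw [map_zero]
      have : (2 : AC) * i0 * algebraMap F AC β = 0 := by linear_combination e - e'
      exact (mul_eq_zero.1 this).resolve_left (mul_ne_zero h2 hi00))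
    refine Subtype.ext (Subtype.ext ?_)
    rw [hyA, show A = 1 from hu.ext_O fun j => ?_, map_one]
    · rfl
    by_cases hja : j = a
    · subst hja; rw [hAa, hα, hβ, app_one]; module
    by_cases hjb : j = b
    · subst hjb; rw [hAb, hα, hβ, app_one]; module
    rw [hA j (by simp [hSdef, hja, hjb]), app_one]
  have hcyc : IsCyclic (Q : Subgroup B) := isCyclic_of_subgroup_isDomain χ hχ
  -- the elements of odd order form a subgroup with the Sylow subgroup as complement
  obtain ⟨N, hNodd, hNprod⟩ : ∃ N : Subgroup B, (∀ x, x ∈ N ↔ Odd (orderOf x)) ∧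
      ∀ x : B, ∃ n ∈ N, ∃ y ∈ (Q : Subgroup B), n * y = x := by
    by_cases hev : 2 ∣ Nat.card B
    · have hp : (Nat.card B).minFac = 2 := (Nat.minFac_eq_two_iff _).2 hev
      have hc := IsCyclic.isComplement' hp hcyc
      set N := (MonoidHom.transferSylow Q (hcyc.normalizer_le_centralizer hp)).ker
      haveI : N.Normal := MonoidHom.normal_ker _
      refine ⟨N, fun x => ⟨fun hx => ?_, fun hx => ?_⟩, fun x => ?_⟩
      · rw [← Nat.not_even_iff_odd, even_iff_two_dvd]
        exact fun h => MonoidHom.not_dvd_card_ker_transferSylow Q (hcyc.normalizer_le_centralizer hp)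
          (h.trans ((Subgroup.orderOf_dvd_natCard N hx)))
      · obtain ⟨i, hi⟩ := Q.isPGroup'.exists_card_eq
        have h1 : x ^ (2 ^ i) ∈ N := by
          have := N.pow_index_mem x
          rwa [hc.symm.index_eq_card, hi] at this
        have hco : (2 ^ i).Coprime (orderOf x) := (Nat.coprime_two_left.2 hx).pow_left i
        obtain ⟨r, hr⟩ := exists_pow_eq_self_of_coprime hco
        exact hr ▸ pow_mem h1 r
      · obtain ⟨⟨⟨n, hn⟩, ⟨y, hy⟩⟩, hny⟩ := hc.2 x
        exact ⟨n, hn, y, hy, hny⟩
    · refine ⟨⊤, fun x => ⟨fun _ => ?_, fun _ => Subgroup.mem_top x⟩, fun x => ⟨x, Subgroup.mem_top x, 1,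
        one_mem _, mul_one x⟩⟩
      rw [← Nat.not_even_iff_odd, even_iff_two_dvd]
      exact fun h => hev (h.trans (orderOf_dvd_natCard x))
  set K := N.map B.subtype with hKdef
  have hK : ∀ x, x ∈ K ↔ x ∈ B ∧ Odd (orderOf x) := fun x => by
    rw [hKdef, Subgroup.mem_map]
    constructor
    · rintro ⟨y, hy, rfl⟩
      exact ⟨y.2, by rw [Subgroup.subtype_apply, Subgroup.orderOf_coe]; exact (hNodd y).1 hy⟩
    · rintro ⟨hx, ho⟩
      exact ⟨⟨x, hx⟩, (hNodd _).2 (by rwa [← Subgroup.orderOf_coe]), rfl⟩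
  have hKconj : ∀ c : O q, (∀ x ∈ B, c * x * c⁻¹ ∈ B) → ∀ x ∈ K, c * x * c⁻¹ ∈ K := fun c hc x hx => by
    rw [hK] at hx ⊢
    exact ⟨hc x hx.1, by rw [← MulAut.conj_apply, (MulAut.conj c).orderOf_eq]; exact hx.2⟩
  have hKσ : ∀ x ∈ K, σ * x * σ ∈ K := fun x hx => by
    have := hKconj σ (fun y hy => by rw [hσi]; exact hBσ y hy) x hx
    rwa [hσi] at this
  have hKfix : ∀ x ∈ K, σ * x = x * σ → x = 1 := fun x hx hc => by
    rw [hK] at hx
    obtain ⟨hxB, hxo⟩ := hx
    have hxM : x ∈ P.Mon := of_conj x hxB (by rw [← hc, mul_inv_cancel_right]; exact P.sl_mem _ _)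
    obtain ⟨A, hA, rfl⟩ := repr x hxB hxM
    obtain ⟨α, β, h1, hAa, hAb⟩ := rotation hO hu hab hA hxB.1
    have hc' : A * TensorPowOdd.nr q1 (u a) = TensorPowOdd.nr q1 (u a) * A :=
      P.sl_injective l (by rw [map_mul, map_mul]; exact hc.symm)
    have e := congrArg (fun g => app g (u a)) hc'
    simp only [app_mul, nr_self hadm.1, hAa, map_add, map_smul] at e
    rw [nr_ortho (hu.orth b a hab.symm)] at e
    have hβ : β = 0 := by
      have e2 : ((2 : F) * β) • u b = 0 := by linear_combination (norm := module) e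
      rcases smul_eq_zero.1 e2 with h | h
      · exact (mul_eq_zero.1 h).resolve_left P.good1.two
      · exact absurd h (hu.li.ne_zero b)
    have hA2 : A * A = 1 := hu.ext_O fun j => by
      rw [app_mul, app_one]
      by_cases hja : j = a
      · subst hja
        rw [hAa, hβ, zero_smul, add_zero, map_smul, hAa, hβ, zero_smul, add_zero, smul_smul]
        rw [show α * α = 1 by simpa [hβ] using h1, one_smul]
      by_cases hjb : j = b
      · subst hjb
        rw [hAb, hβ, mul_zero, neg_zero, zero_smul, zero_add, map_smul, hAb, hβ, mul_zero, neg_zero, zero_smul,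
          zero_add, smul_smul]
        rw [show α * α = 1 by simpa [hβ] using h1, one_smul]
      rw [hA j (by simp [hSdef, hja, hjb]), hA j (by simp [hSdef, hja, hjb])]
    have h2 : P.sl l A ^ 2 = 1 := by rw [pow_two, ← map_mul, hA2, map_one]
    have := (Nat.dvd_prime Nat.prime_two).1 (orderOf_dvd_of_pow_eq_one h2)
    rcases this with h | h
    · exact orderOf_eq_one_iff.1 h
    · rw [h] at hxo; exact absurd hxo (by decide)
  have hKcomm : ∀ x ∈ K, ∀ x' ∈ K, x * x' = x' * x := fun x hx x' hx' =>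
    comm_of_fixedPointFree K hσ1 hKσ hKfix hx hx'
  have hKR : ∀ η ∈ (std P.good1 t).Mon, η ∈ commutator (O (pf q1 (t + 1))) → ∀ x ∈ K,
      (P.D l).R η * x * ((P.D l).R η)⁻¹ ∈ K := fun η h1 h2 x hx =>
    hKconj _ (fun y hy => ⟨H.mul_mem (H.mul_mem (hO.R_H l h1 h2) hy.1) (H.inv_mem (hO.R_H l h1 h2)),
      hy.2.conj_R η⟩) x hx
  -- no element of order the characteristic
  obtain ⟨p, hpchar⟩ := CharP.exists F
  haveI := hpchar
  haveI hpF : Fact p.Prime := ⟨CharP.char_is_prime F p⟩
  have hKp : ∀ y ∈ K, y ^ p = 1 → y = 1 := by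
    intro y0 hy0 hy0p
    set V1 := {z : ι → F | ∀ j, j ∉ S → ∀ w, polar q z ((P.D l).tp (u j) w) = 0} with hV1
    have hV1B : ∀ y ∈ B, ∀ z ∈ V1, app y z ∈ V1 := fun y hy z hz j hj w => by
      rw [← hy.2 j hj w, polar_app]; exact hz j hj w
    have hV1sub : ∀ z ∈ V1, ∀ z' ∈ V1, z - z' ∈ V1 := fun z hz z' hz' j hj w => by
      rw [polar_sub_left, hz j hj w, hz' j hj w, sub_zero]
    -- a common fixed vector
    haveI : Fintype K := Fintype.ofFinite _
    have hexist : ∀ T : Finset (O q), (∀ y ∈ T, y ∈ K ∧ y ^ p = 1) →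
        ∃ z ∈ V1, z ≠ 0 ∧ ∀ y ∈ T, app y z = z := by
      intro T
      induction T using Finset.induction_on with
      | empty =>
        intro _
        refine ⟨(P.D l).tp (u a) (f0 m0), fun j hj w => ?_, (P.D l).tp_ne_zero (hu.li.ne_zero a)
          (hf0.li.ne_zero m0), fun y hy => absurd hy (Finset.notMem_empty y)⟩
        rw [(P.D l).polar_tp]
        show polar q1 (u a) (u j) * _ = 0
        rw [hu.orth a j (fun e => hj (e ▸ by simp [hSdef])), zero_mul]
      | @insert y T _ ih =>
        intro hT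
        obtain ⟨z, hz, hz0, hzT⟩ := ih fun y' hy' => hT y' (Finset.mem_insert_of_mem hy')
        obtain ⟨hyK, hyp⟩ := hT y (Finset.mem_insert_self y T)
        have hyB := ((hK y).1 hyK).1
        let Y : Module.End F (ι → F) := app y
        haveI : Nonempty ι := ⟨(Function.ne_iff.1 hz0).choose⟩
        haveI : CharP (Module.End F (ι → F)) p :=
          charP_of_injective_ringHom (algebraMap F (Module.End F (ι → F))).injective p
        have hYp : (Y - 1) ^ p = 0 := by
          rw [sub_pow_char_of_commute (p := p) (h := Commute.one_right Y), one_pow, sub_eq_zero]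
          have h : ∀ j : ℕ, Y ^ j = app (y ^ j) := by
            intro j
            induction j with
            | zero => ext x; simp
            | succ j ih => ext x; simp [pow_succ, ih, Y]
          rw [h, hyp]
          ext x; simp
        have hex : ∃ i, ((Y - 1) ^ i : Module.End F (ι → F)) z = 0 := ⟨p, by rw [hYp]; rfl⟩
        have hi := Nat.find_spec hex
        obtain ⟨i, hi'⟩ : ∃ i, Nat.find hex = i + 1 := Nat.exists_eq_succ_of_ne_zero fun h => by
          rw [h] at hi; exact hz0 (by simpa using hi)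
        refine ⟨((Y - 1) ^ i : Module.End F (ι → F)) z, ?_, Nat.find_min hex (by omega), fun y' hy' => ?_⟩
        · generalize i = n
          induction n with
          | zero => simpa using hz
          | succ n ihn =>
            rw [pow_succ', Module.End.mul_apply, LinearMap.sub_apply, Module.End.one_apply]
            exact hV1sub _ (hV1B y hyB _ ihn) _ ihn
        rcases Finset.mem_insert.1 hy' with rfl | hy'
        · rw [hi', pow_succ', Module.End.mul_apply, LinearMap.sub_apply, sub_eq_zero] at hi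
          exact hi
        · generalize i = n
          induction n with
          | zero => simpa using hzT y' hy'
          | succ n ihn =>
            rw [pow_succ', Module.End.mul_apply, LinearMap.sub_apply, Module.End.one_apply, map_sub]
            show app y' (app y _) - _ = app y _ - _
            rw [← app_mul, hKcomm y' (hT y' (Finset.mem_insert_of_mem hy')).1 y hyK, app_mul, ihn]
    set T0 := (Finset.univ : Finset K).image (Subtype.val) |>.filter fun y => y ^ p = 1 with hT0
    have hmemT : ∀ y, y ∈ T0 ↔ y ∈ K ∧ y ^ p = 1 := fun y => by simp [hT0]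
    obtain ⟨z, hz, hz0, hzfix⟩ := hexist T0 fun y hy => (hmemT y).1 hy
    have hcl : ∀ c : O q, (∀ x ∈ K, c * x * c⁻¹ ∈ K) → ∀ y ∈ T0, c * y * c⁻¹ ∈ T0 := fun c hc y hy => by
      rw [hmemT] at hy ⊢
      exact ⟨hc y hy.1, by rw [conj_pow, hy.2, mul_one, mul_inv_cancel]⟩
    -- an eigenvector of `σ`
    have hσz : ∀ y ∈ T0, app y (app σ z) = app σ z := fun y hy => by
      have h := hzfix _ (hcl σ (fun x hx => by rw [hσi]; exact hKσ x hx) y hy)
      rw [hσi, app_mul, app_mul] at h
      have := congrArg (app σ) h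
      rwa [← app_mul σ σ, hσ1, app_one] at this
    have hσV : app σ z ∈ V1 := fun j hj w => by
      rw [← neg_neg ((P.D l).tp (u j) w), ← sl_nr_out hab' hj, polar_neg_right, polar_app, hz j hj w, neg_zero]
    obtain ⟨x, hxS, w1, hw1, hxw⟩ : ∃ x ∈ S, ∃ w1, w1 ≠ 0 ∧ ∀ y ∈ T0,
        app y ((P.D l).tp (u x) w1) = (P.D l).tp (u x) w1 := by
      have comp : ∀ (x : Fin k) (e : F), x ∈ S → (∀ j, j ∈ S → j ≠ x → ∀ w, app σ ((P.D l).tp (u j) w) =
          -(e • (P.D l).tp (u j) w)) → z + e • app σ z ≠ 0 → ∃ x ∈ S, ∃ w1, w1 ≠ 0 ∧ ∀ y ∈ T0,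
          app y ((P.D l).tp (u x) w1) = (P.D l).tp (u x) w1 := by
        intro x e hx hsign hne
        obtain ⟨w', hw'⟩ := (P.D l).swap.mem_col hu x (z := z + e • app σ z) fun j hj w => by
          rw [(P.D l).swap_tp, polar_add_left, polar_smul_left]
          by_cases hjS : j ∈ S
          · have h1 : polar q (app σ z) ((P.D l).tp (u j) w) = -(e * polar q z ((P.D l).tp (u j) w)) := by
              rw [← polar_app σ (app σ z) ((P.D l).tp (u j) w), ← app_mul, hσ1, app_one, hsign j hjS hj,
                polar_neg_right, polar_smul_right, smul_eq_mul]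
            rw [h1, smul_eq_mul]
            have he : e * e = 1 := by
              have hh := congrArg (app σ) (hsign j hjS hj (f0 m0))
              rw [← app_mul, hσ1, app_one, map_neg, map_smul, hsign j hjS hj (f0 m0), smul_neg, neg_neg,
                smul_smul] at hh
              have h2 : (e * e - 1) • (P.D l).tp (u j) (f0 m0) = 0 := by rw [sub_smul, one_smul, ← hh, sub_self]
              exact sub_eq_zero.1 ((smul_eq_zero.1 h2).resolve_right
                ((P.D l).tp_ne_zero (hu.li.ne_zero j) (hf0.li.ne_zero m0)))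
            linear_combination -(polar q z ((P.D l).tp (u j) w)) * he
          · rw [hz j hjS w, hσV j hjS w, smul_zero, add_zero]
        rw [(P.D l).swap_tp] at hw'
        refine ⟨x, hx, w', fun h => hne (by rw [hw', h, (P.D l).tp_zero_right]), fun y hy => ?_⟩
        rw [← hw', map_add, map_smul, hzfix y hy, hσz y hy]
      by_cases h1 : z + (1 : F) • app σ z ≠ 0
      · refine comp a 1 (by simp [hSdef]) (fun j hj hja w => ?_) h1
        rw [hσdef, ← P.L_eq_sl, (P.D l).L_tp, nr_ortho (hu.orth j a hja), (P.D l).tp_neg_left, one_smul]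
      · refine comp b (-1) (by simp [hSdef]) (fun j hj hjb w => ?_) fun h2 => hz0 ?_
        · have hja : j = a := by simp [hSdef] at hj; tauto
          subst hja
          rw [hσdef, ← P.L_eq_sl, (P.D l).L_tp, nr_self hadm.1, neg_one_smul, neg_neg]
        · push Not at h1
          have : (2 : F) • z = 0 := by linear_combination (norm := module) h1 + h2
          exact (smul_eq_zero.1 this).resolve_left P.good.two
    -- the whole slice is fixed
    let E : Submodule F (Fin (k ^ (t + 1)) → F) :=
      ⨅ y : T0, LinearMap.ker ((app (y : O q)).comp ((P.D l).tpR (u x)) - (P.D l).tpR (u x))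
    have hE : ∀ w, w ∈ E ↔ ∀ y ∈ T0, app y ((P.D l).tp (u x) w) = (P.D l).tp (u x) w := fun w => by
      simp [E, sub_eq_zero, Data.tpR]
    have htop := invariant_top P.good1 E (fun j v hv w hw => by
      rw [hE] at hw ⊢
      intro y hy
      set η := (std P.good1 t).sl j (TensorPowOdd.nr q1 v)
      have h := hw _ (hcl ((P.D l).R η) (hKR η ((std P.good1 t).sl_mem _ _)
        ((std P.good1 t).sl_omega _ hv.2)) y hy)
      have hη : ((P.D l).R η)⁻¹ = (P.D l).R η := inv_eq_of_mul_eq_one_right (by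
        rw [← map_mul, ← map_mul, nr_invol, map_one, map_one])
      rw [hη, app_mul, app_mul, (P.D l).R_tp] at h
      have := congrArg (app ((P.D l).R η)) h
      rwa [← app_mul ((P.D l).R η) ((P.D l).R η), ← map_mul, show η * η = 1 by rw [← map_mul, nr_invol, map_one],
        map_one, app_one, (P.D l).R_tp] at this) ((hE w1).2 hxw) hw1
    have hy0B := ((hK y0).1 hy0).1
    obtain ⟨x', hx'⟩ : ∃ x', S.erase x = {x'} := Finset.card_eq_one.1 (by
      rw [Finset.card_erase_of_mem hxS, hScard])
    have hsupp : P.Supp l u {x'} y0 := fun j hj w => by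
      by_cases hjx : j = x
      · subst hjx
        exact (hE w).1 (htop ▸ Submodule.mem_top) y0 ((hmemT y0).2 ⟨hy0, hy0p⟩)
      · exact hy0B.2 j (fun hjS => hj (hx' ▸ Finset.mem_erase.2 ⟨hjx, hjS⟩)) w
    obtain ⟨A, hA, hy0A⟩ := repr y0 hy0B (hO.cell hu x' hy0B.1 hsupp)
    obtain ⟨α, β, h1, hAa, hAb⟩ := rotation hO hu hab hA (hy0A ▸ hy0B.1)
    have hAx : app A (u x) = u x := by
      refine (P.D l).tp_left_cancel (hf0.li.ne_zero m0) ?_
      rw [← (P.D l).L_tp, P.L_eq_sl, ← hy0A]
      exact hsupp x (by rw [← hx']; simp) _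
    have hab1 : α = 1 ∧ β = 0 := by
      have hαβ : ∀ c d : F, c • u a + d • u b = 0 → c = 0 ∧ d = 0 := fun c d h => by
        have h1 := congrArg (fun v => polar q1 v (u a)) h
        have h2 := congrArg (fun v => polar q1 v (u b)) h
        simp only [polar_add_left, polar_smul_left, polar_zero_left, hu.orth a b hab, hu.orth b a hab.symm,
          smul_zero, add_zero, zero_add, smul_eq_zero] at h1 h2
        exact ⟨h1.resolve_right (hu.polar_self_ne a), h2.resolve_right (hu.polar_self_ne b)⟩
      rcases (show x = a ∨ x = b by simpa [hSdef] using hxS) with rfl | rfl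
      · obtain ⟨c, d⟩ := hαβ (α - 1) β (by rw [hAa] at hAx; linear_combination (norm := module) hAx)
        exact ⟨sub_eq_zero.1 c, d⟩
      · obtain ⟨c, d⟩ := hαβ (-(ρ * β)) (α - 1) (by rw [hAb] at hAx; linear_combination (norm := module) hAx)
        exact ⟨sub_eq_zero.1 d, by simpa [div_ne_zero (hu.nz x) (hu.nz a), hρdef] using c⟩
    rw [hy0A, show A = 1 from hu.ext_O fun j => ?_, map_one]
    by_cases hja : j = a
    · subst hja; rw [hAa, hab1.1, hab1.2, app_one]; module
    by_cases hjb : j = b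
    · subst hjb; rw [hAb, hab1.1, hab1.2, app_one]; module
    rw [hA j (by simp [hSdef, hja, hjb]), app_one]
  -- elements of odd order are monomial
  have hKM : ∀ y ∈ K, y ∈ P.Mon := by
    intro y hy
    set m := orderOf y
    have hm : (m : F) ≠ 0 := fun h0 => by
      obtain ⟨c, hc⟩ := (CharP.cast_eq_zero_iff F p m).1 h0
      have h1 := hKp (y ^ c) (pow_mem hy c) (by rw [← pow_mul, mul_comm, ← hc, pow_orderOf_eq_one])
      have h2 : m ∣ c := orderOf_dvd_of_pow_eq_one h1
      have hcpos : 0 < c := Nat.pos_of_ne_zero fun h => by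
        have := orderOf_pos y
        rw [h, mul_zero] at hc
        omega
      have := Nat.le_of_dvd hcpos h2
      have hp2 := hpF.out.two_le
      rw [hc] at this
      nlinarith
    set n := l.succAbove 0
    let C : Subgroup (O q1) := (Subgroup.centralizer {y}).comap (P.sl n)
    have hroot : ∀ e c, q1 e = 0 → polar q1 e c = 0 → eich q1 e c ∈ C := by
      intro e c he hec
      show P.sl n (eich q1 e c) ∈ Subgroup.centralizer {y}
      rw [Subgroup.mem_centralizer_singleton_iff, ← P.L_eq_sl]
      refine comm_roots (P.D n) (pow_orderOf_eq_one y) hm hy hKcomm (fun e' c' he' hec' x hx => ?_) he hec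
      have h1 : (std P.good1 t).sl 0 (eich q1 e' c') ∈ (std P.good1 t).Mon := (std P.good1 t).sl_mem _ _
      have h2 := (std P.good1 t).sl_omega 0 (eich_omega P.good1 he' hec')
      rw [show (P.D n).L (eich (P.D n).q1 e' c') = (P.D l).R ((std P.good1 t).sl 0 (eich q1 e' c')) from
        (P.L_eq_sl n _).trans (P.R_sl l 0 _).symm]
      exact hKR _ h1 h2 x hx
    exact hO.mon_of_comm ((hK y).1 hy).1.1 n fun v hv => by
      have := nr_mem_of_roots P.good1 C hroot hv
      exact (Subgroup.mem_centralizer_singleton_iff.1 this).symm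
  obtain ⟨n, hn, y, hy, hny⟩ := hNprod ⟨g, hgB⟩
  have : g = (n : O q) * (y : O q) := (congrArg Subtype.val hny).symm
  rw [this]
  exact mul_mem (hKM _ ⟨n, hn, rfl⟩) (hQM y hy)

end Pow

end CfsgLib.TensorPowOdd
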