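import Mathlib
import Cfsg.Agent.Lib.TensorPowOdd.Two

/-!
In a proper overgroup of the monomial isometries an element fixing a slice is monomial.
-/

set_option autoImplicit false
set_option linter.unusedSectionVars false
set_option maxHeartbeats 400000

namespace CfsgLib.TensorPowOdd

open Matrix QuadraticMap CfsgLib.Orth CfsgLib.TensorOdd

variable {F : Type*} [Field F] [Fintype F] {k : ℕ} {q1 : QuadraticForm F (Fin k → F)}
variable {ι : Type} [Fintype ι] [DecidableEq ι] {q : QuadraticForm F (ι → F)} {t : ℕ}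

theorem nr_conj (a : O q1) (v : Fin k → F) : a * nr q1 v * a⁻¹ = nr q1 (app a v) := by
  rw [nr, nr, ← mul_assoc a, ← negId_comm a, mul_assoc (negId q1) a, mul_assoc (negId q1) (a * _) a⁻¹, refl_conj]

theorem adm_app {v : Fin k → F} (a : O q1) (hv : Adm q1 v) : Adm q1 (app a v) :=
  ⟨by rw [Q_app]; exact hv.1, by
    show nr q1 (app a v) ∈ _
    rw [← nr_conj]
    exact Subgroup.Normal.conj_mem inferInstance _ hv.2 a⟩

theorem nr_smul {c : F} (hc : c ≠ 0) (v : Fin k → F) : nr q1 (c • v) = nr q1 v := by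
  rw [nr, nr, refl_smul hc]

theorem nr_inv (v : Fin k → F) : (nr q1 v)⁻¹ = nr q1 v := inv_eq_of_mul_eq_one_right (nr_invol v)

theorem nr_comm {x y : Fin k → F} (h : polar q1 x y = 0) : nr q1 x * nr q1 y = nr q1 y * nr q1 x := by
  have e := nr_conj (nr q1 x) y
  rw [nr_ortho (by rw [polar_comm]; exact h), ← neg_one_smul F y, nr_smul (neg_ne_zero.2 one_ne_zero)] at e
  calc nr q1 x * nr q1 y = nr q1 x * nr q1 y * (nr q1 x)⁻¹ * nr q1 x := by group
    _ = _ := by rw [e]

theorem nr_mul_nr (x y : Fin k → F) : nr q1 x * nr q1 y = refl q1 x * refl q1 y := by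
  rw [nr, nr, mul_assoc, ← mul_assoc (refl q1 x), ← negId_comm (refl q1 x), ← mul_assoc, ← mul_assoc,
    negId_mul_self, one_mul]

/-- A frame of admissible vectors through a given one. -/
theorem exists_adm_frame_at (hg : IsGood q1) {y : Fin k → F} (hy : Adm q1 y) :
    ∃ (v : Fin k → Fin k → F) (i : Fin k), IsFrame q1 v ∧ v i = y ∧ ∀ j, Adm q1 (v j) := by
  obtain ⟨v, hv, hadm⟩ := exists_adm_frame hg
  let i : Fin k := ⟨0, by have := three_le hg; omega⟩
  obtain ⟨r, hr⟩ : IsSquare (q1 y * q1 (v i)) := by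
    obtain ⟨a, ha⟩ := (adm_iff_frame hg hv hy.1).1 hy
    obtain ⟨b, hb⟩ := (adm_iff_frame hg hv (hv.nz i)).1 (hadm i)
    have hP : (∏ j, q1 (v j)) ≠ 0 := Finset.prod_ne_zero_iff.2 fun j _ => hv.nz j
    refine ⟨a * b / ∏ j, q1 (v j), ?_⟩
    field_simp
    linear_combination (q1 (v i) * ∏ j, q1 (v j)) * ha + (a * a) * hb
  have hr0 : r ≠ 0 := fun h => mul_ne_zero hy.1 (hv.nz i) (by rw [hr, h, mul_zero])
  set s := r / q1 (v i) with hs
  have hs0 : s ≠ 0 := div_ne_zero hr0 (hv.nz i)
  have hqs : q1 y = q1 (s • v i) := by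
    rw [QuadraticMap.map_smul, smul_eq_mul, hs]
    have := hv.nz i
    field_simp
    linear_combination hr
  obtain ⟨ω, -, hω⟩ := exists_omega_map hg (v := s • v i) (hqs ▸ hy.1) hqs
  obtain ⟨c, hc, hyc⟩ : ∃ c : F, c ≠ 0 ∧ y = c • app ω (v i) := by
    rcases hω with h | h <;> rw [map_smul] at h
    · exact ⟨s, hs0, h.symm⟩
    · exact ⟨-s, neg_ne_zero.2 hs0, by rw [neg_smul, h, neg_neg]⟩
  refine ⟨fun j => if j = i then y else app ω (v j), i, ⟨rfl, fun a b hab => ?_, fun j => ?_, hv.two⟩, if_pos rfl,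
    fun j => ?_⟩
  · by_cases ha : a = i
    · subst ha
      rw [if_pos rfl, if_neg hab.symm, hyc, polar_smul_left, polar_app, hv.orth _ _ hab, smul_zero]
    · by_cases hb : b = i
      · subst hb
        rw [if_neg ha, if_pos rfl, hyc, polar_smul_right, polar_app, hv.orth _ _ hab, smul_zero]
      · rw [if_neg ha, if_neg hb, polar_app, hv.orth _ _ hab]
  · by_cases hj : j = i
    · rw [if_pos hj]; exact hy.1
    · rw [if_neg hj, Q_app]; exact hv.nz j
  · show Adm q1 (if j = i then y else app ω (v j))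
    by_cases hj : j = i
    · rw [if_pos hj]; exact hy
    · rw [if_neg hj]; exact adm_app ω (hadm j)

namespace Pow

variable {P : Pow q q1 (t + 2)} {H : Subgroup (O q)}

/-- Commuting with the sign map of a block confines the commutators with its involutions. -/
theorem split (hO : P.Over H) {n : ℕ} (hS : SmallOK P H n) {l : Fin (t + 2)} {u : Fin k → Fin k → F}
    (hu : IsFrame q1 u) {U : Finset (Fin k)} (hUn : U.card ≤ n) (hUk : U.card < k) {g : O q} (hg : g ∈ H)
    (hc : g * P.sl l (blockSign q1 u U) = P.sl l (blockSign q1 u U) * g) {w : Fin k → F} (hw : Adm q1 w)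
    (hwb : InBlock q1 u U w) :
    ∃ B, g * P.sl l (TensorPowOdd.nr q1 w) * g⁻¹ = P.sl l B := by
  set σ := P.sl l (TensorPowOdd.nr q1 w) with hσ
  set Sg := P.sl l (blockSign q1 u U) with hSg
  have key : ∀ z, app Sg z = z → app σ z = -z := by
    intro z hz
    have e : (app σ).comp (app Sg + LinearMap.id) = -(app Sg + LinearMap.id) := (P.D l).ext_tp fun x y => by
      have h : ∀ j, app σ (app Sg ((P.D l).tp (u j) y) + (P.D l).tp (u j) y) =
          -(app Sg ((P.D l).tp (u j) y) + (P.D l).tp (u j) y) := fun j => by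
        by_cases hj : j ∈ U
        · rw [hSg, ← P.L_eq_sl, (P.D l).L_tp, blockSign_app hu, if_pos hj, (P.D l).tp_neg_left, neg_add_cancel,
            map_zero, neg_zero]
        · have e1 : app Sg ((P.D l).tp (u j) y) = (P.D l).tp (u j) y := by
            rw [hSg, ← P.L_eq_sl, (P.D l).L_tp, blockSign_app hu, if_neg hj]
          rw [e1, map_add, hσ, sl_nr_out hwb hj, ← neg_add]
      have h' := hu.ext_lin (f := ((app σ).comp (app Sg + LinearMap.id)).comp ((P.D l).tpL y))
        (g := (-(app Sg + LinearMap.id)).comp ((P.D l).tpL y)) fun j => by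
          simpa [Data.tpL] using h j
      simpa [Data.tpL] using LinearMap.congr_fun h' x
    have h1 := LinearMap.congr_fun e z
    simp only [LinearMap.comp_apply, LinearMap.add_apply, LinearMap.id_apply, LinearMap.neg_apply, hz] at h1
    have h2 : (2 : F) • app σ z = (2 : F) • (-z) := by
      rw [map_add] at h1
      linear_combination (norm := module) h1
    exact smul_right_injective _ P.good.two h2
  have hsupp : P.Supp l u U (g * σ * g⁻¹ * σ) := fun j hj z => by
    have hz : app Sg (app g⁻¹ ((P.D l).tp (u j) z)) = app g⁻¹ ((P.D l).tp (u j) z) := by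
      have hc' : Sg * g⁻¹ = g⁻¹ * Sg := ((show Commute g Sg from hc).inv_left).eq.symm
      rw [← app_mul, hc', app_mul, hSg, ← P.L_eq_sl, (P.D l).L_tp, blockSign_app hu, if_neg hj]
    rw [app_mul, hσ, sl_nr_out hwb hj, map_neg, app_mul, app_mul, key _ hz, map_neg, app_app_inv, neg_neg]
  have hH : g * σ * g⁻¹ * σ ∈ H :=
    H.mul_mem (H.mul_mem (H.mul_mem hg (hO.nr_H l hw)) (H.inv_mem hg)) (hO.nr_H l hw)
  obtain ⟨j, hj⟩ : ∃ j, j ∉ U := by
    by_contra hno
    push Not at hno
    rw [Finset.eq_univ_iff_forall.2 hno, Finset.card_univ, Fintype.card_fin] at hUk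
    exact lt_irrefl _ hUk
  obtain ⟨A, -, hA⟩ := hsupp.eq_sl hu (hS l u hu U hUn hUk _ hH hsupp) hj
  exact ⟨A * TensorPowOdd.nr q1 w, by rw [map_mul, ← hA, ← hσ, mul_assoc (g * σ * g⁻¹), hσ, P.sl_invol, mul_one]⟩

/-- An element commuting with an involution of every other factor is monomial. -/
theorem small_base (hO : P.Over H) {n : ℕ} (hn : 2 ≤ n) (hS : SmallOK P H n) {l : Fin (t + 2)}
    {u : Fin k → Fin k → F} (hu : IsFrame q1 u) {S : Finset (Fin k)} (hSn : S.card ≤ n + 1) (hSk : S.card < k)
    {a b : Fin k} (ha : a ∈ S) (hb : b ∈ S) (hab : a ≠ b) (hadma : Adm q1 (u a)) (hadmb : Adm q1 (u b))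
    {ys : Fin (t + 1) → Fin k → F} (hys : ∀ m, Adm q1 (ys m)) {g : O q} (hg : g ∈ H) (hs : P.Supp l u S g)
    (hc : ∀ m, g * P.sl (l.succAbove m) (TensorPowOdd.nr q1 (ys m)) =
      P.sl (l.succAbove m) (TensorPowOdd.nr q1 (ys m)) * g) : g ∈ P.Mon := by
  classical
  obtain ⟨jo, hjo⟩ : ∃ j, j ∉ S := by
    by_contra hno
    push Not at hno
    rw [Finset.eq_univ_iff_forall.2 hno, Finset.card_univ, Fintype.card_fin] at hSk
    exact lt_irrefl _ hSk
  set D := P.D l
  set w0 := tvR ys with hw0
  have hpol : ∀ m, polar q1 (ys m) (ys m) ≠ 0 := fun m => by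
    rw [polar_self']; exact mul_ne_zero P.good1.two (hys m).1
  have hp0 : polar (pf q1 (t + 1)) w0 w0 ≠ 0 := by
    rw [hw0, polar_pf P.good1.two]
    exact Finset.prod_ne_zero_iff.2 fun m _ => hpol m
  have hq0 : D.q2 w0 ≠ 0 := fun h => hp0 (by
    change pf q1 (t + 1) w0 = 0 at h
    rw [polar_self', h, mul_zero])
  have hw00 : w0 ≠ 0 := fun h => hq0 (by rw [h, QuadraticMap.map_zero])
  -- the slice of `w0` at `l` is preserved
  have hrow : ∀ x, ∃ x', app g (D.tp x w0) = D.tp x' w0 := by
    intro x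
    obtain ⟨f₀, hf₀⟩ := exists_frame D.good2.nd D.good2.two
    obtain ⟨f, i0, -, hfi, hR⟩ := refr_vec hf₀ Finset.univ (fun j hj => absurd (Finset.mem_univ j) hj) hq0
    refine (D.mem_col hR.1 i0 (z := app g (D.tp x w0)) fun j hj x'' => ?_).imp fun x' hx' => hx'.trans (by rw [hfi])
    let Φ : (Fin (k ^ (t + 1)) → F) →ₗ[F] F := (q.polarBilin (app g (D.tp x w0))).comp (D.tpR x'')
    have hΦ : ∀ z, Φ z = polar q (app g (D.tp x w0)) (D.tp x'' z) := fun z => rfl
    have hvan : ∀ m zs, polar q1 (ys m) (zs m) = 0 → Φ (tvR zs) = 0 := by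
      intro m zs h0
      obtain ⟨w', hw'⟩ := P.maps_of_comm (hys m).1 (hc m)
        (tvR ((l.succAbove m).removeNth (l.insertNth (α := fun _ => Fin k → F) x ys)))
      have e1 : ∀ (zz : Fin (t + 1) → Fin k → F) (z : Fin k → F), D.tp z (tvR zz) = (P.D (l.succAbove m)).tp (zz m)
          (tvR ((l.succAbove m).removeNth (l.insertNth (α := fun _ => Fin k → F) z zz))) := fun zz z => by
        rw [P.tp_tvR, P.tv_split (l.succAbove m), Fin.insertNth_apply_succAbove]
      rw [hΦ, hw0, e1, hw', e1, (P.D (l.succAbove m)).polar_tp]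
      show polar q1 (ys m) (zs m) * _ = 0
      rw [h0, zero_mul]
    have hind : ∀ (s : Finset (Fin (t + 1))) zs,
        Φ (tvR zs) * ∏ m ∈ s, polar q1 (ys m) (ys m) =
          Φ (tvR (s.piecewise ys zs)) * ∏ m ∈ s, polar q1 (ys m) (zs m) := by
      intro s
      induction s using Finset.induction_on with
      | empty => intro zs; simp
      | @insert m s hm ih =>
        intro zs
        set zs' := s.piecewise ys zs with hzs'
        set c := polar q1 (ys m) (zs m) / polar q1 (ys m) (ys m) with hcdef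
        have hsplit : tvR zs' = c • tvR (Function.update zs' m (ys m)) +
            tvR (Function.update zs' m (zs m - c • ys m)) := by
          rw [← tvR_update_smul, ← tvR_update_add, add_sub_cancel, show zs m = zs' m by
            rw [hzs', Finset.piecewise_eq_of_notMem _ _ _ hm], Function.update_eq_self]
        have h0 : Φ (tvR (Function.update zs' m (zs m - c • ys m))) = 0 := hvan m _ (by
          rw [Function.update_self, polar_sub_right, polar_smul_right, smul_eq_mul, hcdef,
            div_mul_cancel₀ _ (hpol m), sub_self])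
        rw [Finset.prod_insert hm, Finset.prod_insert hm, Finset.piecewise_insert, mul_left_comm, ih, ← hzs']
        conv_lhs => rw [hsplit, map_add, h0, add_zero, map_smul, smul_eq_mul, hcdef]
        rw [show polar q1 (ys m) (zs m) = polar q1 (ys m) (zs m) / polar q1 (ys m) (ys m) * polar q1 (ys m) (ys m)
          from (div_mul_cancel₀ _ (hpol m)).symm]
        have := hpol m
        field_simp
    have hall : Φ = (Φ w0 / polar (pf q1 (t + 1)) w0 w0) • (pf q1 (t + 1)).polarBilin w0 :=
      ext_tvR fun zs => by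
        have h := hind Finset.univ zs
        rw [Finset.piecewise_univ, ← polar_pf P.good1.two, ← polar_pf P.good1.two, ← hw0] at h
        rw [LinearMap.smul_apply, polarBilin_apply_apply, smul_eq_mul, div_mul_eq_mul_div, eq_div_iff hp0]
        exact h
    rw [← hΦ, hall, LinearMap.smul_apply, polarBilin_apply_apply, ← hfi,
      show polar (pf q1 (t + 1)) (f i0) (f j) = 0 from hR.1.orth i0 j hj.symm, smul_zero]
  obtain ⟨A, hA⟩ : ∃ A : O q1, ∀ x, app g (D.tp x w0) = D.tp (app A x) w0 := by
    obtain ⟨A, c, -, hc', hA⟩ := D.exists_iso hq0 hw00 hrow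
    have hc2 : c * c = 1 := by
      rw [QuadraticMap.map_smul, smul_eq_mul] at hc'
      exact mul_right_cancel₀ hq0 (hc'.trans (one_mul _).symm)
    rcases mul_self_eq_one_iff.1 hc2 with rfl | rfl
    · exact ⟨A, fun x => by rw [hA, one_smul]⟩
    · exact ⟨negId q1 * A, fun x => by rw [hA, app_mul, app_negId, neg_one_smul, D.tp_neg_left, D.tp_neg_right]⟩
  have hAout : ∀ j, j ∉ S → app A (u j) = u j := fun j hj => D.tp_left_cancel hw00 (by rw [← hA]; exact hs j hj w0)
  set σa := P.sl l (TensorPowOdd.nr q1 (u a)) with hσa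
  set σb := P.sl l (TensorPowOdd.nr q1 (u b)) with hσb
  have hσw : ∀ (x z : Fin k → F), app (P.sl l (TensorPowOdd.nr q1 x)) (D.tp z w0) =
      D.tp (app (TensorPowOdd.nr q1 x) z) w0 := fun x z => by rw [← P.L_eq_sl, D.L_tp]
  have hAinv : ∀ x, app g⁻¹ (D.tp x w0) = D.tp (app A⁻¹ x) w0 := fun x =>
    app_injective g (by rw [app_app_inv, hA, app_app_inv])
  -- the elements fixing the slice
  let E : Subgroup (O q) :=
    { carrier := {h | h ∈ suppGroup P H l u S ∧ ∀ x, app h (D.tp x w0) = D.tp x w0}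
      one_mem' := ⟨one_mem _, fun _ => app_one _⟩
      mul_mem' := fun {x y} ⟨h1, h2⟩ ⟨h3, h4⟩ => ⟨mul_mem h1 h3, fun z => by rw [app_mul, h4, h2]⟩
      inv_mem' := fun {x} ⟨h1, h2⟩ => ⟨inv_mem h1, fun z => app_injective x (by rw [app_app_inv, h2])⟩ }
  have hmonE : ∀ h ∈ E, h ∈ P.Mon → h = 1 := fun h hh hM => by
    obtain ⟨B, -, rfl⟩ := hh.1.2.eq_sl hu hM hjo
    rw [show B = 1 from ext_app fun x => D.tp_left_cancel hw00 (by
      rw [← D.L_tp, P.L_eq_sl, app_one]; exact hh.2 x), map_one]
  have hEconj : ∀ x, Adm q1 x → InBlock q1 u S x → ∀ h ∈ E,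
      P.sl l (TensorPowOdd.nr q1 x) * h * P.sl l (TensorPowOdd.nr q1 x) ∈ E := fun x hx hxb h hh =>
    ⟨⟨H.mul_mem (H.mul_mem (hO.nr_H l hx) hh.1.1) (hO.nr_H l hx), hh.1.2.conj_nr hxb⟩, fun z => by
      rw [app_mul, app_mul, hσw, hh.2, hσw, ← app_mul (TensorPowOdd.nr q1 x), nr_invol, app_one]⟩
  have hEfix : ∀ x, Adm q1 x → InBlock q1 u S x → ∀ h ∈ E,
      P.sl l (TensorPowOdd.nr q1 x) * h = h * P.sl l (TensorPowOdd.nr q1 x) → h = 1 := fun x hx hxb h hh hcm =>
    hmonE h hh (hO.step'_lt hS hu hSn hSk hh.1.1 hh.1.2 hx hxb (fun h0 => hx.1 (by rw [h0, QuadraticMap.map_zero]))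
      (P.maps_of_comm hx.1 hcm.symm))
  have hab' : InBlock q1 u S (u a) := InBlock.vec hu ha
  have hbb' : InBlock q1 u S (u b) := InBlock.vec hu hb
  have hsign : blockSign q1 u {a, b} = TensorPowOdd.nr q1 (u a) * TensorPowOdd.nr q1 (u b) := by
    rw [nr_mul_nr, show ({a, b} : Finset (Fin k)) = {a} ∪ {b} from Finset.insert_eq a {b},
      blockSign_union hu (Finset.disjoint_singleton.2 hab), blockSign_single, blockSign_single]
  have hcomm : σa * σb = σb * σa := by
    rw [hσa, hσb, ← map_mul, ← map_mul, nr_comm (hu.orth a b hab)]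
  set c := g * σa * g⁻¹ * σa with hcdef
  set B0 := A * TensorPowOdd.nr q1 (u a) * A⁻¹ * TensorPowOdd.nr q1 (u a) with hB0
  have hB0Ω : B0 ∈ commutator (O q1) := by
    rw [hB0]
    nth_rw 2 [← nr_inv (u a)]
    exact Subgroup.commutator_mem_commutator (Subgroup.mem_top A) (Subgroup.mem_top _)
  have hB0out : ∀ j, j ∉ S → app B0 (u j) = u j := fun j hj => by
    have h1 : app (TensorPowOdd.nr q1 (u a)) (u j) = -u j := nr_ortho (by rw [polar_comm]; exact hab' j hj)
    have h2 : app A⁻¹ (u j) = u j := app_injective A (by rw [app_app_inv, hAout j hj])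
    rw [hB0, app_mul, h1, map_neg, app_mul, app_mul, h2, h1, map_neg, neg_neg, hAout j hj]
  have hcE : c * (P.sl l B0)⁻¹ ∈ E := by
    refine ⟨mul_mem ⟨H.mul_mem (H.mul_mem (H.mul_mem hg (hO.nr_H l hadma)) (H.inv_mem hg)) (hO.nr_H l hadma),
      hs.comm_nr hab'⟩ (inv_mem ⟨hO.G_le ⟨P.sl_mem _ _, P.sl_omega _ hB0Ω⟩, P.Supp_L hB0out⟩), fun x => ?_⟩
    have e : app (P.sl l B0)⁻¹ (D.tp x w0) = D.tp (app B0⁻¹ x) w0 := by
      rw [← map_inv, ← P.L_eq_sl, D.L_tp]
    rw [app_mul, e, hcdef, app_mul, app_mul, app_mul, hσw, hAinv, hσw, hA]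
    simp only [← app_mul]
    rw [show A * (TensorPowOdd.nr q1 (u a) * (A⁻¹ * (TensorPowOdd.nr q1 (u a) * B0⁻¹))) = 1 by
      rw [show A * (TensorPowOdd.nr q1 (u a) * (A⁻¹ * (TensorPowOdd.nr q1 (u a) * B0⁻¹))) =
        A * TensorPowOdd.nr q1 (u a) * A⁻¹ * TensorPowOdd.nr q1 (u a) * B0⁻¹ by group, ← hB0, mul_inv_cancel],
      app_one]
  have h1 := eq_one_of_three E (P.sl_invol l (u a)) (P.sl_invol l (u b)) hcomm (hEconj _ hadma hab')
    (hEconj _ hadmb hbb') (hEfix _ hadma hab') (hEfix _ hadmb hbb') (fun h hh hcm => by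
      rw [← map_mul, ← hsign] at hcm
      obtain ⟨B, hB⟩ := split hO hS hu (U := {a, b}) (by rw [Finset.card_pair hab]; exact hn)
        (by rw [Finset.card_pair hab]; have := three_le P.good1; omega) hh.1.1 hcm.symm hadma
        (InBlock.vec hu (by simp))
      obtain ⟨x', hx', hm⟩ := P.maps_of_conj hadma.1 hB
      exact hmonE h hh (hO.step'_lt hS hu hSn hSk hh.1.1 hh.1.2 hadma hab' hx' hm)) hcE
  rw [mul_inv_eq_one] at h1
  obtain ⟨x', hx', hm⟩ := P.maps_of_conj hadma.1 (g := g) (B := B0 * TensorPowOdd.nr q1 (u a)) (by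
    rw [map_mul, ← h1, hcdef, ← hσa, mul_assoc (g * σa * g⁻¹) σa σa, hσa, P.sl_invol, mul_one])
  exact hO.step'_lt hS hu hSn hSk hg hs hadma hab' hx' hm

/-- Descent on the other factors. -/
theorem small_frame (hO : P.Over H) {n : ℕ} (hn : 2 ≤ n) (hS : SmallOK P H n) {l : Fin (t + 2)}
    {u : Fin k → Fin k → F} (hu : IsFrame q1 u) {S : Finset (Fin k)} (hSn : S.card ≤ n + 1) (hSk : S.card < k)
    {a b : Fin k} (ha : a ∈ S) (hb : b ∈ S) (hab : a ≠ b) (hadma : Adm q1 (u a)) (hadmb : Adm q1 (u b)) :
    ∀ g ∈ H, P.Supp l u S g → g ∈ P.Mon := by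
  classical
  obtain ⟨jo, hjo⟩ : ∃ j, j ∉ S := by
    by_contra hno
    push Not at hno
    rw [Finset.eq_univ_iff_forall.2 hno, Finset.card_univ, Fintype.card_fin] at hSk
    exact lt_irrefl _ hSk
  obtain ⟨f0, hf0⟩ := exists_frame (P.D l).good2.nd (P.D l).good2.two
  obtain ⟨y₀, hy₀⟩ := exists_adm P.good1
  suffices J : ∀ (C : Finset (Fin (t + 1))) (ys : Fin (t + 1) → Fin k → F), (∀ m, Adm q1 (ys m)) →
      ∀ g ∈ H, P.Supp l u S g → (∀ m, m ∉ C → Commute g (P.sl (l.succAbove m) (TensorPowOdd.nr q1 (ys m)))) →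
        g ∈ P.Mon from
    fun g hg hs => J Finset.univ (fun _ => y₀) (fun _ => hy₀) g hg hs fun m hm => absurd (Finset.mem_univ m) hm
  intro C
  induction C using Finset.induction_on with
  | empty =>
    exact fun ys hys g hg hs hc => small_base hO hn hS hu hSn hSk ha hb hab hadma hadmb hys hg hs fun m =>
      (hc m (Finset.notMem_empty m)).eq
  | @insert n0 C hn0 ih =>
    intro ys hys g hg hs hc
    set N := l.succAbove n0
    have hNl : N ≠ l := Fin.succAbove_ne l n0
    -- elements of the factor `N` commute with those of the earlier factors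
    have hslot : ∀ m, m ∉ insert n0 C → ∀ x : O q1,
        Commute (P.sl N x) (P.sl (l.succAbove m) (TensorPowOdd.nr q1 (ys m))) := fun m hm x =>
      P.sl_comm (fun e => hm (by rw [← Fin.succAbove_right_injective e]; exact Finset.mem_insert_self _ _)) _ _
    refine hO.mon_of_comm hg N fun y hy => ?_
    obtain ⟨v, i0, hv, hvi, hadm⟩ := exists_adm_frame_at P.good1 hy
    set σ := P.sl N (TensorPowOdd.nr q1 y) with hσ
    set η := (std P.good1 t).sl n0 (TensorPowOdd.nr q1 y) with hη
    have hRη : (P.D l).R η = σ := P.R_sl l n0 _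
    set e := g * σ * g⁻¹ with he
    have hgT : ∀ m, m ∉ insert n0 C → Commute g (P.sl (l.succAbove m) (TensorPowOdd.nr q1 (ys m))) := hc
    have heT : ∀ m, m ∉ insert n0 C → Commute e (P.sl (l.succAbove m) (TensorPowOdd.nr q1 (ys m))) := fun m hm =>
      ((hgT m hm).mul_left (hslot m hm _)).mul_left (hgT m hm).inv_left
    have heH : e ∈ H := H.mul_mem (H.mul_mem hg (hO.nr_H N hy)) (H.inv_mem hg)
    have he1 : e * e = 1 := by
      rw [he, show g * σ * g⁻¹ * (g * σ * g⁻¹) = g * (σ * σ) * g⁻¹ by group, P.sl_invol, mul_one, mul_inv_cancel]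
    have hcsupp : P.Supp l u S (e * σ) := by
      have := hs.comm_R η
      rwa [hRη, P.sl_inv] at this
    -- `e` commutes with the pairs through `y`
    have hpair : ∀ j, j ≠ i0 → Commute e (P.sl N (TensorPowOdd.nr q1 (v j) * TensorPowOdd.nr q1 y)) := by
      intro j hji
      have hort : polar q1 (v j) y = 0 := hvi ▸ hv.orth j i0 hji
      set η' := (std P.good1 t).sl n0 (TensorPowOdd.nr q1 (v j)) with hη'
      set d := P.sl N (TensorPowOdd.nr q1 (v j)) with hd
      have hRη' : (P.D l).R η' = d := P.R_sl l n0 _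
      have hd1 : d * d = 1 := P.sl_invol _ _
      have hdH : d ∈ H := hO.nr_H N (hadm j)
      set π := η' * η with hπ
      have hRπ : (P.D l).R π = P.sl N (TensorPowOdd.nr q1 (v j) * TensorPowOdd.nr q1 y) := by
        rw [hπ, hη', hη, ← map_mul, P.R_sl]
      have hπ1 : π * π = 1 := by
        rw [hπ, hη', hη, ← map_mul, ← map_mul, show TensorPowOdd.nr q1 (v j) * TensorPowOdd.nr q1 y *
          (TensorPowOdd.nr q1 (v j) * TensorPowOdd.nr q1 y) = TensorPowOdd.nr q1 (v j) *
            (TensorPowOdd.nr q1 y * TensorPowOdd.nr q1 (v j)) * TensorPowOdd.nr q1 y by group,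
          ← nr_comm hort, show TensorPowOdd.nr q1 (v j) * (TensorPowOdd.nr q1 (v j) * TensorPowOdd.nr q1 y) *
            TensorPowOdd.nr q1 y = (TensorPowOdd.nr q1 (v j) * TensorPowOdd.nr q1 (v j)) *
              (TensorPowOdd.nr q1 y * TensorPowOdd.nr q1 y) by group, nr_invol, nr_invol, one_mul, map_one]
      set R0 := (P.D l).R π with hR0
      set p := d * e with hp
      -- powers of the product on the fixed slices
      have hpow : ∀ i : ℕ, P.Supp l u S (p ^ i * (R0 ^ i)⁻¹) := by
        have h1 : P.Supp l u S (p * R0⁻¹) := by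
          have e1 : p * R0⁻¹ = d * (e * σ) * d⁻¹ := by
            rw [hR0, hπ, map_mul, hRη', hRη, hp, _root_.mul_inv_rev, hσ, P.sl_inv N y, ← hσ]
            group
          rw [e1, ← hRη']
          exact hcsupp.conj_R η'
        intro i
        induction i with
        | zero =>
          intro w hw z
          simp
        | succ i ihi =>
          have e1 : p ^ (i + 1) * (R0 ^ (i + 1))⁻¹ = p ^ i * (R0 ^ i)⁻¹ *
              ((P.D l).R (π ^ i) * (p * R0⁻¹) * ((P.D l).R (π ^ i))⁻¹) := by
            rw [map_pow, ← hR0, pow_succ p, pow_succ R0]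
            group
          rw [e1]
          exact ihi.mul (h1.conj_R (π ^ i))
      have hR01 : R0 * R0 = 1 := by rw [hR0, ← map_mul, hπ1, map_one]
      have hπne : π ≠ 1 := fun h => by
        have h1 : P.sl N (TensorPowOdd.nr q1 (v j) * TensorPowOdd.nr q1 y) = P.sl N 1 := by
          rw [← hRπ, hR0, h, map_one, map_one]
        have h2 := congrArg (fun x => app x y) (P.sl_injective N h1)
        simp only [app_mul, app_one, nr_self hy.1, nr_ortho (show polar q1 y (v j) = 0 by
          rw [polar_comm]; exact hort)] at h2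
        have h3 : (2 : F) • y = 0 := by linear_combination (norm := module) -h2
        exact hy.1 (by rw [(smul_eq_zero.1 h3).resolve_left P.good1.two, QuadraticMap.map_zero])
      obtain ⟨r, hr⟩ : Even (orderOf p) := by
        by_contra hodd
        rw [Nat.not_even_iff_odd] at hodd
        obtain ⟨i, hi⟩ := hodd
        have h1 := hpow (orderOf p)
        rw [pow_orderOf_eq_one, one_mul] at h1
        have h2 : R0 ^ orderOf p = R0 := by rw [hi, pow_succ, pow_mul, pow_two, hR01, one_pow, one_mul]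
        rw [h2, hR0, ← map_inv, inv_eq_of_mul_eq_one_right hπ1] at h1
        refine hπne (ext_app fun z => (P.D l).tp_right_cancel (hu.li.ne_zero jo) ?_)
        rw [← (P.D l).R_tp, app_one]
        exact h1 jo hjo z
      set ε := p ^ r with hε
      have hε2 : ε * ε = 1 := by rw [hε, ← pow_add, ← hr, pow_orderOf_eq_one]
      have hε1 : ε ≠ 1 := fun h => by
        have h1 := orderOf_dvd_of_pow_eq_one (hε ▸ h : p ^ r = 1)
        have h2 : 0 < orderOf p := orderOf_pos p
        have := Nat.le_of_dvd (by omega) h1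
        omega
      obtain ⟨hεd, hεe, hev, hod⟩ := TensorOdd.dihedral (r := e) (s := d) he1 hd1 (k := r) (by rw [← hp]; exact hε2)
      rw [← hp, ← hε] at hεd hεe hev hod
      have hdπ : Commute R0 d := by
        rw [hRπ, hd]
        exact ((Commute.refl _).mul_left (nr_comm hort).symm).map (P.sl N)
      have hεcomm : ∀ m, m ∉ C → Commute (ε * (R0 ^ r)⁻¹)
          (P.sl (l.succAbove m) (TensorPowOdd.nr q1 (Function.update ys n0 (v j) m))) := fun m hm => by
        by_cases hmn : m = n0
        · subst hmn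
          rw [Function.update_self]
          exact (show Commute ε d from hεd).mul_left (hdπ.pow_left r).inv_left
        · have hm' : m ∉ insert n0 C := by simp [hmn, hm]
          rw [Function.update_of_ne hmn]
          have hR0c : Commute R0 (P.sl (l.succAbove m) (TensorPowOdd.nr q1 (ys m))) := by
            rw [hRπ]; exact hslot m hm' _
          exact (((hslot m hm' _).mul_left (heT m hm')).pow_left r).mul_left (hR0c.pow_left r).inv_left
      have hR0H : R0 ∈ H := by rw [hRπ, map_mul]; exact H.mul_mem hdH (hO.nr_H N hy)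
      have hM := ih (Function.update ys n0 (v j)) (fun m => by
        by_cases hmn : m = n0
        · subst hmn; rw [Function.update_self]; exact hadm j
        · rw [Function.update_of_ne hmn]; exact hys m) (ε * (R0 ^ r)⁻¹)
        (H.mul_mem (H.pow_mem (H.mul_mem hdH heH) r) (H.inv_mem (H.pow_mem hR0H r))) (hpow r) hεcomm
      obtain ⟨A, -, hA⟩ := (hpow r).eq_sl hu hM hjo
      have hεA : ε = P.sl l A * R0 ^ r := by rw [← hA, inv_mul_cancel_right]
      have hLR : ∀ i : ℕ, Commute (P.sl l A) (R0 ^ i) := fun i => by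
        rw [hRπ, ← map_pow]; exact P.sl_comm hNl.symm _ _
      have hAd : Commute (P.sl l A) d := P.sl_comm hNl.symm _ _
      have hA2 : A * A = 1 := P.sl_injective l (by
        rw [map_mul, map_one]
        have h1 := hε2
        rw [hεA, (hLR r).symm.mul_mul_mul_comm (P.sl l A) (R0 ^ r), ← pow_add, ← two_mul, pow_mul, pow_two, hR01,
          one_pow, mul_one] at h1
        exact h1)
      have hηη : ∀ {x : O (pf q1 (t + 1))} {y' : Fin k → F}, x = (std P.good1 t).sl n0 (TensorPowOdd.nr q1 y') →
          x * x = 1 := fun hx => by rw [hx, ← map_mul, nr_invol, map_one]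
      rcases Nat.even_or_odd r with hr2 | hr2
      · exfalso
        obtain ⟨i, hi⟩ := hr2
        have hR0r : R0 ^ r = 1 := by rw [hi, ← two_mul, pow_mul, pow_two, hR01, one_pow]
        obtain ⟨c, hc'⟩ := hev ⟨i, hi⟩
        rw [hεA, hR0r, mul_one, ← hAd.eq, ← hRη', ← P.L_eq_sl] at hc'
        have := left_trivial (P.D l) hA2 (hηη hη') hc'
        rw [hεA, hR0r, mul_one, this, map_one] at hε1
        exact hε1 rfl
      · obtain ⟨c, hc'⟩ := hod hr2
        have hR0r : R0 ^ r = R0 := by
          obtain ⟨i, hi⟩ := hr2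
          rw [hi, pow_succ, pow_mul, pow_two, hR01, one_pow, one_mul]
        have hd0 : d * R0 = σ := by
          rw [hR0, hπ, map_mul, hRη', hRη, ← mul_assoc, hd1, one_mul]
        rw [hεA, hR0r, ← mul_assoc d (P.sl l A) R0, ← hAd.eq, mul_assoc (P.sl l A) d R0, hd0, he, ← hRη, ← P.L_eq_sl,
          show c * (g * (P.D l).R η * g⁻¹) * c⁻¹ = (c * g) * (P.D l).R η * (c * g)⁻¹ by group] at hc'
        have hA1 := left_trivial (P.D l) hA2 (hηη hη) hc'
        have h2 : Commute ε e := hεe
        rw [hεA, hR0r, hA1, map_one, one_mul, hRπ] at h2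
        exact h2.symm
    -- `e` commutes with the involution
    have heσ : Commute e σ := by
      let Cs : Subgroup (O q1) := (Subgroup.centralizer {e}).comap (P.sl N)
      have hCs : ∀ x, x ∈ Cs ↔ Commute e (P.sl N x) := fun x => by
        show P.sl N x ∈ Subgroup.centralizer {e} ↔ _
        rw [Subgroup.mem_centralizer_singleton_iff]
        exact ⟨fun h => h.symm, fun h => h.symm⟩
      have hT : ∀ T : Finset (Fin k), i0 ∉ T → blockSign q1 v T * refl q1 y ^ T.card ∈ Cs := by
        intro T
        induction T using Finset.induction_on with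
        | empty => intro _; rw [blockSign_empty hv, Finset.card_empty, pow_zero, mul_one]; exact Cs.one_mem
        | @insert j T hj ihT =>
          intro hi
          rw [Finset.mem_insert, not_or] at hi
          have h1 := ihT hi.2
          have h2 : refl q1 (v j) * refl q1 y ∈ Cs := by
            rw [hCs, ← nr_mul_nr]; exact hpair j (Ne.symm hi.1)
          have h3 : Commute (refl q1 y ^ T.card) (refl q1 (v j)) := by
            refine Commute.pow_left ?_ _
            have e1 := refl_conj (refl q1 (v j)) y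
            rw [app_refl_of_ortho (by rw [polar_comm]; exact hvi ▸ hv.orth j i0 (Ne.symm hi.1)), refl_inv] at e1
            show refl q1 y * refl q1 (v j) = refl q1 (v j) * refl q1 y
            calc refl q1 y * refl q1 (v j) = refl q1 (v j) * refl q1 y * refl q1 (v j) * refl q1 (v j) := by
                  rw [e1]
              _ = _ := by rw [mul_assoc _ (refl q1 (v j)) (refl q1 (v j)), refl_mul_self, mul_one]
          have h4 := Cs.mul_mem h1 h2
          rw [Finset.insert_eq, Finset.union_comm, blockSign_union hv (Finset.disjoint_singleton_right.2 hj),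
            blockSign_single, Finset.card_union_of_disjoint (Finset.disjoint_singleton_right.2 hj),
            Finset.card_singleton, pow_succ]
          rwa [mul_assoc, ← mul_assoc (refl q1 y ^ T.card), h3.eq, mul_assoc (refl q1 (v j)), ← mul_assoc] at h4
      have h := hT (Finset.univ.erase i0) (Finset.notMem_erase i0 _)
      rw [blockSign_erase hv, hvi, Finset.card_erase_of_mem (Finset.mem_univ i0), Finset.card_univ,
        Fintype.card_fin] at h
      obtain ⟨i, hi⟩ := P.good1.odd
      rw [Fintype.card_fin] at hi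
      rw [show k - 1 = 2 * i by omega, pow_mul, pow_two, refl_mul_self, one_pow, mul_one] at h
      exact (hCs _).1 h
    have hM := ih (Function.update ys n0 y) (fun m => by
      by_cases hmn : m = n0
      · subst hmn; rw [Function.update_self]; exact hy
      · rw [Function.update_of_ne hmn]; exact hys m) (e * σ) (H.mul_mem heH (hO.nr_H N hy)) hcsupp fun m hm => by
        by_cases hmn : m = n0
        · subst hmn; rw [Function.update_self]; exact heσ.mul_left (Commute.refl _)
        · have hm' : m ∉ insert n0 C := by simp [hmn, hm]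
          rw [Function.update_of_ne hmn]
          exact (heT m hm').mul_left (hslot m hm' _)
    obtain ⟨A, -, hA⟩ := hcsupp.eq_sl hu hM hjo
    refine comm_of_L (P := P) (A := A) hNl ?_
    rw [← hA, ← hσ, mul_assoc e σ σ, hσ, P.sl_invol, mul_one]

/-- Elements fixing a slice are monomial. -/
theorem Over.small (hO : P.Over H) : ∀ n, SmallOK P H n := by
  intro n
  induction n with
  | zero =>
    intro l u hu S hS _ g _ hs
    have : g = 1 := P.ext_slices (l := l) hu fun j w => by
      rw [app_one]; exact hs j (by rw [Finset.card_eq_zero.1 (Nat.le_zero.1 hS)]; simp) w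
    exact this ▸ one_mem _
  | succ n ih =>
    intro l u hu S hS hk g hg hs
    by_cases hSn : S.card ≤ n
    · exact ih l u hu S hSn hk g hg hs
    have hcard : S.card = n + 1 := by omega
    rcases Nat.lt_or_ge n 2 with hn | hn
    · interval_cases n
      · obtain ⟨i, rfl⟩ := Finset.card_eq_one.1 hcard
        exact hO.cell hu i hg hs
      · obtain ⟨u', i, hi, hadm, hR⟩ := exists_adm_block P.good1 hu (S := S) (by omega)
        obtain ⟨j, hj⟩ := Finset.card_eq_one.1 (show (S.erase i).card = 1 by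
          rw [Finset.card_erase_of_mem hi, hcard])
        have hji : i ≠ j := fun e => by
          have := Finset.notMem_erase i S
          rw [hj, e] at this
          exact this (Finset.mem_singleton_self _)
        have hSij : S = {i, j} := by rw [← Finset.insert_erase hi, hj]
        exact hO.two ih hR.1 hji hadm hg (hSij ▸ hs.refr hR)
    · obtain ⟨u', i, hi, hadm, hR⟩ := exists_adm_block P.good1 hu (S := S) (by omega)
      obtain ⟨u'', i', hi', hadm', hR'⟩ := exists_adm_block P.good1 hR.1 (S := S.erase i) (by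
        rw [Finset.card_erase_of_mem hi]; omega)
      have hR2 := hR.trans hR' (Finset.erase_subset i S)
      exact small_frame hO hn ih hR2.1 hS hk hi (Finset.mem_of_mem_erase hi') (Finset.mem_erase.1 hi').1.symm
        (hR'.2.1 i (Finset.notMem_erase i S) ▸ hadm) hadm' g hg (hs.refr hR2)

end Pow

end CfsgLib.TensorPowOdd
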