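import Mathlib
import Cfsg.Agent.Lib.TensorPowOdd.Small

/-!
The signatures of involutions of a tensor power, their eigenvectors, and central elements of dihedral groups.
-/

set_option autoImplicit false
set_option linter.unusedSectionVars false

namespace CfsgLib.TensorPowOdd

open Matrix QuadraticMap CfsgLib.Orth CfsgLib.TensorOdd CfsgLib.Maximal.TensorPower

variable {F : Type*} [Field F] [Fintype F]

/-- The central involution of a dihedral subgroup with two classes. -/
theorem dihedral_in {G : Type*} [Group G] [Finite G] (C : Subgroup G) {r s : G} (hrC : r ∈ C) (hsC : s ∈ C)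
    (hr : r * r = 1) (hs : s * s = 1) (hne : ∀ c ∈ C, c * r * c⁻¹ ≠ s) :
    ∃ ε ∈ C, ε ≠ 1 ∧ ε * ε = 1 ∧ ε * r = r * ε ∧ ε * s = s * ε ∧
      (∃ c ∈ C, c * r * c⁻¹ = s * ε ∨ c * s * c⁻¹ = s * ε) ∧
      (∃ c ∈ C, c * r * c⁻¹ = r * ε ∨ c * s * c⁻¹ = r * ε) := by
  set r' : C := ⟨r, hrC⟩
  set s' : C := ⟨s, hsC⟩
  have hr' : r' * r' = 1 := Subtype.ext hr
  have hs' : s' * s' = 1 := Subtype.ext hs
  obtain ⟨i, hi⟩ : Even (orderOf (s' * r')) := by
    by_contra h
    obtain ⟨c, hc⟩ := dihedral_odd hr' hs' (Nat.not_even_iff_odd.1 h)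
    exact hne c c.2 (congrArg Subtype.val hc)
  set ε := (s' * r') ^ i with hε
  have hε2 : ε * ε = 1 := by rw [hε, ← pow_add, ← hi, pow_orderOf_eq_one]
  have hε1 : ε ≠ 1 := fun h => by
    have h1 := orderOf_dvd_of_pow_eq_one (hε ▸ h : (s' * r') ^ i = 1)
    have h2 : 0 < orderOf (s' * r') := orderOf_pos _
    have := Nat.le_of_dvd (by omega) h1
    omega
  obtain ⟨h1, h2, h3, h4⟩ := TensorOdd.dihedral hr' hs' hε2
  have hεi : (r' * s') ^ i = ε := by
    have e : r' * s' = (s' * r')⁻¹ := by
      rw [_root_.mul_inv_rev, inv_eq_of_mul_eq_one_right hr', inv_eq_of_mul_eq_one_right hs']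
    rw [e, inv_pow, ← hε, inv_eq_of_mul_eq_one_right hε2]
  obtain ⟨-, -, h3', h4'⟩ := TensorOdd.dihedral hs' hr' (k := i) (by rw [hεi]; exact hε2)
  rw [hεi] at h3' h4'
  refine ⟨ε, ε.2, fun h => hε1 (Subtype.ext h), congrArg Subtype.val hε2, congrArg Subtype.val h2,
    congrArg Subtype.val h1, ?_, ?_⟩
  · rcases Nat.even_or_odd i with h | h
    · obtain ⟨c, hc⟩ := h3 h; exact ⟨c, c.2, Or.inr (congrArg Subtype.val hc)⟩
    · obtain ⟨c, hc⟩ := h4 h; exact ⟨c, c.2, Or.inl (congrArg Subtype.val hc)⟩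
  · rcases Nat.even_or_odd i with h | h
    · obtain ⟨c, hc⟩ := h3' h; exact ⟨c, c.2, Or.inl (congrArg Subtype.val hc)⟩
    · obtain ⟨c, hc⟩ := h4' h; exact ⟨c, c.2, Or.inr (congrArg Subtype.val hc)⟩

section

variable {μ : Type} [Fintype μ] [DecidableEq μ] {Q : QuadraticForm F (μ → F)}

/-- The dimension of the fixed space less that of a complement. -/
noncomputable def sdim (g : O Q) : ℤ := 2 * Module.finrank F (fixS g) - Fintype.card μ

theorem sdim_conj (h g : O Q) : sdim (h * g * h⁻¹) = sdim g := by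
  rw [sdim, finrank_fixS_conj, sdim]

theorem sdim_blockSign (hg : IsGood Q) {κ : Type} [Fintype κ] [DecidableEq κ] {v : κ → μ → F} (hv : IsFrame Q v)
    (S : Finset κ) : sdim (blockSign Q v S) = (Fintype.card μ : ℤ) - 2 * S.card := by
  classical
  have e : Module.finrank F (fixS (blockSign Q v S)) = (Finset.univ.filter fun i => i ∉ S).card :=
    finrank_fixS_of_signs hg.two hv.basis (fun i => i ∉ S)
      (fun i hi => by rw [hv.basis_apply, blockSign_app hv, if_neg hi])
      (fun i hi => by rw [hv.basis_apply, blockSign_app hv, if_pos (not_not.1 hi)])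
  have e2 : (Finset.univ.filter fun i => i ∉ S).card + S.card = Fintype.card μ := by
    rw [show (Finset.univ.filter fun i => i ∉ S) = Sᶜ from Finset.ext fun i => by simp, Finset.card_compl_add_card,
      hv.card]
  rw [sdim, e]
  omega

theorem sdim_one : sdim (1 : O Q) = Fintype.card μ := by
  have e : fixS (1 : O Q) = ⊤ := eq_top_iff.2 fun x _ => mem_fixS.2 (app_one x)
  rw [sdim, e, finrank_top, Module.finrank_fintype_fun_eq_card]
  ring

/-- An involution with extreme signature is a scalar. -/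
theorem sdim_ne_zero_or (hg : IsGood Q) {g : O Q} (h : g * g = 1) :
    sdim g ≠ 0 ∧ (|sdim g| ≤ Fintype.card μ - 2 ∨ ((g = 1 ∨ g = negId Q) ∧ |sdim g| = Fintype.card μ)) := by
  obtain ⟨v, hv, S, rfl⟩ := exists_sign hg h
  have e := sdim_blockSign hg hv S
  obtain ⟨i, hi⟩ := hg.odd
  have hS : S.card ≤ Fintype.card μ := S.card_le_univ
  refine ⟨by omega, ?_⟩
  rcases Nat.eq_zero_or_pos S.card with h0 | h0
  · right
    refine ⟨Or.inl (by rw [Finset.card_eq_zero.1 h0, blockSign_empty hv]), ?_⟩
    rw [e, abs_of_nonneg (by omega)]; omega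
  by_cases hn : S.card = Fintype.card μ
  · right
    refine ⟨Or.inr (by rw [Finset.eq_univ_of_card S hn, blockSign_univ hv]), ?_⟩
    rw [e, abs_of_nonpos (by omega)]; omega
  · left
    rw [e, abs_le]; omega

/-- An involution has admissible eigenvectors. -/
theorem exists_adm_eigen (hg : IsGood Q) {g : O Q} (h : g * g = 1) :
    ∃ z, Adm Q z ∧ (app g z = z ∨ app g z = -z) := by
  obtain ⟨v, hv, S, rfl⟩ := exists_sign hg h
  have h3 := hg.three
  rcases (show 2 ≤ S.card ∨ 2 ≤ Sᶜ.card by rw [Finset.card_compl]; omega) with h2 | h2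
  · obtain ⟨v', i, hi, hadm, hR⟩ := exists_adm_block hg hv h2
    exact ⟨v' i, hadm, Or.inr (by rw [← blockSign_refr hv hR, blockSign_app hR.1, if_pos hi])⟩
  · obtain ⟨v', i, hi, hadm, hR⟩ := exists_adm_block hg hv h2
    refine ⟨v' i, hadm, Or.inl ?_⟩
    rw [(hR.2.2 i hi).eq_sum hv, map_sum]
    refine Finset.sum_congr rfl fun j hj => ?_
    rw [map_smul, blockSign_app hv, if_neg (Finset.mem_compl.1 hj)]

/-- An involution in `Ω` has admissible eigenvectors of both signs. -/
theorem exists_adm_sides (hg : IsGood Q) {g : O Q} (h : g * g = 1) (hΩ : g ∈ commutator (O Q)) (h1 : g ≠ 1) :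
    (∃ z, Adm Q z ∧ app g z = -z) ∧ ∃ z, Adm Q z ∧ app g z = z := by
  obtain ⟨v, hv, S, rfl⟩ := exists_sign hg h
  have hne : S.Nonempty := Finset.nonempty_iff_ne_empty.2 fun e => h1 (by rw [e, blockSign_empty hv])
  have hne' : Sᶜ.Nonempty := Finset.nonempty_iff_ne_empty.2 fun e => by
    rw [Finset.compl_eq_empty_iff] at e
    exact negId_notMem hg (blockSign_univ hv ▸ e ▸ hΩ)
  constructor
  · rcases Nat.lt_or_ge S.card 2 with h2 | h2
    · obtain ⟨i, rfl⟩ := Finset.card_eq_one.1 (show S.card = 1 by have := hne.card_pos; omega)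
      rw [blockSign_single] at hΩ
      have e1 := MonoidHom.mem_ker.1 (Abelianization.commutator_subset_ker (detHom Q) hΩ)
      rw [detHom_refl (hv.nz i)] at e1
      have e2 := congrArg (fun u : Fˣ => (u : F)) e1
      simp only [Units.val_neg, Units.val_one] at e2
      exact absurd (by linear_combination -e2 : (2 : F) = 0) hg.two
    · obtain ⟨v', i, hi, hadm, hR⟩ := exists_adm_block hg hv h2
      exact ⟨v' i, hadm, by rw [← blockSign_refr hv hR, blockSign_app hR.1, if_pos hi]⟩
  · rcases Nat.lt_or_ge Sᶜ.card 2 with h2 | h2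
    · obtain ⟨i, hi⟩ := Finset.card_eq_one.1 (show Sᶜ.card = 1 by have := hne'.card_pos; omega)
      have hS : S = Finset.univ.erase i := by
        rw [← compl_compl S, hi, Finset.compl_singleton]
      refine ⟨v i, ⟨hv.nz i, blockSign_erase hv i ▸ hS ▸ hΩ⟩, ?_⟩
      rw [blockSign_app hv, if_neg (by simp [hS])]
    · obtain ⟨v', i, hi, hadm, hR⟩ := exists_adm_block hg hv h2
      refine ⟨v' i, hadm, ?_⟩
      rw [(hR.2.2 i hi).eq_sum hv, map_sum]
      refine Finset.sum_congr rfl fun j hj => ?_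
      rw [map_smul, blockSign_app hv, if_neg (Finset.mem_compl.1 hj)]

end

variable {k : ℕ} {q1 : QuadraticForm F (Fin k → F)}

theorem sdim_nr (hg : IsGood q1) {x : Fin k → F} (hx : q1 x ≠ 0) : sdim (nr q1 x) = 2 - (k : ℤ) := by
  obtain ⟨v₀, hv₀⟩ := exists_frame hg.nd hg.two
  obtain ⟨v, i, -, rfl, hR⟩ := refr_vec hv₀ Finset.univ (fun j hj => absurd (Finset.mem_univ j) hj) hx
  rw [nr, ← blockSign_erase hR.1, sdim_blockSign hg hR.1, Finset.card_erase_of_mem (Finset.mem_univ i),
    Finset.card_univ, Fintype.card_fin]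
  have := three_le hg
  omega

/-- The signature after multiplying with the involution of an eigenvector. -/
theorem sdim_mul_nr (hg : IsGood q1) {A : O q1} (hA : A * A = 1) {x : Fin k → F} (hx : q1 x ≠ 0) :
    (app A x = x → sdim (A * nr q1 x) = 2 - sdim A) ∧ (app A x = -x → sdim (A * nr q1 x) = -2 - sdim A) := by
  obtain ⟨v₀, hv₀⟩ := exists_frame hg.nd hg.two
  obtain ⟨v, i, -, rfl, hR⟩ := refr_vec hv₀ Finset.univ (fun j hj => absurd (Finset.mem_univ j) hj) hx
  suffices H : ∀ e : F, (e = 1 ∨ e = -1) → app A (v i) = e • v i →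
      ∃ (v' : Fin k → Fin k → F) (U : Finset (Fin k)), IsFrame q1 v' ∧ v' i = v i ∧ A = blockSign q1 v' U ∧
        sdim (A * nr q1 (v i)) = if i ∈ U then -2 - sdim A else 2 - sdim A by
    constructor
    · intro h
      obtain ⟨v', U, hv', hi, hU, e⟩ := H 1 (Or.inl rfl) (by rw [h, one_smul])
      have hiU : i ∉ U := fun hiU => by
        have h' := blockSign_app hv' U i
        rw [if_pos hiU, hi, ← hU, h] at h'
        have h2 : (2 : F) • v i = 0 := by linear_combination (norm := module) h'
        exact hR.1.li.ne_zero i ((smul_eq_zero.1 h2).resolve_left hg.two)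
      rwa [if_neg hiU] at e
    · intro h
      obtain ⟨v', U, hv', hi, hU, e⟩ := H (-1) (Or.inr rfl) (by rw [h, neg_one_smul])
      have hiU : i ∈ U := by
        by_contra hiU
        have h' := blockSign_app hv' U i
        rw [if_neg hiU, hi, ← hU, h] at h'
        have h2 : (2 : F) • v i = 0 := by linear_combination (norm := module) -h'
        exact hR.1.li.ne_zero i ((smul_eq_zero.1 h2).resolve_left hg.two)
      rwa [if_pos hiU] at e
  intro e he hAe
  obtain ⟨v', hR', hs⟩ := exists_eigen_refr hR.1 hA (Finset.univ.erase i) fun j hj => by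
    obtain rfl : j = i := by simpa using hj
    rcases he with rfl | rfl
    · exact Or.inl (by rw [hAe, one_smul])
    · exact Or.inr (by rw [hAe, neg_one_smul])
  have hv' := hR'.1
  have hi : v' i = v i := hR'.2.1 i (Finset.notMem_erase i _)
  classical
  set U := Finset.univ.filter fun j => app A (v' j) = -v' j with hU
  have hAU : A = blockSign q1 v' U := hv'.ext_O fun j => by
    rw [blockSign_app hv']
    simp only [hU, Finset.mem_filter, Finset.mem_univ, true_and]
    split_ifs with h
    · exact h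
    · exact (hs j).resolve_right h
  refine ⟨v', U, hv', hi, hAU, ?_⟩
  set W := if i ∈ U then Uᶜ ∪ {i} else Uᶜ.erase i with hW
  have hprod : A * nr q1 (v i) = blockSign q1 v' W := hv'.ext_O fun j => by
    rw [hAU, app_mul, blockSign_app hv']
    by_cases hji : j = i
    · subst hji
      rw [hi, nr_self hx, ← hi, blockSign_app hv']
      by_cases hiU : j ∈ U <;> simp [hW, hiU]
    · rw [nr_ortho (hi ▸ hv'.orth j i hji), map_neg, blockSign_app hv']
      by_cases hiU : i ∈ U <;> by_cases hjU : j ∈ U <;> simp [hW, hiU, hjU, hji]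
  rw [hprod, sdim_blockSign hg hv', hAU, sdim_blockSign hg hv']
  have hUk : U.card ≤ k := by simpa using U.card_le_univ
  by_cases hiU : i ∈ U
  · rw [if_pos hiU, hW, if_pos hiU, Finset.card_union_of_disjoint (by simp [hiU]), Finset.card_compl,
      Fintype.card_fin, Finset.card_singleton]
    omega
  · rw [if_neg hiU, hW, if_neg hiU, Finset.card_erase_of_mem (Finset.mem_compl.2 hiU), Finset.card_compl,
      Fintype.card_fin]
    have : U.card < k := by simpa using Finset.card_lt_univ_of_notMem hiU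
    omega

theorem sdim_nr_pair (hg : IsGood q1) {x y : Fin k → F} (hx : q1 x ≠ 0) (hy : q1 y ≠ 0)
    (hxy : polar q1 x y = 0) : sdim (nr q1 y * nr q1 x) = (k : ℤ) - 4 := by
  rw [(sdim_mul_nr hg (nr_invol y) hx).2 (nr_ortho hxy), sdim_nr hg hy]
  ring

/-- Commuting involutions of vectors. -/
theorem nr_comm_cases (hg : IsGood q1) {x v : Fin k → F} (hv : q1 v ≠ 0) (hx : q1 x ≠ 0)
    (h : nr q1 v * nr q1 x = nr q1 x * nr q1 v) : polar q1 x v = 0 ∨ nr q1 v = nr q1 x := by
  by_cases h0 : polar q1 x v = 0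
  · exact Or.inl h0
  right
  have e := congrArg (fun g => app g x) h
  simp only [app_mul, nr_self hx] at e
  set w := app (nr q1 v) x with hw
  -- `w` is fixed by the involution of `x`, so it lies on its line
  have e2 : w = ((q1 x)⁻¹ * polar q1 w x / 2) • x := by
    have h1 : app (nr q1 x) w = w := e.symm
    rw [nr, app_mul, app_negId, app_refl, neg_sub] at h1
    have h2 : (2 : F) • w = ((q1 x)⁻¹ * polar q1 w x) • x := by linear_combination (norm := module) -h1
    rw [show ((q1 x)⁻¹ * polar q1 w x / 2) = (2 : F)⁻¹ * ((q1 x)⁻¹ * polar q1 w x) by ring, ← smul_smul, ← h2,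
      smul_smul, inv_mul_cancel₀ hg.two, one_smul]
  set c := (q1 x)⁻¹ * polar q1 w x / 2
  have hwe : ((q1 v)⁻¹ * polar q1 x v) • v = (1 + c) • x := by
    have h1 : w = -(x - ((q1 v)⁻¹ * polar q1 x v) • v) := by rw [hw, nr, app_mul, app_negId, app_refl]
    rw [e2] at h1
    linear_combination (norm := module) -h1
  have ha : (q1 v)⁻¹ * polar q1 x v ≠ 0 := mul_ne_zero (inv_ne_zero hv) h0
  have hc : 1 + c ≠ 0 := fun hc0 => by
    rw [hc0, zero_smul, smul_eq_zero] at hwe
    exact hv (by rw [hwe.resolve_left ha, QuadraticMap.map_zero])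
  rw [show v = ((q1 v)⁻¹ * polar q1 x v)⁻¹ • (1 + c) • x by rw [← hwe, smul_smul, inv_mul_cancel₀ ha, one_smul],
    smul_smul, nr_smul (mul_ne_zero (inv_ne_zero ha) hc)]

variable {ι : Type} [Fintype ι] [DecidableEq ι] {q : QuadraticForm F (ι → F)}

theorem sdim_ten {a b : ℕ} (D : Data q a b) {A : O D.q1} {B : O D.q2} (hA : A * A = 1) (hB : B * B = 1) :
    sdim (D.ten (A, B)) = sdim A * sdim B := by
  obtain ⟨u, hu, S, rfl⟩ := exists_sign D.good1 hA
  obtain ⟨v, hv, S', rfl⟩ := exists_sign D.good2 hB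
  rw [sdim_blockSign D.good1 hu, sdim_blockSign D.good2 hv, sdim, D.fixdim hu hv]
  have e : Fintype.card ι = a * b := by
    have := LinearEquiv.finrank_eq D.E
    simpa [Module.finrank_fintype_fun_eq_card] using this.symm
  have h1 : S.card ≤ a := by simpa using S.card_le_univ
  have h2 : S'.card ≤ b := by simpa using S'.card_le_univ
  rw [e, Fintype.card_fin, Fintype.card_fin]
  push_cast [Nat.cast_sub h1, Nat.cast_sub h2]
  ring

namespace Pow

variable {t : ℕ}

theorem card_pow (P : Pow q q1 t) : Fintype.card ι = k ^ t := by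
  have := LinearEquiv.finrank_eq P.E
  simpa [Module.finrank_fintype_fun_eq_card] using this.symm

/-- The signature of a factorwise involution. -/
theorem sdim_ev (P : Pow q q1 t) {as : Fin t → O q1} (h : ∀ i, as i * as i = 1) :
    sdim (P.ev as) = ∏ i, sdim (as i) := by
  classical
  choose v hv S hS using fun i => exists_sign P.good1 (h i)
  have hW : IsFrame q (fun I : Fin t → Fin k => P.tv fun i => v i (I i)) := by
    refine ⟨by rw [Fintype.card_fun, Fintype.card_fin, Fintype.card_fin, P.card_pow], fun I J hIJ => ?_,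
      fun I h0 => ?_, P.good.two⟩
    · obtain ⟨i, hi⟩ := Function.ne_iff.1 hIJ
      rw [P.polar_tv]
      exact Finset.prod_eq_zero (Finset.mem_univ i) ((hv i).orth _ _ hi)
    · have e := P.polar_tv (fun i => v i (I i)) (fun i => v i (I i))
      rw [polar_self', h0, mul_zero] at e
      exact Finset.prod_ne_zero_iff.2 (fun i _ => (hv i).polar_self_ne (I i)) e.symm
  set U := Finset.univ.filter fun I : Fin t → Fin k => Odd (Finset.univ.filter fun i => I i ∈ S i).card with hU
  have htv : ∀ (I : Fin t → Fin k) (T : Finset (Fin t)),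
      P.tv (fun i => if i ∈ T then -v i (I i) else v i (I i)) = ((-1 : F) ^ T.card) • P.tv fun i => v i (I i) := by
    intro I T
    rw [tv, tv, ← map_smul]
    congr 1
    funext J
    simp only [tp, Pi.smul_apply, smul_eq_mul]
    rw [show ((-1 : F) ^ T.card) = ∏ i, if i ∈ T then (-1 : F) else 1 by
      rw [Finset.prod_ite_mem, Finset.univ_inter, Finset.prod_const], ← Finset.prod_mul_distrib]
    refine Finset.prod_congr rfl fun i _ => ?_
    split_ifs <;> simp
  have hev : P.ev as = blockSign q (fun I => P.tv fun i => v i (I i)) U := hW.ext_O fun I => by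
    rw [blockSign_app hW, ev_tv]
    set T := Finset.univ.filter fun i => I i ∈ S i with hT
    rw [show (fun i => app (as i) (v i (I i))) = fun i => if i ∈ T then -v i (I i) else v i (I i) from
      funext fun i => by rw [hS i, blockSign_app (hv i)]; simp [hT], htv]
    have hIU : I ∈ U ↔ Odd T.card := by simp [hU, hT]
    rcases Nat.even_or_odd T.card with he | ho
    · rw [if_neg (fun h => Nat.not_odd_iff_even.2 he (hIU.1 h)), he.neg_one_pow, one_smul]
    · rw [if_pos (hIU.2 ho), ho.neg_one_pow, neg_one_smul]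
  have hsum : ∀ i, sdim (as i) = ∑ j, if j ∈ S i then (-1 : ℤ) else 1 := fun i => by
    rw [hS i, sdim_blockSign P.good1 (hv i), Finset.sum_ite, Finset.sum_const, Finset.sum_const,
      Finset.filter_mem_eq_inter, Finset.univ_inter, show (Finset.univ.filter fun j => j ∉ S i) = (S i)ᶜ from
        Finset.ext fun j => by simp, Finset.card_compl, Fintype.card_fin]
    have : (S i).card ≤ k := by simpa using (S i).card_le_univ
    simp only [nsmul_eq_mul]
    push_cast [Nat.cast_sub this]
    ring
  rw [hev, sdim_blockSign P.good hW, Finset.prod_congr rfl fun i _ => hsum i, Fintype.prod_sum]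
  have hterm : ∀ I : Fin t → Fin k, (∏ i, if I i ∈ S i then (-1 : ℤ) else 1) = if I ∈ U then -1 else 1 := by
    intro I
    set T := Finset.univ.filter fun i => I i ∈ S i with hT
    have e : (∏ i, if I i ∈ S i then (-1 : ℤ) else 1) = (-1 : ℤ) ^ T.card := by
      rw [Finset.prod_ite, Finset.prod_const, Finset.prod_const, one_pow, mul_one]
    rw [e]
    have hIU : I ∈ U ↔ Odd T.card := by simp [hU, hT]
    rcases Nat.even_or_odd T.card with he | ho
    · rw [if_neg (fun h => Nat.not_odd_iff_even.2 he (hIU.1 h)), he.neg_one_pow]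
    · rw [if_pos (hIU.2 ho), ho.neg_one_pow]
  rw [Finset.sum_congr rfl fun I _ => hterm I, Finset.sum_ite, Finset.sum_const, Finset.sum_const,
    Finset.filter_mem_eq_inter, Finset.univ_inter, show (Finset.univ.filter fun I => I ∉ U) = Uᶜ from
      Finset.ext fun j => by simp, Finset.card_compl, Fintype.card_fun, Fintype.card_fin, Fintype.card_fin,
    P.card_pow]
  have : U.card ≤ k ^ t := by simpa using U.card_le_univ
  simp only [nsmul_eq_mul]
  push_cast [Nat.cast_sub this]
  ring

variable (P : Pow q q1 (t + 2))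

theorem sdim_sl (l : Fin (t + 2)) {A : O q1} (hA : A * A = 1) :
    sdim (P.sl l A) = sdim A * (k : ℤ) ^ (t + 1) := by
  have h1 : (1 : O (pf q1 (t + 1))) * 1 = 1 := one_mul 1
  rw [← P.L_eq_sl, Data.L_eq_ten, sdim_ten (P.D l) (A := A) (B := (1 : O (pf q1 (t + 1)))) hA h1, sdim_one,
    Fintype.card_fin, Nat.cast_pow]

theorem sdim_sl_pair {l n : Fin (t + 2)} (h : l ≠ n) {A B : O q1} (hA : A * A = 1) (hB : B * B = 1) :
    sdim (P.sl l A * P.sl n B) = sdim A * sdim B * (k : ℤ) ^ t := by
  obtain ⟨j, rfl⟩ := Fin.exists_succAbove_eq h.symm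
  have hsl : sdim ((std P.good1 t).sl j B) = sdim B * (k : ℤ) ^ t := by
    have h1 : ∀ i, (Pi.mulSingle j B : Fin (t + 1) → O q1) i * (Pi.mulSingle j B : Fin (t + 1) → O q1) i = 1 := by
      intro i
      by_cases hi : i = j
      · subst hi; rw [Pi.mulSingle_eq_same]; exact hB
      · rw [Pi.mulSingle_eq_of_ne hi, mul_one]
    show sdim ((std P.good1 t).ev (Pi.mulSingle j B)) = _
    rw [sdim_ev _ h1, ← Finset.mul_prod_erase Finset.univ _ (Finset.mem_univ j), Pi.mulSingle_eq_same,
      Finset.prod_congr rfl fun i hi => by rw [Pi.mulSingle_eq_of_ne (Finset.mem_erase.1 hi).1, sdim_one],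
      Finset.prod_const, Finset.card_erase_of_mem (Finset.mem_univ j), Finset.card_univ, Fintype.card_fin,
      Fintype.card_fin, Nat.add_sub_cancel]
  have h2 : (std P.good1 t).sl j B * (std P.good1 t).sl j B = 1 := by rw [← map_mul, hB, map_one]
  rw [← P.R_sl, ← P.L_eq_sl, ← (P.D l).ten_eq, sdim_ten (P.D l) (A := A) (B := (std P.good1 t).sl j B) hA h2,
    hsl, mul_assoc]

theorem sdim_sl_triple {l m n : Fin (t + 2)} (hlm : l ≠ m) (hln : l ≠ n) (hmn : m ≠ n) {A B C : O q1}
    (hA : A * A = 1) (hB : B * B = 1) (hC : C * C = 1) :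
    (k : ℤ) * sdim (P.sl l A * P.sl m B * P.sl n C) = sdim A * sdim B * sdim C * (k : ℤ) ^ t := by
  have e : P.sl l A * P.sl m B * P.sl n C = P.ev (Pi.mulSingle l A * Pi.mulSingle m B * Pi.mulSingle n C) := by
    simp [sl, map_mul]
  rw [e, P.sdim_ev (fun i => by
    by_cases h1 : i = l
    · subst h1; simpa [hlm, hln] using hA
    · by_cases h2 : i = m
      · subst h2; simpa [hlm.symm, hmn] using hB
      · by_cases h3 : i = n
        · subst h3; simpa [hln.symm, hmn.symm] using hC
        · simp [h1, h2, h3]),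
    ← Finset.mul_prod_erase Finset.univ _ (Finset.mem_univ l),
    ← Finset.mul_prod_erase _ _ (Finset.mem_erase.2 ⟨hlm.symm, Finset.mem_univ m⟩),
    ← Finset.mul_prod_erase _ _ (Finset.mem_erase.2 ⟨hmn.symm, Finset.mem_erase.2 ⟨hln.symm, Finset.mem_univ n⟩⟩),
    Finset.prod_congr rfl fun i hi => by
      simp only [Finset.mem_erase, Finset.mem_univ, and_true] at hi
      rw [show (Pi.mulSingle l A * Pi.mulSingle m B * Pi.mulSingle n C : Fin (t + 2) → O q1) i = 1 by
        simp [hi.1, hi.2.1, hi.2.2], sdim_one],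
    Finset.prod_const, Finset.card_erase_of_mem (Finset.mem_erase.2 ⟨hmn.symm, Finset.mem_erase.2 ⟨hln.symm,
      Finset.mem_univ n⟩⟩), Finset.card_erase_of_mem (Finset.mem_erase.2 ⟨hlm.symm, Finset.mem_univ m⟩),
    Finset.card_erase_of_mem (Finset.mem_univ l), Finset.card_univ, Fintype.card_fin, Fintype.card_fin]
  obtain ⟨t', ht⟩ : ∃ t', t = t' + 1 := Nat.exists_eq_succ_of_ne_zero fun h0 => by
    subst h0
    exact Fin.val_injective.ne hlm (by
      have := Fin.val_injective.ne hlm; have := Fin.val_injective.ne hln; have := Fin.val_injective.ne hmn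
      omega)
  subst ht
  simp [hlm, hln, hmn, hlm.symm, hln.symm, hmn.symm, pow_succ]
  ring

end Pow

end CfsgLib.TensorPowOdd
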