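import Mathlib
import Cfsg.Agent.Lib.TensorPowOdd.Dims

/-!
In a proper overgroup of the monomial isometries an element conjugating the involution of a factor to a
monomial one is monomial.
-/

set_option autoImplicit false
set_option linter.unusedSectionVars false
set_option maxHeartbeats 400000

namespace CfsgLib.TensorPowOdd

open Matrix QuadraticMap CfsgLib.Orth CfsgLib.TensorOdd

variable {F : Type*} [Field F] [Fintype F] {k : ℕ} {q1 : QuadraticForm F (Fin k → F)}
variable {ι : Type} [Fintype ι] [DecidableEq ι] {q : QuadraticForm F (ι → F)} {t : ℕ}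

theorem L_R_comm {a b : ℕ} (D : Data q a b) (A : O D.q1) (B : O D.q2) : Commute (D.L A) (D.R B) := by
  show D.L A * D.R B = D.R B * D.L A
  rw [Data.L_eq_ten, Data.R_eq_ten, ← map_mul, ← map_mul]
  congr 1
  simp

namespace Pow

variable (P : Pow q q1 (t + 2))

theorem ev_eq_one {as : Fin (t + 2) → O q1} (hΩ : ∀ i, as i ∈ commutator (O q1)) (h : P.ev as = 1) : as = 1 := by
  funext l
  rw [P.ev_split l, ← (P.D l).ten_eq] at h
  exact ((P.D l).ten_eq_one h (hΩ l)).1

theorem ev_inj {as bs : Fin (t + 2) → O q1} (ha : ∀ i, as i ∈ commutator (O q1))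
    (hb : ∀ i, bs i ∈ commutator (O q1)) (h : P.ev as = P.ev bs) : as = bs := by
  have := P.ev_eq_one (as := as * bs⁻¹) (fun i => mul_mem (ha i) (inv_mem (hb i)))
    (by rw [map_mul, map_inv, h, mul_inv_cancel])
  exact mul_inv_eq_one.1 this

theorem sl_mul_eq (l : Fin (t + 2)) (A : O q1) (m : Fin (t + 2)) (B : O q1) :
    P.sl l A * P.sl m B = P.ev (Pi.mulSingle l A * Pi.mulSingle m B) := by
  simp [sl, map_mul]

/-- The products over a frame of the images of its involutions. -/
theorem frame_product {y : O q} (hy : y * y = 1) {N L : Fin (t + 2)} (hNL : N ≠ L) {f : O q1 → O q1}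
    (hf : ∀ A, y * P.sl N A * y = P.sl L (f A)) {v : Fin k → Fin k → F} (hv : IsFrame q1 v) (h : O q)
    (K : ℕ → Set (O q)) (h0 : (1 : O q) ∈ K 0) (hmul : ∀ i, ∀ a ∈ K i, ∀ b ∈ K 1, a * b ∈ K (i + 1))
    (hz : ∀ j, h⁻¹ * (P.sl N (TensorPowOdd.nr q1 (v j)) * (y * P.sl N (TensorPowOdd.nr q1 (v j)) * y)) * h ∈ K 1) :
    (1 : O q) ∈ K k := by
  classical
  set Z : O q1 → O q := fun A => h⁻¹ * (P.sl N A * (y * P.sl N A * y)) * h with hZ
  have hZmul : ∀ A B, Z (A * B) = Z A * Z B := fun A B => by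
    have hc : Commute (y * P.sl N A * y) (P.sl N B) := by rw [hf]; exact (P.sl_comm hNL.symm _ _)
    have e : y * P.sl N (A * B) * y = y * P.sl N A * y * (y * P.sl N B * y) := by
      rw [map_mul, show y * P.sl N A * y * (y * P.sl N B * y) = y * P.sl N A * (y * y) * P.sl N B * y by group,
        hy, mul_one]
      group
    simp only [hZ]
    rw [e, map_mul, show h⁻¹ * (P.sl N A * (y * P.sl N A * y)) * h * (h⁻¹ * (P.sl N B * (y * P.sl N B * y)) * h) =
      h⁻¹ * (P.sl N A * ((y * P.sl N A * y) * P.sl N B) * (y * P.sl N B * y)) * h by group, hc.eq]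
    group
  have hT : ∀ T : Finset (Fin k), Z (blockSign q1 v T * negId q1 ^ T.card) ∈ K T.card := by
    intro T
    induction T using Finset.induction_on with
    | empty =>
      rw [blockSign_empty hv, Finset.card_empty, pow_zero, mul_one]
      have : Z 1 = 1 := by simp [hZ, hy]
      rwa [this]
    | @insert j T hj ih =>
      rw [Finset.card_insert_of_notMem hj]
      have hn : Commute (negId q1 ^ T.card) (refl q1 (v j)) := (show Commute (negId q1) (refl q1 (v j)) from negId_comm _).pow_left _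
      have e : blockSign q1 v (insert j T) * negId q1 ^ (T.card + 1) =
          (blockSign q1 v T * negId q1 ^ T.card) * (TensorPowOdd.nr q1 (v j)) := by
        rw [Finset.insert_eq, Finset.union_comm, blockSign_union hv (Finset.disjoint_singleton_right.2 hj),
          blockSign_single, TensorPowOdd.nr, pow_succ]
        rw [show blockSign q1 v T * refl q1 (v j) * (negId q1 ^ T.card * negId q1) =
          blockSign q1 v T * (refl q1 (v j) * negId q1 ^ T.card) * negId q1 by group, ← hn.eq,
          show blockSign q1 v T * (negId q1 ^ T.card * refl q1 (v j)) * negId q1 =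
          blockSign q1 v T * negId q1 ^ T.card * (refl q1 (v j) * negId q1) by group, ← negId_comm]
      rw [e, hZmul]
      exact hmul _ _ ih _ (hz j)
  have h1 := hT Finset.univ
  rw [Finset.card_univ, Fintype.card_fin, blockSign_univ hv, ← pow_succ'] at h1
  obtain ⟨i, hi⟩ := P.good1.odd
  rw [Fintype.card_fin] at hi
  have e : negId q1 ^ (k + 1) = 1 := by
    rw [show k + 1 = 2 * (i + 1) by omega, pow_mul, pow_two, negId_mul_self, one_pow]
  rw [e] at h1
  simpa [hZ, hy] using h1

/-- The elements acting on the factor `l` by a power of `-r`. -/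
def powSet (l : Fin (t + 2)) (x : Fin k → F) (i : ℕ) : Set (O q) :=
  {w | ∃ η, w = (P.D l).L (TensorPowOdd.nr q1 x ^ i) * (P.D l).R η}

variable {P} {H : Subgroup (O q)}

/-- Mapping the involution of one factor into a factor. -/
theorem Over.mon_of_sl (hO : P.Over H) {h : O q} (hh : h ∈ H) {l n : Fin (t + 2)} {x : Fin k → F} (hx : Adm q1 x)
    {B : O q1} (hc : h * P.sl l (TensorPowOdd.nr q1 x) * h⁻¹ = P.sl n B) : h ∈ P.Mon := by
  by_cases hnl : n = l
  · subst hnl
    obtain ⟨x', hx', hm⟩ := P.maps_of_conj hx.1 hc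
    exact hO.step'_univ (hO.small _) hh hx hx' hm
  obtain ⟨u, hu⟩ := exists_frame P.good1.nd P.good1.two
  obtain ⟨a, -, ha⟩ := P.exists_sl_mem l hu (S := Finset.univ) (by
    rw [Finset.card_univ, Fintype.card_fin]; have := three_le P.good1; omega) (P.perm (Equiv.swap l n))
  set c := P.perm (Equiv.swap l n) * P.sl l a with hcdef
  have hcM : c ∈ P.Mon := mul_mem (P.perm_mem _) (P.sl_mem _ _)
  have hcH : c ∈ H := hO.G_le (Subgroup.mem_inf.2 ⟨hcM, ha⟩)
  have h2 : c * P.sl n B * c⁻¹ = P.sl l B := by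
    have e := P.conj_sl (Equiv.swap l n) 1 l B
    rw [map_one, one_mul, Equiv.swap_apply_left, Pi.one_apply, one_mul, inv_one, mul_one] at e
    have hc' : Commute (P.sl l a) (P.sl n B) := P.sl_comm (Ne.symm hnl) _ _
    rw [← e, hcdef, _root_.mul_inv_rev, show P.perm (Equiv.swap l n) * P.sl l a * P.sl n B *
      ((P.sl l a)⁻¹ * (P.perm (Equiv.swap l n))⁻¹) = P.perm (Equiv.swap l n) * (P.sl l a * P.sl n B) *
      (P.sl l a)⁻¹ * (P.perm (Equiv.swap l n))⁻¹ by group, hc'.eq]
    group
  obtain ⟨x', hx', hm⟩ := P.maps_of_conj hx.1 (g := c * h) (B := B) (by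
    rw [← h2, ← hc]; group)
  exact (P.Mon.mul_mem_cancel_left hcM).1 (hO.step'_univ (hO.small _) (H.mul_mem hcH hh) hx hx' hm)

/-- The centraliser of the involution of an admissible vector. -/
theorem Over.cent_single (hO : P.Over H) {g : O q} (hg : g ∈ H) {l : Fin (t + 2)} {x : Fin k → F} (hx : Adm q1 x)
    (hc : Commute g (P.sl l (TensorPowOdd.nr q1 x))) : g ∈ P.Mon :=
  hO.mon_of_sl hg hx (B := TensorPowOdd.nr q1 x) (by rw [hc.eq, mul_inv_cancel_right])

/-- Fusion: only monomial elements conjugate the involution of a factor into the monomial group. -/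
theorem Over.fusion (hO : P.Over H) {h : O q} (hh : h ∈ H) {l : Fin (t + 2)} {x : Fin k → F} (hx : Adm q1 x)
    (hy : h * P.sl l (TensorPowOdd.nr q1 x) * h⁻¹ ∈ P.Mon) : h ∈ P.Mon := by
  classical
  have hk3 := three_le P.good1
  set σ := P.sl l (TensorPowOdd.nr q1 x) with hσ
  set y := h * σ * h⁻¹ with hydef
  have hy1 : y * y = 1 := by
    rw [hydef, show h * σ * h⁻¹ * (h * σ * h⁻¹) = h * (σ * σ) * h⁻¹ by group, hσ, P.sl_invol, mul_one,
      mul_inv_cancel]
  have hsy : sdim y = (2 - (k : ℤ)) * (k : ℤ) ^ (t + 1) := by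
    rw [hydef, sdim_conj, hσ, P.sdim_sl l (nr_invol x), sdim_nr P.good1 hx.1]
  obtain ⟨τ, as, hyas⟩ := hy
  by_cases hτ : ∃ l', τ l' = l' ∧ ¬ IsScalar (as l')
  · obtain ⟨l', hfix, hns⟩ := hτ
    obtain ⟨η, -, hsplit⟩ := P.split_mon as hfix
    rw [← hyas] at hsplit
    have h1 := hy1
    rw [hsplit, ← (P.D l').ten_eq] at h1
    obtain ⟨hA2, hη2⟩ := (P.D l').ten_invol h1
    have hs := hsy
    rw [hsplit, ← (P.D l').ten_eq, sdim_ten (P.D l') (A := as l') (B := η) hA2 hη2] at hs
    obtain ⟨hA0, hA⟩ := sdim_ne_zero_or P.good1 hA2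
    have hA' : |sdim (as l')| ≤ (k : ℤ) - 2 := by
      rcases hA with hA | ⟨hA, -⟩
      · simpa using hA
      · rcases hA with e | e <;> rw [e] at hns
        · exact absurd ⟨1, fun z => by rw [app_one, one_smul]⟩ hns
        · exact absurd ⟨-1, fun z => by rw [app_negId, neg_one_smul]⟩ hns
    obtain ⟨-, hη⟩ := sdim_ne_zero_or (P.D l').good2 hη2
    rw [Fintype.card_fin] at hη
    rcases hη with hη | ⟨hη, -⟩
    · exfalso
      have h2 := congrArg (|·|) hs
      simp only [abs_mul, abs_pow, Nat.abs_cast] at h2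
      rw [abs_of_nonpos (show (2 - (k : ℤ)) ≤ 0 by omega)] at h2
      push_cast at hη
      have hpos : (0 : ℤ) < (k : ℤ) ^ (t + 1) := pow_pos (by omega) _
      have := mul_le_mul hA' hη (abs_nonneg _) (by omega)
      nlinarith
    rcases hη with rfl | rfl
    · exact hO.mon_of_sl hh hx (n := l') (B := as l') (by rw [← hydef, hsplit, map_one, mul_one, P.L_eq_sl])
    · exact hO.mon_of_sl hh hx (n := l') (B := as l' * negId q1) (by
        rw [← hydef, hsplit, (P.D l').R_negId, map_mul, P.sl_negId, P.L_eq_sl])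
  push Not at hτ
  by_cases hτ1 : τ = 1
  · exfalso
    subst hτ1
    rw [perm_one, mul_one] at hyas
    have hσ1 : σ ≠ 1 := fun e => nr_not_scalar P.good1 hx.1
      ⟨1, fun z => by rw [P.sl_injective l (e.trans (map_one _).symm), app_one, one_smul]⟩
    rcases P.ev_scalar (fun i => hτ i rfl) with e | e <;> rw [e] at hyas
    · refine hσ1 ?_
      calc σ = h⁻¹ * y * h := by rw [hydef]; group
        _ = 1 := by rw [hyas]; group
    · refine nr_not_scalar P.good1 hx.1 ⟨-1, fun z => ?_⟩
      have hσn : P.sl l (TensorPowOdd.nr q1 x) = P.sl l (negId q1) := by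
        rw [P.sl_negId, ← hσ]
        calc σ = h⁻¹ * y * h := by rw [hydef]; group
          _ = negId q := by rw [hyas, ← negId_comm h⁻¹, mul_assoc, inv_mul_cancel, mul_one]
      rw [P.sl_injective l hσn, app_negId, neg_one_smul]
  -- a moved factor
  exfalso
  obtain ⟨L, hL⟩ : ∃ L, τ L ≠ L := by
    by_contra hno
    push Not at hno
    exact hτ1 (Equiv.ext fun i => hno i)
  set N := τ L with hN
  set f : O q1 → O q1 := fun A => as L * A * (as L)⁻¹ with hfdef
  have hf : ∀ A, y * P.sl N A * y = P.sl L (f A) := fun A => by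
    conv_lhs => arg 2; rw [← inv_eq_of_mul_eq_one_right hy1]
    rw [hyas]
    exact P.conj_sl τ as L A
  obtain ⟨v, hv, hadm⟩ := exists_adm_frame P.good1
  have hyH : y ∈ H := H.mul_mem (H.mul_mem hh (hO.nr_H l hx)) (H.inv_mem hh)
  have hK : ∀ j, h⁻¹ * (P.sl N (TensorPowOdd.nr q1 (v j)) * (y * P.sl N (TensorPowOdd.nr q1 (v j)) * y)) * h ∈
      powSet P l x 1 := by
    intro j
    set s := P.sl N (TensorPowOdd.nr q1 (v j)) with hsdef
    have hs1 : s * s = 1 := P.sl_invol _ _
    set A' := app (as L) (v j) with hA'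
    have hfv : f (TensorPowOdd.nr q1 (v j)) = TensorPowOdd.nr q1 A' := nr_conj _ _
    have hysy : y * s * y = P.sl L (TensorPowOdd.nr q1 A') := by rw [hsdef, hf, hfv]
    set z := s * (y * s * y) with hzdef
    have hsc : Commute s (y * s * y) := by rw [hysy, hsdef]; exact P.sl_comm hL _ _
    have hzy : Commute z y := by
      show z * y = y * z
      have e1 : z * y = s * y * s := by
        rw [hzdef, show s * (y * s * y) * y = s * y * s * (y * y) by group, hy1, mul_one]
      have e2 : y * z = s * y * s := by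
        rw [hzdef, hsc.eq, show y * (y * s * y * s) = (y * y) * (s * y * s) by group, hy1, one_mul]
      rw [e1, e2]
    have hz1 : z * z = 1 := by
      rw [hzdef, hsc.symm.mul_mul_mul_comm, hs1, show y * s * y * (y * s * y) = y * (s * (y * y) * s) * y by group, hy1,
        mul_one, hs1, mul_one, hy1, one_mul]
    have hzH : z ∈ H := H.mul_mem (hO.nr_H N (hadm j)) (H.mul_mem (H.mul_mem hyH (hO.nr_H N (hadm j))) hyH)
    set w := h⁻¹ * z * h with hwdef
    have hwσ : Commute w σ := by
      show w * σ = σ * w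
      have e : σ = h⁻¹ * y * h := by rw [hydef]; group
      rw [hwdef, e, show h⁻¹ * z * h * (h⁻¹ * y * h) = h⁻¹ * (z * y) * h by group, hzy.eq]
      group
    have hwH : w ∈ H := H.mul_mem (H.mul_mem (H.inv_mem hh) hzH) hh
    have hwM := hO.cent_single hwH hx hwσ
    obtain ⟨A, η, -, -, hw⟩ := P.mon_slice hwM (fun e => hx.1 (by rw [e, QuadraticMap.map_zero]))
      (P.maps_of_comm hx.1 hwσ.eq)
    have hw1 : w * w = 1 := by
      rw [hwdef, show h⁻¹ * z * h * (h⁻¹ * z * h) = h⁻¹ * (z * z) * h by group, hz1, mul_one, inv_mul_cancel]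
    obtain ⟨hA2, hη2⟩ := (P.D l).ten_invol (A := A) (B := η) (by rw [(P.D l).ten_eq, ← hw]; exact hw1)
    have hAx : A * TensorPowOdd.nr q1 x = TensorPowOdd.nr q1 x * A := by
      apply P.sl_injective l
      rw [map_mul, map_mul, ← hσ, ← P.L_eq_sl]
      have hc : Commute σ ((P.D l).R η) := by
        rw [hσ, ← P.L_eq_sl]
        exact L_R_comm (P.D l) _ _
      have h' := hwσ.eq
      rw [hw, mul_assoc, ← hc.eq, ← mul_assoc, ← mul_assoc] at h'
      exact mul_right_cancel h'
    have hswσ : sdim (w * σ) = (2 - (k : ℤ)) * (k : ℤ) ^ (t + 1) := by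
      have e : w * σ = (h⁻¹ * s) * y * (h⁻¹ * s)⁻¹ := by
        rw [_root_.mul_inv_rev, inv_inv, inv_eq_of_mul_eq_one_right hs1]
        have hσy : σ = h⁻¹ * y * h := by rw [hydef]; group
        rw [hwdef, hσy, show h⁻¹ * z * h * (h⁻¹ * y * h) = h⁻¹ * (z * y) * h by group, hzdef,
          show s * (y * s * y) * y = s * y * s * (y * y) by group, hy1, mul_one]
        group
      rw [e, sdim_conj, hsy]
    have hσten : w * σ = (P.D l).ten (A * TensorPowOdd.nr q1 x, η) := by
      rw [(P.D l).ten_eq, map_mul, hw, mul_assoc, hσ, ← P.L_eq_sl, mul_assoc]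
      congr 1
      exact (L_R_comm (P.D l) _ _).symm
    have hAn : A * TensorPowOdd.nr q1 x * (A * TensorPowOdd.nr q1 x) = 1 := by
      rw [show A * TensorPowOdd.nr q1 x * (A * TensorPowOdd.nr q1 x) =
        A * (TensorPowOdd.nr q1 x * A) * TensorPowOdd.nr q1 x by group, ← hAx, ← mul_assoc A A, hA2, one_mul,
        nr_invol]
    rw [hσten, sdim_ten (P.D l) (A := A * TensorPowOdd.nr q1 x) (B := η) hAn hη2] at hswσ
    have hsw : sdim w = (2 - (k : ℤ)) * (2 - (k : ℤ)) * (k : ℤ) ^ t := by
      rw [hwdef, show h⁻¹ * z * h = h⁻¹ * z * h⁻¹⁻¹ by rw [inv_inv], sdim_conj, hzdef, hysy, hsdef,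
        P.sdim_sl_pair hL (nr_invol _) (nr_invol _), sdim_nr P.good1 (hadm j).1,
        sdim_nr P.good1 (adm_app _ (hadm j)).1]
    rw [hw, ← (P.D l).ten_eq, sdim_ten (P.D l) (A := A) (B := η) hA2 hη2] at hsw
    obtain ⟨hη0, -⟩ := sdim_ne_zero_or (P.D l).good2 hη2
    have hpos : (k : ℤ) ^ t ≠ 0 := pow_ne_zero _ (by omega)
    -- the eigenvalue at `x`
    obtain ⟨e, hee, hAe⟩ : ∃ e : F, (e = 1 ∨ e = -1) ∧ app A x = e • x := by
      have h1 : app (refl q1 x) (app A x) = -app A x := by
        have h2 : app A (app (TensorPowOdd.nr q1 x) x) = app (TensorPowOdd.nr q1 x) (app A x) := by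
          rw [← app_mul, ← app_mul, hAx]
        rw [nr_self hx.1, TensorPowOdd.nr, app_mul, app_negId] at h2
        conv_rhs => rw [h2]
        rw [neg_neg]
      rw [app_refl] at h1
      set c := (q1 x)⁻¹ * polar q1 (app A x) x / 2
      have h3 : app A x = c • x := by
        have h2 : (2 : F) • app A x = ((q1 x)⁻¹ * polar q1 (app A x) x) • x := by
          linear_combination (norm := module) h1
        rw [show c = (2 : F)⁻¹ * ((q1 x)⁻¹ * polar q1 (app A x) x) by simp only [c]; ring, ← smul_smul, ← h2,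
          smul_smul, inv_mul_cancel₀ P.good1.two, one_smul]
      refine ⟨c, mul_self_eq_one_iff.1 ?_, h3⟩
      have hQ := Q_app A x
      rw [h3, QuadraticMap.map_smul, smul_eq_mul] at hQ
      exact mul_right_cancel₀ hx.1 (hQ.trans (one_mul _).symm)
    obtain ⟨hm1, hm2⟩ := sdim_mul_nr P.good1 hA2 hx.1
    replace hswσ : sdim (A * TensorPowOdd.nr q1 x) * sdim η = (2 - (k : ℤ)) * ((k : ℤ) ^ t * k) :=
      hswσ.trans (by rw [pow_succ])
    rcases hee with rfl | rfl
    · rw [hm1 (by rw [hAe, one_smul])] at hswσ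
      have h2η : sdim η = (2 - (k : ℤ)) * (k : ℤ) ^ t := by linarith
      rw [h2η] at hsw
      have hsA : sdim A = 2 - (k : ℤ) := mul_right_cancel₀ (mul_ne_zero (show (2 - (k : ℤ)) ≠ 0 by omega) hpos)
        (by linear_combination hsw)
      have hAnr : A * TensorPowOdd.nr q1 x = 1 := by
        obtain ⟨-, h⟩ := sdim_ne_zero_or P.good1 hAn
        have e1 : sdim (A * TensorPowOdd.nr q1 x) = k := by rw [hm1 (by rw [hAe, one_smul]), hsA]; ring
        rw [e1, Fintype.card_fin] at h
        rcases h with h | ⟨h | h, -⟩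
        · simp only [Nat.abs_cast] at h; omega
        · exact h
        · exfalso
          have e2 := congrArg (fun g => app g x) h
          simp only [app_mul, nr_self hx.1, hAe, one_smul, app_negId] at e2
          have h3 : (2 : F) • x = 0 := by linear_combination (norm := module) e2
          exact hx.1 (by rw [(smul_eq_zero.1 h3).resolve_left P.good1.two, QuadraticMap.map_zero])
      rw [mul_eq_one_iff_eq_inv, nr_inv] at hAnr
      exact ⟨η, by rw [← hwdef] at *; rw [hw, hAnr, pow_one]⟩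
    · rw [hm2 (by rw [hAe, neg_one_smul])] at hswσ
      have h2η : sdim η = ((k : ℤ) - 2) * (k : ℤ) ^ t := by linarith
      rw [h2η] at hsw
      have hsA : sdim A = (k : ℤ) - 2 := mul_right_cancel₀ (mul_ne_zero (show ((k : ℤ) - 2) ≠ 0 by omega) hpos)
        (by linear_combination hsw)
      have hAnr : A * TensorPowOdd.nr q1 x = negId q1 := by
        obtain ⟨-, h⟩ := sdim_ne_zero_or P.good1 hAn
        have e1 : sdim (A * TensorPowOdd.nr q1 x) = -(k : ℤ) := by
          rw [hm2 (by rw [hAe, neg_one_smul]), hsA]; ring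
        rw [e1, Fintype.card_fin] at h
        rcases h with h | ⟨h | h, -⟩
        · simp only [abs_neg, Nat.abs_cast] at h; omega
        · exfalso
          have e2 := congrArg (fun g => app g x) h
          simp only [app_mul, nr_self hx.1, hAe, neg_one_smul, app_one] at e2
          have h3 : (2 : F) • x = 0 := by linear_combination (norm := module) -e2
          exact hx.1 (by rw [(smul_eq_zero.1 h3).resolve_left P.good1.two, QuadraticMap.map_zero])
        · exact h
      refine ⟨negId (pf q1 (t + 1)) * η, ?_⟩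
      rw [hw, pow_one, map_mul, (P.D l).R_negId, ← mul_assoc]
      congr 1
      rw [show A = negId q1 * TensorPowOdd.nr q1 x by rw [← hAnr, mul_assoc, nr_invol, mul_one], map_mul,
        (P.D l).L_negId, negId_comm]
  have hK0 : (1 : O q) ∈ powSet P l x 0 := ⟨1, by rw [pow_zero, map_one, map_one, one_mul]⟩
  have hKmul : ∀ i, ∀ a ∈ powSet P l x i, ∀ b ∈ powSet P l x 1, a * b ∈ powSet P l x (i + 1) := by
    rintro i a ⟨η, rfl⟩ b ⟨η', rfl⟩
    refine ⟨η * η', ?_⟩
    rw [pow_succ (TensorPowOdd.nr q1 x) i, pow_one, map_mul, map_mul]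
    have hc : Commute ((P.D l).R η) ((P.D l).L (TensorPowOdd.nr q1 x)) := (L_R_comm (P.D l) _ _).symm
    exact hc.mul_mul_mul_comm _ _
  obtain ⟨η, hη⟩ := P.frame_product hy1 hL hf hv h _ hK0 hKmul hK
  obtain ⟨i, hi⟩ := P.good1.odd
  rw [Fintype.card_fin] at hi
  have hpk : ∀ n, n = 2 * i + 1 → TensorPowOdd.nr q1 x ^ n = TensorPowOdd.nr q1 x := by
    rintro n rfl
    rw [pow_succ, pow_mul, pow_two, nr_invol, one_pow, one_mul]
  rw [hpk k hi, ← (P.D l).ten_eq] at hη
  exact nr_not_scalar P.good1 hx.1 ⟨1, fun z => by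
    rw [((P.D l).ten_eq_one hη.symm hx.2).1, app_one, one_smul]⟩

end Pow

end CfsgLib.TensorPowOdd
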