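import Mathlib
import Cfsg.Agent.Lib.TensorPowOdd.Fusion

/-!
The proper overgroups of the monomial isometries in the derived group are monomial.
-/

set_option autoImplicit false
set_option linter.unusedSectionVars false
set_option maxHeartbeats 400000

namespace CfsgLib.TensorPowOdd

open Matrix QuadraticMap CfsgLib.Orth CfsgLib.TensorOdd

variable {F : Type*} [Field F] [Fintype F] {k : ℕ} {q1 : QuadraticForm F (Fin k → F)}
variable {ι : Type} [Fintype ι] [DecidableEq ι] {q : QuadraticForm F (ι → F)} {t : ℕ}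

namespace Pow

variable {P : Pow q q1 (t + 2)} {H : Subgroup (O q)}

/-- An element conjugating the involution of a factor to a monomial one gives such an involution. -/
theorem Over.single_of_conj (hO : P.Over H) {h : O q} (hh : h ∈ H) {l : Fin (t + 2)} {x : Fin k → F}
    (hx : Adm q1 x) (hy : h * P.sl l (TensorPowOdd.nr q1 x) * h⁻¹ ∈ P.Mon) :
    ∃ n v, Adm q1 v ∧ h * P.sl l (TensorPowOdd.nr q1 x) * h⁻¹ = P.sl n (TensorPowOdd.nr q1 v) := by
  obtain ⟨τ, as, rfl⟩ := hO.fusion hh hx hy
  refine ⟨τ⁻¹ l, app (as (τ⁻¹ l)) x, adm_app _ hx, ?_⟩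
  have e := P.conj_sl τ as (τ⁻¹ l) (TensorPowOdd.nr q1 x)
  rwa [show τ (τ⁻¹ l) = l from τ.apply_symm_apply l, nr_conj] at e

/-- The centraliser of an involution of one factor. -/
theorem Over.cent_slot (hO : P.Over H) {g : O q} (hg : g ∈ H) {l : Fin (t + 2)} {A : O q1} (hA : A * A = 1)
    (h1 : A ≠ 1) (hn : A ≠ negId q1) (hc : Commute g (P.sl l A)) : g ∈ P.Mon := by
  obtain ⟨u, hu, U, rfl⟩ := exists_sign P.good1 hA
  have hk := three_le P.good1
  have hpos : 0 < U.card := Finset.card_pos.2 (Finset.nonempty_iff_ne_empty.2 fun e => h1 (by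
    rw [e, blockSign_empty hu]))
  have hlt : U.card < k := lt_of_le_of_ne (by simpa using U.card_le_univ) fun e => hn (by
    rw [Finset.eq_univ_of_card U (by simpa using e), blockSign_univ hu])
  obtain ⟨V, hV2, hVk, hcV⟩ : ∃ V : Finset (Fin k), 2 ≤ V.card ∧ V.card < k ∧
      Commute g (P.sl l (blockSign q1 u V)) := by
    rcases Nat.lt_or_ge U.card 2 with h | h
    · refine ⟨Uᶜ, by rw [Finset.card_compl, Fintype.card_fin]; omega,
        by rw [Finset.card_compl, Fintype.card_fin]; omega, ?_⟩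
      have e : blockSign q1 u Uᶜ = negId q1 * blockSign q1 u U := by
        rw [← blockSign_univ hu, ← Finset.union_compl U, blockSign_union hu disjoint_compl_right, mul_assoc,
          show blockSign q1 u Uᶜ * blockSign q1 u U = blockSign q1 u U * blockSign q1 u Uᶜ by
            rw [← blockSign_union hu disjoint_compl_left, Finset.union_comm, blockSign_union hu disjoint_compl_right],
          ← mul_assoc, blockSign_mul_self hu, one_mul]
      rw [e, map_mul, P.sl_negId]
      exact (show Commute g (negId q) from (negId_comm g).symm).mul_right hc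
    · exact ⟨U, h, hlt, hc⟩
  obtain ⟨u', i, hi, hadm, hR⟩ := exists_adm_block P.good1 hu hV2
  obtain ⟨B, hB⟩ := split hO (hO.small V.card) hu le_rfl hVk hg hcV.eq hadm (hR.2.2 i hi)
  exact hO.mon_of_sl hg hadm hB

/-- The centraliser of the product of two involutions of different factors. -/
theorem Over.cent_double (hO : P.Over H) {g : O q} (hg : g ∈ H) {l m : Fin (t + 2)} (hlm : l ≠ m)
    {x y : Fin k → F} (hx : Adm q1 x) (hy : Adm q1 y)
    (hc : Commute g (P.sl l (TensorPowOdd.nr q1 x) * P.sl m (TensorPowOdd.nr q1 y))) : g ∈ P.Mon := by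
  classical
  have hk := three_le P.good1
  set z := P.sl l (TensorPowOdd.nr q1 x) * P.sl m (TensorPowOdd.nr q1 y) with hz
  obtain ⟨v, i, hv, hvi, hadm⟩ := exists_adm_frame_at P.good1 hy
  obtain ⟨j, hj⟩ := @_root_.exists_ne _ (Fin.nontrivial_iff_two_le.2 (by omega)) i
  set y' := v j with hy'
  have hyy : polar q1 y y' = 0 := hvi ▸ hv.orth i j hj.symm
  set d := P.sl l (TensorPowOdd.nr q1 x) with hd
  set s := P.sl m (TensorPowOdd.nr q1 y') with hs
  set C : Subgroup (O q) := H ⊓ Subgroup.centralizer {z} with hC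
  have hmemC : ∀ c, c ∈ C ↔ c ∈ H ∧ Commute c z := fun c => by
    rw [hC, Subgroup.mem_inf, Subgroup.mem_centralizer_singleton_iff]
    exact ⟨fun h => ⟨h.1, h.2⟩, fun h => ⟨h.1, h.2⟩⟩
  have hdz : Commute d z := (Commute.refl d).mul_right (P.sl_comm hlm _ _)
  have hsz : Commute s z :=
    (show Commute s d from P.sl_comm hlm.symm _ _).mul_right
      ((show Commute (TensorPowOdd.nr q1 y') (TensorPowOdd.nr q1 y) from nr_comm (by
        rw [polar_comm]; exact hyy)).map (P.sl m))
  set e := g * s * g⁻¹ with he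
  have he1 : e * e = 1 := by
    rw [he, show g * s * g⁻¹ * (g * s * g⁻¹) = g * (s * s) * g⁻¹ by group, hs, P.sl_invol, mul_one, mul_inv_cancel]
  have heC : e ∈ C := (hmemC _).2 ⟨H.mul_mem (H.mul_mem hg (hO.nr_H m (hadm j))) (H.inv_mem hg),
    (hc.mul_left hsz).mul_left hc.inv_left⟩
  have hdC : d ∈ C := (hmemC _).2 ⟨hO.nr_H l hx, hdz⟩
  set K : ℤ := (k : ℤ) ^ t with hK
  have hK0 : K ≠ 0 := pow_ne_zero _ (by omega)
  have hsn := fun w (hw : Adm q1 w) => sdim_nr P.good1 hw.1
  have hzd : sdim (z * d) = (2 - (k : ℤ)) * k * K := by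
    have : z * d = P.sl m (TensorPowOdd.nr q1 y) := by
      rw [← hdz.eq, hz, ← mul_assoc, hd, P.sl_invol, one_mul]
    rw [this, P.sdim_sl m (nr_invol y), hsn y hy, pow_succ, hK]; ring
  have hzs : sdim (z * s) = (2 - (k : ℤ)) * ((k : ℤ) - 4) * K := by
    have : z * s = P.sl l (TensorPowOdd.nr q1 x) * P.sl m (TensorPowOdd.nr q1 y * TensorPowOdd.nr q1 y') := by
      rw [hz, map_mul, mul_assoc]
    rw [this, P.sdim_sl_pair hlm (nr_invol x) (by
      rw [show TensorPowOdd.nr q1 y * TensorPowOdd.nr q1 y' * (TensorPowOdd.nr q1 y * TensorPowOdd.nr q1 y') =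
        TensorPowOdd.nr q1 y * (TensorPowOdd.nr q1 y' * TensorPowOdd.nr q1 y) * TensorPowOdd.nr q1 y' by group,
        ← nr_comm hyy, ← mul_assoc, nr_invol, one_mul, nr_invol]), hsn x hx,
      sdim_nr_pair P.good1 (hadm j).1 hy.1 (by rw [polar_comm]; exact hyy), hK]
  have hze : sdim (z * e) = sdim (z * s) := by
    rw [← sdim_conj g (z * s), he, show g * (z * s) * g⁻¹ = (g * z) * g⁻¹ * (g * s * g⁻¹) by group, hc.eq,
      mul_inv_cancel_right]
  have hconj : ∀ c ∈ C, ∀ w, sdim (z * (c * w * c⁻¹)) = sdim (z * w) := fun c hc' w => by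
    rw [← sdim_conj c (z * w), show c * (z * w) * c⁻¹ = c * z * (w * c⁻¹) by group, ((hmemC c).1 hc').2.eq]
    group
  obtain ⟨ε, hεC, hε1, hε2, hεd, hεe, hcls, hcls'⟩ := dihedral_in C heC hdC he1 (P.sl_invol l x) fun c hc' he' => by
    have h1 := hconj c hc' e
    rw [he', hzd, hze, hzs] at h1
    have h2 : (2 - (k : ℤ)) * K * 4 = 0 := by linear_combination h1
    simp only [mul_eq_zero] at h2
    omega
  obtain ⟨hεH, hεz⟩ := (hmemC ε).1 hεC
  have hεM : ε ∈ P.Mon := hO.cent_single hεH hx hεe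
  have hdεM : d * ε ∈ P.Mon := mul_mem (P.sl_mem _ _) hεM
  obtain ⟨n, w, hw, hnw⟩ : ∃ n w, Adm q1 w ∧ d * ε = P.sl n (TensorPowOdd.nr q1 w) := by
    obtain ⟨c, hc', h | h⟩ := hcls
    · obtain ⟨n, w, hw, hnw⟩ := hO.single_of_conj (h := c * g) (H.mul_mem ((hmemC c).1 hc').1 hg) (hadm j) (l := m)
        (by rw [← h, he, hs] at hdεM; rw [_root_.mul_inv_rev]; simpa [mul_assoc] using hdεM)
      refine ⟨n, w, hw, ?_⟩
      rw [← h, he, ← hnw, hs, hy']
      group
    · obtain ⟨n, w, hw, hnw⟩ := hO.single_of_conj (h := c) ((hmemC c).1 hc').1 hx (l := l) (by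
        rw [← h] at hdεM; exact hdεM)
      exact ⟨n, w, hw, h ▸ hnw⟩
  have hεeq : ε = d * P.sl n (TensorPowOdd.nr q1 w) := by
    rw [← hnw, ← mul_assoc, hd, P.sl_invol, one_mul]
  have hdεz : Commute (P.sl n (TensorPowOdd.nr q1 w)) z := hnw ▸ hdz.mul_left hεz
  have hval : sdim (z * P.sl n (TensorPowOdd.nr q1 w)) = (2 - (k : ℤ)) * k * K ∨
      sdim (z * P.sl n (TensorPowOdd.nr q1 w)) = (2 - (k : ℤ)) * ((k : ℤ) - 4) * K := by
    rw [← hnw]
    obtain ⟨c, hc', h | h⟩ := hcls
    · right; rw [← h, hconj c hc', hze, hzs]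
    · left; rw [← h, hconj c hc', hzd]
  -- the slot of the new involution
  suffices hA : ∃ (a : Fin (t + 2)) (A : O q1), A * A = 1 ∧ A ≠ 1 ∧ A ≠ negId q1 ∧ Commute e (P.sl a A) by
    obtain ⟨a, A, hA1, hA2, hA3, hA4⟩ := hA
    exact hO.fusion hg (hadm j) (hO.cent_slot ((hmemC e).1 heC).1 hA1 hA2 hA3 hA4)
  have pairfacts : ∀ a b : Fin k → F, Adm q1 a → Adm q1 b → polar q1 b a = 0 →
      TensorPowOdd.nr q1 a * TensorPowOdd.nr q1 b * (TensorPowOdd.nr q1 a * TensorPowOdd.nr q1 b) = 1 ∧
      TensorPowOdd.nr q1 a * TensorPowOdd.nr q1 b ≠ 1 ∧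
      TensorPowOdd.nr q1 a * TensorPowOdd.nr q1 b ≠ negId q1 := by
    intro a b ha hb hab
    refine ⟨?_, ?_, ?_⟩
    · rw [show TensorPowOdd.nr q1 a * TensorPowOdd.nr q1 b * (TensorPowOdd.nr q1 a * TensorPowOdd.nr q1 b) =
        TensorPowOdd.nr q1 a * (TensorPowOdd.nr q1 b * TensorPowOdd.nr q1 a) * TensorPowOdd.nr q1 b by group,
        nr_comm hab, ← mul_assoc, nr_invol, one_mul, nr_invol]
    · intro h
      have h' := congrArg (fun g => app g b) h
      simp only [app_mul, nr_self hb.1, nr_ortho hab, app_one] at h'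
      have h3 : (2 : F) • b = 0 := by linear_combination (norm := module) -h'
      exact hb.1 (by rw [(smul_eq_zero.1 h3).resolve_left P.good1.two, QuadraticMap.map_zero])
    · intro h
      exact negId_notMem P.good1 (h ▸ mul_mem ha.2 hb.2)
  by_cases hnl : n = l
  · rw [hnl] at hdεz hεeq hval
    have hcomm : TensorPowOdd.nr q1 w * TensorPowOdd.nr q1 x = TensorPowOdd.nr q1 x * TensorPowOdd.nr q1 w := by
      apply P.sl_injective l
      rw [map_mul, map_mul, ← hd]
      have h1 : Commute (P.sl l (TensorPowOdd.nr q1 w)) (P.sl m (TensorPowOdd.nr q1 y)) := P.sl_comm hlm _ _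
      have h2 := hdεz.mul_right h1.inv_right
      rw [hz, mul_inv_cancel_right] at h2
      exact h2.eq
    rcases nr_comm_cases P.good1 hw.1 hx.1 hcomm with h0 | h0
    · obtain ⟨f1, f2, f3⟩ := pairfacts x w hx hw (by rw [polar_comm]; exact h0)
      exact ⟨l, _, f1, f2, f3, by rw [map_mul, ← hd, ← hεeq]; exact hεd.symm⟩
    · exact absurd (by rw [hεeq, h0, hd, P.sl_invol]) hε1
  by_cases hnm : n = m
  · rw [hnm] at hdεz hεeq hval
    have hcomm : TensorPowOdd.nr q1 w * TensorPowOdd.nr q1 y = TensorPowOdd.nr q1 y * TensorPowOdd.nr q1 w := by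
      apply P.sl_injective m
      rw [map_mul, map_mul]
      have h1 : Commute (P.sl m (TensorPowOdd.nr q1 w)) d := P.sl_comm hlm.symm _ _
      have h2 := h1.inv_right.mul_right hdεz
      rw [hz, inv_mul_cancel_left] at h2
      exact h2.eq
    rcases nr_comm_cases P.good1 hw.1 hy.1 hcomm with h0 | h0
    · obtain ⟨f1, f2, f3⟩ := pairfacts y w hy hw (by rw [polar_comm]; exact h0)
      have hezε : Commute e (z * ε) := ((hmemC e).1 heC).2.mul_right (show Commute e ε from hεd.symm)
      have : z * ε = P.sl m (TensorPowOdd.nr q1 y * TensorPowOdd.nr q1 w) := by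
        rw [hεeq, ← mul_assoc, ← hdz.eq, hz, ← mul_assoc, hd, P.sl_invol, one_mul, map_mul]
      exact ⟨m, _, f1, f2, f3, this ▸ hezε⟩
    · exfalso
      have hεz' : ε = z := by rw [hεeq, h0]
      obtain ⟨c, hc', h | h⟩ := hcls'
      · have h1 : sdim (e * ε) = sdim e := by rw [← h, sdim_conj]
        rw [hεz', ((hmemC e).1 heC).2.eq, hze, hzs, he, sdim_conj, hs, P.sdim_sl m (nr_invol y'), hsn y' (hadm j), pow_succ, ← hK] at h1
        have h2 : (2 - (k : ℤ)) * K * 4 = 0 := by linear_combination -h1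
        simp only [mul_eq_zero] at h2
        omega
      · have h1 : sdim (e * ε) = sdim d := by rw [← h, sdim_conj]
        rw [hεz', ((hmemC e).1 heC).2.eq, hze, hzs, hd, P.sdim_sl l (nr_invol x), hsn x hx, pow_succ, ← hK] at h1
        have h2 : (2 - (k : ℤ)) * K * 4 = 0 := by linear_combination -h1
        simp only [mul_eq_zero] at h2
        omega
  exfalso
  have h3 := P.sdim_sl_triple hlm (Ne.symm hnl) (Ne.symm hnm) (nr_invol x) (nr_invol y) (nr_invol w)
  rw [← hz, hsn x hx, hsn y hy, hsn w hw, ← hK] at h3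
  have hk2 : (2 - (k : ℤ)) ≠ 0 := by omega
  rcases hval with h | h <;> rw [h] at h3
  · have h4 : (2 - (k : ℤ)) * K * ((k : ℤ) * k - (2 - k) * (2 - k)) = 0 := by linear_combination h3
    simp only [mul_eq_zero, hk2, hK0, false_or] at h4
    nlinarith
  · have h4 : (2 - (k : ℤ)) * K * ((k : ℤ) * (k - 4) - (2 - k) * (2 - k)) = 0 := by linear_combination h3
    simp only [mul_eq_zero, hk2, hK0, false_or] at h4
    nlinarith

/-- The centraliser of a factorwise involution. -/
theorem Over.cent_diag (hO : P.Over H) {g : O q} (hg : g ∈ H) {as : Fin (t + 2) → O q1}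
    (hΩ : ∀ i, as i ∈ commutator (O q1)) (h2 : P.ev as * P.ev as = 1) (h1 : P.ev as ≠ 1)
    (hc : Commute g (P.ev as)) : g ∈ P.Mon := by
  classical
  have hk := three_le P.good1
  obtain ⟨l, hl⟩ : ∃ l, as l ≠ 1 := by
    by_contra hno
    push Not at hno
    exact h1 (by rw [show as = 1 from funext hno, map_one])
  obtain ⟨η, hη⟩ : ∃ η, η = (std P.good1 t).ev (l.removeNth as) := ⟨_, rfl⟩
  have hsplit : P.ev as = (P.D l).ten (as l, η) := by rw [(P.D l).ten_eq, hη]; exact P.ev_split l as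
  obtain ⟨hA2, hη2⟩ := (P.D l).ten_invol (A := as l) (B := η) (by rw [← hsplit]; exact h2)
  obtain ⟨⟨z₁, hz₁, hA1⟩, z₂, hz₂, hA2'⟩ := exists_adm_sides P.good1 hA2 (hΩ l) hl
  set ε := P.ev as with hε
  set r := P.sl l (TensorPowOdd.nr q1 z₁) with hr
  set d := P.sl l (TensorPowOdd.nr q1 z₂) with hd
  have hcz : ∀ w, (app (as l) w = w ∨ app (as l) w = -w) → Commute ε (P.sl l (TensorPowOdd.nr q1 w)) := by
    intro w hw
    have e : as l * TensorPowOdd.nr q1 w * (as l)⁻¹ = TensorPowOdd.nr q1 w := by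
      rw [nr_conj]
      rcases hw with h | h <;> rw [h]
      rw [← neg_one_smul F w, nr_smul (neg_ne_zero.2 one_ne_zero)]
    show ε * P.sl l _ = P.sl l _ * ε
    rw [← mul_inv_eq_iff_eq_mul, hε]
    have h' := P.conj_sl 1 as l (TensorPowOdd.nr q1 w)
    rw [perm_one, mul_one, Equiv.Perm.one_apply, e] at h'
    exact h'
  set C : Subgroup (O q) := H ⊓ Subgroup.centralizer {ε} with hC
  have hmemC : ∀ c, c ∈ C ↔ c ∈ H ∧ Commute c ε := fun c => by
    rw [hC, Subgroup.mem_inf, Subgroup.mem_centralizer_singleton_iff]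
    exact ⟨fun h => ⟨h.1, h.2⟩, fun h => ⟨h.1, h.2⟩⟩
  have hrε := hcz z₁ (Or.inr hA1)
  have hdε := hcz z₂ (Or.inl hA2')
  set e := g * r * g⁻¹ with he
  have he1 : e * e = 1 := by
    rw [he, show g * r * g⁻¹ * (g * r * g⁻¹) = g * (r * r) * g⁻¹ by group, hr, P.sl_invol, mul_one, mul_inv_cancel]
  have heC : e ∈ C := (hmemC _).2 ⟨H.mul_mem (H.mul_mem hg (hO.nr_H l hz₁)) (H.inv_mem hg),
    (hc.mul_left hrε.symm).mul_left hc.inv_left⟩
  have hdC : d ∈ C := (hmemC _).2 ⟨hO.nr_H l hz₂, hdε.symm⟩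
  have hsd : ∀ w, sdim (ε * P.sl l (TensorPowOdd.nr q1 w)) = sdim ((P.D l).ten (as l * TensorPowOdd.nr q1 w, η)) :=
    fun w => by
      rw [hsplit, (P.D l).ten_eq, (P.D l).ten_eq, mul_assoc, ← P.L_eq_sl l (TensorPowOdd.nr q1 w),
        ← (L_R_comm (P.D l) _ _).eq, ← mul_assoc, map_mul]
  have hcm : ∀ w, (app (as l) w = w ∨ app (as l) w = -w) →
      as l * TensorPowOdd.nr q1 w * (as l * TensorPowOdd.nr q1 w) = 1 := fun w hw => by
    have e : as l * TensorPowOdd.nr q1 w = TensorPowOdd.nr q1 w * as l := by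
      rw [← mul_inv_eq_iff_eq_mul, nr_conj]
      rcases hw with h | h <;> rw [h]
      rw [← neg_one_smul F w, nr_smul (neg_ne_zero.2 one_ne_zero)]
    nth_rw 2 [e]
    rw [show as l * TensorPowOdd.nr q1 w * (TensorPowOdd.nr q1 w * as l) =
      as l * (TensorPowOdd.nr q1 w * TensorPowOdd.nr q1 w) * as l by group, nr_invol, mul_one, hA2]
  obtain ⟨ε', hε'C, hε'1, hε'2, hε'd, hε'e, hcls, -⟩ := dihedral_in C heC hdC he1 (P.sl_invol l z₂) fun c hc' he' => by
    have hsr : sdim (ε * e) = sdim (ε * r) := by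
      rw [← sdim_conj g (ε * r), he, show g * (ε * r) * g⁻¹ = (g * ε) * g⁻¹ * (g * r * g⁻¹) by group, hc.eq,
        mul_inv_cancel_right]
    have hsc : sdim (ε * d) = sdim (ε * e) := by
      rw [← sdim_conj c (ε * e), ← he', show c * (ε * e) * c⁻¹ = (c * ε) * (e * c⁻¹) by group,
        ((hmemC c).1 hc').2.eq]
      group
    rw [hsr, hr, hd, hsd, hsd, sdim_ten (P.D l) (A := as l * TensorPowOdd.nr q1 z₂) (B := η) (hcm _ (Or.inl hA2')) hη2,
      sdim_ten (P.D l) (A := as l * TensorPowOdd.nr q1 z₁) (B := η) (hcm _ (Or.inr hA1)) hη2,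
      (sdim_mul_nr P.good1 hA2 hz₂.1).1 hA2', (sdim_mul_nr P.good1 hA2 hz₁.1).2 hA1] at hsc
    obtain ⟨hη0, -⟩ := sdim_ne_zero_or (P.D l).good2 hη2
    have : (4 : ℤ) * sdim η = 0 := by linear_combination hsc
    exact hη0 (by omega)
  obtain ⟨hε'H, -⟩ := (hmemC ε').1 hε'C
  have hdε'M : d * ε' ∈ P.Mon := mul_mem (P.sl_mem _ _) (hO.cent_single hε'H hz₂ hε'e)
  obtain ⟨n, w, hw, hnw⟩ : ∃ n w, Adm q1 w ∧ d * ε' = P.sl n (TensorPowOdd.nr q1 w) := by
    obtain ⟨c, hc', h | h⟩ := hcls
    · obtain ⟨n, w, hw, hnw⟩ := hO.single_of_conj (h := c * g) (H.mul_mem ((hmemC c).1 hc').1 hg) hz₁ (l := l)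
        (by rw [← h, he, hr] at hdε'M; rw [_root_.mul_inv_rev]; simpa [mul_assoc] using hdε'M)
      refine ⟨n, w, hw, ?_⟩
      rw [← h, he, ← hnw, hr]
      group
    · obtain ⟨n, w, hw, hnw⟩ := hO.single_of_conj (h := c) ((hmemC c).1 hc').1 hz₂ (l := l) (by
        rw [← h] at hdε'M; exact hdε'M)
      exact ⟨n, w, hw, h ▸ hnw⟩
  have hε'eq : ε' = d * P.sl n (TensorPowOdd.nr q1 w) := by
    rw [← hnw, ← mul_assoc, hd, P.sl_invol, one_mul]
  have heH := ((hmemC e).1 heC).1
  have hee : Commute e ε' := hε'd.symm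
  refine hO.fusion hg (l := l) hz₁ ?_
  rw [hε'eq, hd] at hee
  by_cases hnl : n = l
  · rw [hnl, ← map_mul] at hee
    rw [hnl] at hε'eq
    refine hO.cent_slot heH ?_ ?_ ?_ hee
    · apply P.sl_injective l
      rw [map_mul, map_mul, ← hd, ← hε'eq, map_one]; exact hε'2
    · intro h
      exact hε'1 (by rw [hε'eq, hd, ← map_mul, h, map_one])
    · intro h
      exact negId_notMem P.good1 (h ▸ mul_mem hz₂.2 hw.2)
  · exact hO.cent_double heH (Ne.symm hnl) hz₂ hw hee

/-- The pairs of factors permuted by a power of their transposition. -/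
def permSet (P : Pow q q1 (t + 2)) (l m : Fin (t + 2)) (i : ℕ) : Set (O q) :=
  {w | ∃ τ as, w = P.ev as * P.perm τ ∧ τ l = (Equiv.swap l m ^ i) l ∧ τ m = (Equiv.swap l m ^ i) m}

/-- A proper overgroup is monomial. -/
theorem Over.le_Mon (hO : P.Over H) : H ≤ P.Mon := by
  classical
  intro g hg
  have hk := three_le P.good1
  obtain ⟨x, hx⟩ := exists_adm P.good1
  obtain ⟨m, hml⟩ := _root_.exists_ne (0 : Fin (t + 2))
  set l : Fin (t + 2) := 0
  have hlm : l ≠ m := hml.symm
  set σ := P.sl l (TensorPowOdd.nr q1 x) with hσ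
  set z := σ * P.sl m (TensorPowOdd.nr q1 x) with hz
  have hz1 : z * z = 1 := by
    rw [hz, (show Commute σ (P.sl m _) from P.sl_comm hlm _ _).symm.mul_mul_mul_comm, hσ, P.sl_invol, P.sl_invol,
      one_mul]
  have hzH : z ∈ H := H.mul_mem (hO.nr_H l hx) (hO.nr_H m hx)
  set b : Fin (t + 2) → O q1 := Pi.mulSingle l (TensorPowOdd.nr q1 x) * Pi.mulSingle m (TensorPowOdd.nr q1 x)
    with hbdef
  have hbz : P.ev b = z := (P.sl_mul_eq l _ m _).symm
  have hbl : b l = TensorPowOdd.nr q1 x := by simp [hbdef, hlm]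
  have hbm : b m = TensorPowOdd.nr q1 x := by simp [hbdef, hml]
  have hbo : ∀ i, i ≠ l → i ≠ m → b i = 1 := fun i h1 h2 => by simp [hbdef, h1, h2]
  have hnr1 : TensorPowOdd.nr q1 x ≠ 1 := fun h => nr_not_scalar P.good1 hx.1
    ⟨1, fun w => by rw [h, app_one, one_smul]⟩
  have hbΩ : ∀ i, b i ∈ commutator (O q1) := fun i => by
    by_cases h1 : i = l
    · rw [h1, hbl]; exact hx.2
    by_cases h2 : i = m
    · rw [h2, hbm]; exact hx.2
    rw [hbo i h1 h2]; exact one_mem _
  set e := g * σ * g⁻¹ with he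
  have he1 : e * e = 1 := by
    rw [he, show g * σ * g⁻¹ * (g * σ * g⁻¹) = g * (σ * σ) * g⁻¹ by group, hσ, P.sl_invol, mul_one, mul_inv_cancel]
  have heH : e ∈ H := H.mul_mem (H.mul_mem hg (hO.nr_H l hx)) (H.inv_mem hg)
  have hsz : sdim z = (2 - (k : ℤ)) * (2 - (k : ℤ)) * (k : ℤ) ^ t := by
    rw [hz, hσ, P.sdim_sl_pair hlm (nr_invol x) (nr_invol x), sdim_nr P.good1 hx.1]
  obtain ⟨ε, hεH, hε1, hε2, hεe, hεz, hcls, -⟩ := dihedral_in H heH hzH he1 hz1 fun c _ h => by
    have h1 := congrArg sdim h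
    rw [sdim_conj, he, sdim_conj, hσ, P.sdim_sl l (nr_invol x), sdim_nr P.good1 hx.1, hsz, pow_succ] at h1
    have h2 : (2 - (k : ℤ)) * (k : ℤ) ^ t * (2 * k - 2) = 0 := by linear_combination h1
    simp only [mul_eq_zero, pow_eq_zero_iff'] at h2
    omega
  have hεM : ε ∈ P.Mon := hO.cent_double hεH hlm hx hx hεz
  have hεeq : ∀ u, z * ε = u → ε = z * u := fun u hu => by rw [← hu, ← mul_assoc, hz1, one_mul]
  obtain ⟨cs, hcsΩ, hεcs⟩ : ∃ cs : Fin (t + 2) → O q1, (∀ i, cs i ∈ commutator (O q1)) ∧ ε = P.ev cs := by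
    obtain ⟨c, hc, h | h⟩ := hcls
    · -- a single involution
      have hM : c * g * P.sl l (TensorPowOdd.nr q1 x) * (c * g)⁻¹ ∈ P.Mon := by
        have : c * g * P.sl l (TensorPowOdd.nr q1 x) * (c * g)⁻¹ = z * ε := by rw [← h, he, hσ]; group
        rw [this]
        exact mul_mem (mul_mem (P.sl_mem _ _) (P.sl_mem _ _)) hεM
      obtain ⟨n, w, hw, hnw⟩ := hO.single_of_conj (H.mul_mem hc hg) hx hM
      have h' : z * ε = P.sl n (TensorPowOdd.nr q1 w) := by rw [← hnw, ← h, he, hσ]; group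
      refine ⟨b * Pi.mulSingle n (TensorPowOdd.nr q1 w), fun i => mul_mem (hbΩ i) ?_, ?_⟩
      · by_cases hin : i = n
        · subst hin; rw [Pi.mulSingle_eq_same]; exact hw.2
        · rw [Pi.mulSingle_eq_of_ne hin]; exact one_mem _
      · rw [hεeq _ h', map_mul, hbz]; rfl
    · -- a conjugate of `z`
      set u := c * z * c⁻¹ with hu
      have huM : u ∈ P.Mon := h.symm ▸ mul_mem (mul_mem (P.sl_mem _ _) (P.sl_mem _ _)) hεM
      have hu1 : u * u = 1 := by
        rw [hu, show c * z * c⁻¹ * (c * z * c⁻¹) = c * (z * z) * c⁻¹ by group, hz1, mul_one, mul_inv_cancel]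
      have huz : Commute u z := by
        rw [h]
        exact (Commute.refl z).mul_left hεz
      have huH : u ∈ H := H.mul_mem (H.mul_mem hc hzH) (H.inv_mem hc)
      -- the conjugating element is monomial
      have cent : ∀ {w : O q} {a : Fin (t + 2)} {v : Fin k → F}, Adm q1 v →
          Commute (P.sl a (TensorPowOdd.nr q1 v)) (c * w * c⁻¹) →
          (∀ {g' : O q}, g' ∈ H → Commute g' w → g' ∈ P.Mon) → c ∈ P.Mon := by
        intro w a v hv hcomm hcent
        have h1 : c⁻¹ * P.sl a (TensorPowOdd.nr q1 v) * c⁻¹⁻¹ ∈ P.Mon := by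
          rw [inv_inv]
          refine hcent (H.mul_mem (H.mul_mem (H.inv_mem hc) (hO.nr_H a hv)) hc) ?_
          show c⁻¹ * P.sl a _ * c * w = w * (c⁻¹ * P.sl a _ * c)
          rw [show c⁻¹ * P.sl a (TensorPowOdd.nr q1 v) * c * w =
            c⁻¹ * (P.sl a (TensorPowOdd.nr q1 v) * (c * w * c⁻¹)) * c by group, hcomm.eq]
          group
        exact inv_mem_iff.1 (hO.fusion (H.inv_mem hc) hv h1)
      -- permutations commuting with `z` keep the pair
      have hperm : ∀ {w : O q} {τ : Equiv.Perm (Fin (t + 2))} {as : Fin (t + 2) → O q1},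
          w = P.ev as * P.perm τ → Commute w z →
          (τ l = l ∧ τ m = m) ∨ (τ l = m ∧ τ m = l) := by
        intro w τ as hw hwz
        have e1 : P.ev (fun i => as i * b (τ i) * (as i)⁻¹) = P.ev b := by
          have e2 : P.ev (fun i => as i * b (τ i) * (as i)⁻¹) = w * z * w⁻¹ := by
            rw [show (fun i => as i * b (τ i) * (as i)⁻¹) = as * (fun i => b (τ i)) * as⁻¹ from rfl, map_mul, map_mul,
              map_inv, hw, ← hbz, mul_assoc (P.ev as) (P.perm τ), P.perm_ev]
            group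
          rw [e2, hwz.eq, mul_inv_cancel_right, hbz]
        have e2 := P.ev_inj (fun i => Subgroup.Normal.conj_mem inferInstance _ (hbΩ _) _) hbΩ e1
        have key : ∀ i, b i ≠ 1 → τ i = l ∨ τ i = m := fun i hi => by
          by_contra hno
          push Not at hno
          have := congrFun e2 i
          simp only [hbo _ hno.1 hno.2, mul_one, mul_inv_cancel] at this
          exact hi this.symm
        rcases key l (by rw [hbl]; exact hnr1) with h1 | h1 <;> rcases key m (by rw [hbm]; exact hnr1) with h2 | h2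
        · exact absurd (τ.injective (h1.trans h2.symm)) hlm
        · exact Or.inl ⟨h1, h2⟩
        · exact Or.inr ⟨h1, h2⟩
        · exact absurd (τ.injective (h1.trans h2.symm)) hlm
      -- a monomial involution fixing a factor commutes with an involution of it
      have hfixed : ∀ {w : O q} {τ : Equiv.Perm (Fin (t + 2))} {as : Fin (t + 2) → O q1},
          w = P.ev as * P.perm τ → w * w = 1 → τ l = l →
          ∃ v, Adm q1 v ∧ Commute (P.sl l (TensorPowOdd.nr q1 v)) w := by
        intro w τ as hw hw1 hτl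
        obtain ⟨η, -, hsp⟩ := P.split_mon as hτl
        rw [← hw] at hsp
        obtain ⟨hA2, -⟩ := (P.D l).ten_invol (A := as l) (B := η) (by rw [(P.D l).ten_eq, ← hsp]; exact hw1)
        obtain ⟨v, hv, hev⟩ := exists_adm_eigen P.good1 hA2
        refine ⟨v, hv, ?_⟩
        have e1 : Commute (TensorPowOdd.nr q1 v) (as l) := by
          show TensorPowOdd.nr q1 v * as l = as l * TensorPowOdd.nr q1 v
          rw [eq_comm, ← mul_inv_eq_iff_eq_mul, nr_conj]
          rcases hev with h | h <;> rw [h]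
          rw [← neg_one_smul F v, nr_smul (neg_ne_zero.2 one_ne_zero)]
        rw [hsp]
        refine Commute.mul_right ?_ ?_
        · rw [P.L_eq_sl]; exact e1.map (P.sl l)
        · rw [← P.L_eq_sl]; exact L_R_comm (P.D l) _ _
      have hcM : c ∈ P.Mon := by
        obtain ⟨τ, as, hu'⟩ := huM
        rcases hperm hu' huz with ⟨h1, -⟩ | ⟨h1, -⟩
        · obtain ⟨v, hv, hvc⟩ := hfixed hu' hu1 h1
          exact cent (w := z) hv hvc fun hg' hgz => hO.cent_double hg' hlm hx hx hgz
        · -- the two factors exchanged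
          set f : O q1 → O q1 := fun A => as l * A * (as l)⁻¹ with hf
          have hfu : ∀ A, u * P.sl m A * u = P.sl l (f A) := fun A => by
            conv_lhs => arg 2; rw [← inv_eq_of_mul_eq_one_right hu1]
            rw [hu', ← h1]
            exact P.conj_sl τ as l A
          obtain ⟨v, hv, hadm⟩ := exists_adm_frame P.good1
          by_contra hcM
          have hK : ∀ j, c⁻¹ * (P.sl m (TensorPowOdd.nr q1 (v j)) * (u * P.sl m (TensorPowOdd.nr q1 (v j)) * u)) *
              c ∈ permSet P l m 1 := by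
            intro j
            set s := P.sl m (TensorPowOdd.nr q1 (v j)) with hs
            have hs1 : s * s = 1 := P.sl_invol _ _
            have hus : u * s * u = P.sl l (TensorPowOdd.nr q1 (app (as l) (v j))) := by
              rw [hs, hfu, hf]; exact congrArg _ (nr_conj _ _)
            have hss : Commute s (u * s * u) := by rw [hus, hs]; exact P.sl_comm hml _ _
            set zz := s * (u * s * u) with hzz
            have hzu : Commute zz u := by
              show zz * u = u * zz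
              rw [hzz, show s * (u * s * u) * u = s * u * s * (u * u) by group, hu1, mul_one, hss.eq,
                show u * (u * s * u * s) = (u * u) * (s * u * s) by group, hu1, one_mul]
            set w := c⁻¹ * zz * c with hw
            have hwz : Commute w z := by
              show w * z = z * w
              rw [hw, show z = c⁻¹ * u * c by rw [hu]; group,
                show c⁻¹ * zz * c * (c⁻¹ * u * c) = c⁻¹ * (zz * u) * c by group, hzu.eq]
              group
            have hwH : w ∈ H := H.mul_mem (H.mul_mem (H.inv_mem hc)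
              (H.mul_mem (hO.nr_H m (hadm j)) (H.mul_mem (H.mul_mem huH (hO.nr_H m (hadm j))) huH))) hc
            obtain ⟨τ', as', hw'⟩ := hO.cent_double hwH hlm hx hx hwz
            rcases hperm hw' hwz with ⟨h1', -⟩ | ⟨h1', h2'⟩
            · exfalso
              have hw1 : w * w = 1 := by
                rw [hw, show c⁻¹ * zz * c * (c⁻¹ * zz * c) = c⁻¹ * (zz * zz) * c by group, hzz,
                  hss.symm.mul_mul_mul_comm, hs1, show u * s * u * (u * s * u) = u * (s * (u * u) * s) * u by group,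
                  hu1, mul_one, hs1, mul_one, hu1, one_mul, mul_one, inv_mul_cancel]
              obtain ⟨v', hv', hvc⟩ := hfixed hw' hw1 h1'
              refine hcM ?_
              have hc2 : Commute (c * P.sl l (TensorPowOdd.nr q1 v') * c⁻¹) zz := by
                show c * P.sl l _ * c⁻¹ * zz = zz * (c * P.sl l _ * c⁻¹)
                rw [show c * P.sl l (TensorPowOdd.nr q1 v') * c⁻¹ * zz =
                  c * (P.sl l (TensorPowOdd.nr q1 v') * w) * c⁻¹ by rw [hw]; group, hvc.eq, hw]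
                group
              rw [hzz, hus, hs] at hc2
              exact hO.fusion hc hv' (hO.cent_double (H.mul_mem (H.mul_mem hc (hO.nr_H l hv')) (H.inv_mem hc)) hml
                (hadm j) (adm_app _ (hadm j)) hc2)
            · exact ⟨τ', as', hw', by rw [pow_one, Equiv.swap_apply_left]; exact h1',
                by rw [pow_one, Equiv.swap_apply_right]; exact h2'⟩
          have hK0 : (1 : O q) ∈ permSet P l m 0 :=
            ⟨1, 1, by rw [map_one, perm_one, mul_one], by simp, by simp⟩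
          have hKmul : ∀ i, ∀ a ∈ permSet P l m i, ∀ b ∈ permSet P l m 1, a * b ∈ permSet P l m (i + 1) := by
            rintro i a ⟨τ1, as1, rfl, h1a, h2a⟩ b' ⟨τ2, as2, rfl, h1b, h2b⟩
            refine ⟨τ2 * τ1, as1 * fun j => as2 (τ1 j), ?_, ?_, ?_⟩
            · rw [map_mul, mul_assoc (P.ev as1) (P.perm τ1), ← mul_assoc (P.perm τ1), P.perm_ev,
                mul_assoc (P.ev fun j => as2 (τ1 j)), P.perm_mul, ← mul_assoc]
            all_goals
              rw [Equiv.Perm.mul_apply]
              rw [pow_one] at h1b h2b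
              rw [pow_succ', Equiv.Perm.mul_apply]
            · rw [h1a]
              rcases Nat.even_or_odd i with ⟨r, hr⟩ | ⟨r, hr⟩
              · rw [hr, ← two_mul, pow_mul, pow_two, Equiv.swap_mul_self, one_pow, Equiv.Perm.one_apply]; exact h1b
              · rw [hr, pow_succ, pow_mul, pow_two, Equiv.swap_mul_self, one_pow, one_mul, Equiv.swap_apply_left]
                exact h2b
            · rw [h2a]
              rcases Nat.even_or_odd i with ⟨r, hr⟩ | ⟨r, hr⟩
              · rw [hr, ← two_mul, pow_mul, pow_two, Equiv.swap_mul_self, one_pow, Equiv.Perm.one_apply]; exact h2b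
              · rw [hr, pow_succ, pow_mul, pow_two, Equiv.swap_mul_self, one_pow, one_mul, Equiv.swap_apply_right]
                exact h1b
          obtain ⟨τ0, as0, h0, h0l, -⟩ := P.frame_product hu1 hml hfu hv c _ hK0 hKmul hK
          have hτ0 : τ0 = 1 := P.perm_unique (as := as0) (bs := 1) (by rw [← h0, map_one, perm_one, mul_one])
          obtain ⟨i, hi⟩ := P.good1.odd
          rw [Fintype.card_fin] at hi
          have hswap : ∀ n, n = 2 * i + 1 → Equiv.swap l m ^ n = Equiv.swap l m := by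
            rintro n rfl
            rw [pow_succ, pow_mul, pow_two, Equiv.swap_mul_self, one_pow, one_mul]
          rw [hτ0, Equiv.Perm.one_apply, hswap k hi, Equiv.swap_apply_left] at h0l
          exact hlm h0l
      obtain ⟨τc, ac, hc'⟩ := hcM
      refine ⟨b * fun i => ac i * b (τc i) * (ac i)⁻¹,
        fun i => mul_mem (hbΩ i) (Subgroup.Normal.conj_mem inferInstance _ (hbΩ _) _), ?_⟩
      rw [hεeq u h.symm, map_mul, hbz,
        show (fun i => ac i * b (τc i) * (ac i)⁻¹) = ac * (fun i => b (τc i)) * ac⁻¹ from rfl, map_mul, map_mul,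
        map_inv, hu]
      congr 1
      rw [hc', ← hbz, mul_assoc (P.ev ac) (P.perm τc), P.perm_ev]
      group
  refine hO.fusion hg hx (hO.cent_diag heH hcsΩ (hεcs ▸ hε2) (hεcs ▸ hε1) (hεcs ▸ hεe.symm))

end Pow

end CfsgLib.TensorPowOdd
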