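import Mathlib
import Cfsg.Agent.Lib.TensorPowOdd.Main
import Cfsg.Agent.Lib.TensorOdd.Assemble
import Cfsg.Agent.Lib.TensorWreathMax.Classify

/-!
The stabiliser in `Ω` of a decomposition of an orthogonal space as a tensor power of an orthogonal space of odd
dimension at least three is maximal.
-/

set_option autoImplicit false
set_option linter.unusedSectionVars false

namespace CfsgLib.TensorPowOdd

open Matrix QuadraticMap CfsgLib.Orth CfsgLib.TensorOdd CfsgLib.Maximal.TensorPower
open CfsgLib.Maximal.TensorTools (coord coord_apply conj_reindex_mulVec quadOf)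

variable {F : Type*} [Field F] [Fintype F] {k : ℕ} {q1 : QuadraticForm F (Fin k → F)}

namespace Pow

/-- An overgroup of the monomial elements in `Ω` not containing `Ω` is monomial. -/
theorem rigid : ∀ (t : ℕ) {ι : Type} [Fintype ι] [DecidableEq ι] {q : QuadraticForm F (ι → F)}
    (P : Pow q q1 (t + 2)) (H : Subgroup (O q)), H ≤ commutator (O q) → P.Mon ⊓ commutator (O q) ≤ H →
      ¬ commutator (O q) ≤ H → H ≤ P.Mon := by
  intro t
  induction t with
  | zero =>
    intro ι _ _ q P H hle hG hne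
    exact Over.le_Mon (P := P)
      ⟨hle, hG, hne, fun l η _ => mem_Mon_one P.good1 η, fun h => absurd h (by omega)⟩
  | succ t ih =>
    intro ι _ _ q P H hle hG hne
    have hg := P.good1
    have hk := three_le hg
    have hdich : ∀ L : Subgroup (O (pf q1 (t + 1 + 1))), L ≤ commutator (O (pf q1 (t + 1 + 1))) →
        (std hg (t + 1)).Mon ⊓ commutator (O (pf q1 (t + 1 + 1))) ≤ L →
        L ≤ (std hg (t + 1)).Mon ∨ L = commutator (O (pf q1 (t + 1 + 1))) := fun L h1 h2 => by
      by_cases h : commutator (O (pf q1 (t + 1 + 1))) ≤ L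
      · exact Or.inr (le_antisymm h1 h)
      · exact Or.inl (ih (std hg (t + 1)) L h1 h2 h)
    obtain ⟨u, hu⟩ := exists_frame hg.nd hg.two
    have hk2 : 2 ≤ (Finset.univ : Finset (Fin k)).card := by rw [Finset.card_univ, Fintype.card_fin]; omega
    have hlev : ∀ (l : Fin (t + 1 + 2)) (η : O (pf q1 (t + 1 + 1))), (P.D l).R η ∈ H →
        η ∈ (std hg (t + 1)).Mon := by
      intro l η hη
      let W : Pow (pf q1 (t + 1 + 1)) q1 (t + 2) := std hg (t + 1)
      rcases hdich (H.comap (P.D l).R ⊓ commutator (O (pf q1 (t + 1 + 1)))) inf_le_right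
        (fun x hx => ⟨hG ⟨P.R_mem_Mon l hx.1, (P.D l).R_omega hx.2⟩, hx.2⟩) with h | h
      · obtain ⟨b, -, hb⟩ := W.exists_sl_mem 0 hu hk2 η
        have hbM : W.sl 0 b ∈ W.Mon := W.sl_mem 0 b
        have hbH : (P.D l).R (W.sl 0 b) ∈ H := by
          refine hG ⟨P.R_mem_Mon l hbM, ?_⟩
          have h1 := (P.D l).R_omega hb
          rw [map_mul] at h1
          exact ((commutator (O q)).mul_mem_cancel_left (hle hη)).1 h1
        have := h ⟨show (P.D l).R (η * W.sl 0 b) ∈ H by rw [map_mul]; exact H.mul_mem hη hbH, hb⟩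
        exact (W.Mon.mul_mem_cancel_right hbM).1 this
      exfalso
      have hR : ∀ ω ∈ commutator (O (pf q1 (t + 1 + 1))), (P.D l).R ω ∈ H := fun ω hω =>
        (h.symm ▸ hω : ω ∈ H.comap (P.D l).R ⊓ commutator (O (pf q1 (t + 1 + 1)))).1
      have hTT : (P.D l).TT ⊓ commutator (O q) ≤ H := by
        rintro g ⟨hgT, hgΩ⟩
        obtain ⟨A, B, rfl⟩ := (P.D l).mem_TT.1 hgT
        obtain ⟨b, -, hb⟩ := W.exists_sl_mem 0 hu hk2 B
        have hg' : ((P.D l).R (B * W.sl 0 b))⁻¹ * (P.D l).ten (A, B) ∈ H := by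
          refine hG ⟨?_, (commutator (O q)).mul_mem ((commutator (O q)).inv_mem ((P.D l).R_omega hb)) hgΩ⟩
          have e : ((P.D l).R (B * W.sl 0 b))⁻¹ * (P.D l).ten (A, B) =
              (P.D l).R (W.sl 0 b)⁻¹ * (P.D l).L A := by
            rw [(P.D l).ten_eq, ← map_inv, _root_.mul_inv_rev, map_mul,
              (L_R_comm (P.D l) A B).eq, mul_assoc ((P.D l).R (W.sl 0 b)⁻¹), ← mul_assoc ((P.D l).R B⁻¹),
              ← map_mul, inv_mul_cancel, map_one, one_mul]
          rw [e, P.L_eq_sl]
          exact mul_mem (P.R_mem_Mon l ((std hg (t + 1)).Mon.inv_mem (W.sl_mem 0 b))) (P.sl_mem l A)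
        have := H.mul_mem (hR _ hb) hg'
        rwa [mul_inv_cancel_left] at this
      have hlt : k < k ^ (t + 1 + 1) := by
        calc k = k ^ 1 := (pow_one k).symm
          _ < k ^ (t + 1 + 1) := Nat.pow_lt_pow_right (by omega) (by omega)
      have h7 : 7 ≤ Fintype.card ι := by
        rw [P.card_pow]
        calc 7 ≤ 3 ^ 2 := by norm_num
          _ ≤ k ^ 2 := Nat.pow_le_pow_left hk 2
          _ ≤ k ^ (t + 1 + 2) := Nat.pow_le_pow_right (by omega) (by omega)
      obtain ⟨-, hmax⟩ := (P.D l).maximal hlt (by have := hg.big.symm; simpa using this) h7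
      rcases hmax H hTT hle with hH | hH
      swap
      · exact hne hH.ge
      obtain ⟨n, hn⟩ := _root_.exists_ne l
      obtain ⟨a, -, ha⟩ := P.exists_sl_mem l hu hk2 (P.perm (Equiv.swap l n))
      have hc : P.perm (Equiv.swap l n) * P.sl l a ∈ H :=
        hG ⟨mul_mem (P.perm_mem _) (P.sl_mem _ _), ha⟩
      rw [hH, sl, MonoidHom.comp_apply, P.perm_ev] at hc
      have := P.perm_fix_of_TT (Subgroup.mem_inf.1 hc).1
      rw [Equiv.swap_apply_left] at this
      exact hn this
    exact Over.le_Mon (P := P) ⟨hle, hG, hne, hlev, fun _ => hdich⟩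

variable {ι : Type} [Fintype ι] [DecidableEq ι] {q : QuadraticForm F (ι → F)} {t : ℕ}

/-- Some element of `Ω` is not monomial. -/
theorem exists_not_mon (P : Pow q q1 (t + 2)) : ∃ g ∈ commutator (O q), g ∉ P.Mon := by
  by_contra hno
  push Not at hno
  have hg := P.good1
  obtain ⟨e, f, a, he, -, hef, hea, hfa, ha⟩ := exists_triple hg
  obtain ⟨u, hu⟩ := exists_frame hg.nd hg.two
  have hw := isFrame_pf hg (t + 1) hu
  set w := fun j : Fin (k ^ (t + 1)) => tvR fun i => u ((ix k (t + 1)).symm j i) with hwdef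
  obtain ⟨j0, j1, hj⟩ : ∃ j0 j1 : Fin (k ^ (t + 1)), j0 ≠ j1 :=
    Fintype.exists_pair_of_one_lt_card (by
      have := (P.D 0).three_b; rw [Fintype.card_fin]; omega)
  set D := P.D 0 with hD
  set z := D.tp a (w j0) + D.tp e (w j1) with hz
  have hwo : polar (pf q1 (t + 1)) (w j0) (w j1) = 0 := hw.orth _ _ hj
  have hqa : q (D.tp a (w j0)) ≠ 0 := by
    rw [D.Q_tp]; exact mul_ne_zero (mul_ne_zero P.good.two ha) (hw.nz j0)
  have hqz : q z = q (D.tp a (w j0)) := by
    rw [hz, QuadraticMap.map_add ⇑q, D.polar_tp, D.Q_tp e]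
    show _ + 2 * q1 e * pf q1 (t + 1) (w j1) + polar q1 a e * polar (pf q1 (t + 1)) (w j0) (w j1) = _
    rw [he, hwo]; ring
  obtain ⟨ω, hω, hωa⟩ := exists_omega_map P.good hqa hqz
  obtain ⟨σ, as, rfl⟩ := hno ω hω
  have hpure : ∃ X W, z = D.tp X W := by
    have e1 : D.tp a (w j0) = P.tv ((0 : Fin (t + 2)).insertNth a fun i => u ((ix k (t + 1)).symm j0 i)) :=
      P.tp_tvR _ _ _
    rw [e1, monom_tv, P.tv_split 0] at hωa
    rcases hωa with h | h
    · exact ⟨_, _, h.symm⟩
    · exact ⟨_, -_, by rw [D.tp_neg_right, h, neg_neg]⟩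
  obtain ⟨X, W, hXW⟩ := hpure
  have hp : ∀ x v, polar q z (D.tp x v) = polar q1 X x * polar (pf q1 (t + 1)) W v := fun x v => by
    rw [hXW, D.polar_tp]
  have hz' : ∀ x v, polar q z (D.tp x v) =
      polar q1 a x * polar (pf q1 (t + 1)) (w j0) v + polar q1 e x * polar (pf q1 (t + 1)) (w j1) v := fun x v => by
    rw [hz, polar_add_left, D.polar_tp, D.polar_tp]
  have h00 := hz' f (w j0)
  have h01 := hz' f (w j1)
  have h10 := hz' a (w j0)
  rw [hp] at h00 h01 h10
  have haf : polar q1 a f = 0 := by rw [polar_comm]; exact hfa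
  rw [haf, hef, zero_mul, zero_add, one_mul,
    show polar (pf q1 (t + 1)) (w j1) (w j0) = 0 from hw.orth _ _ hj.symm] at h00
  rw [haf, hef, zero_mul, zero_add, one_mul] at h01
  rw [hea, zero_mul, add_zero] at h10
  have hWj : polar (pf q1 (t + 1)) W (w j0) = 0 := by
    refine (mul_eq_zero.1 h00).resolve_left fun hX => ?_
    rw [hX, zero_mul] at h01
    exact hw.polar_self_ne j1 h01.symm
  rw [hWj, mul_zero] at h10
  exact mul_ne_zero (by rw [polar_self']; exact mul_ne_zero P.good1.two ha) (hw.polar_self_ne j0) h10.symm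

/-- The monomial elements form a maximal subgroup of `Ω`. -/
theorem maximal (P : Pow q q1 (t + 2)) :
    Cfsg.Geo.IsMaximalIn (commutator (O q)) (P.Mon ⊓ commutator (O q)) := by
  obtain ⟨g, hg, hgM⟩ := P.exists_not_mon
  refine ⟨lt_of_le_of_ne inf_le_right fun h => hgM ((Subgroup.mem_inf.1 (h.symm ▸ hg)).1), fun M h1 h2 => ?_⟩
  by_cases hM : commutator (O q) ≤ M
  · exact Or.inr (le_antisymm h2 hM)
  · exact Or.inl (le_antisymm (le_inf (rigid t P M h2 h1 hM) h2) h1)

end Pow

variable {ι : Type} [Fintype ι] [DecidableEq ι]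

/-- A multiple of a quadratic form has the same `Ω`. -/
theorem omegaGL_scale {c : F} (hc : c ≠ 0) (Q : (ι → F) → F) :
    Cfsg.Geo.omegaGL (fun x => c * Q x) = Cfsg.Geo.omegaGL Q := by
  have e : Cfsg.isometryGroup F (fun x => c * Q x) = Cfsg.isometryGroup F Q := by
    ext g
    show (∀ u _v : ι → F, c * Q ((g : Matrix ι ι F) *ᵥ u) = c * Q u) ↔
      ∀ u _v : ι → F, Q ((g : Matrix ι ι F) *ᵥ u) = Q u
    exact ⟨fun h u v => mul_left_cancel₀ hc (h u v), fun h u v => by rw [h u v]⟩
  show (commutator _).map _ = (commutator _).map _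
  rw [Subgroup.map_subtype_commutator, Subgroup.map_subtype_commutator, e]

theorem scale_nondegenerate {c : F} (hc : c ≠ 0) {Q : (ι → F) → F}
    (hQ : Cfsg.Geo.IsNondegenerateQuadraticForm Q) :
    Cfsg.Geo.IsNondegenerateQuadraticForm fun x => c * Q x := by
  have hp : ∀ x y, polar (fun x => c * Q x) x y = c * polar Q x y := fun x y => by simp [polar, mul_sub]
  refine ⟨fun r v => by rw [hQ.smul]; ring, ⟨fun x y v => ?_, fun r x v => ?_, fun v x y => ?_, fun r v x => ?_⟩,
    fun v hv => ?_⟩
  · rw [hp, hp, hp, hQ.polar_bilinear.add_left]; ring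
  · rw [hp, hp, hQ.polar_bilinear.smul_left]; ring
  · rw [hp, hp, hp, hQ.polar_bilinear.add_right]; ring
  · rw [hp, hp, hQ.polar_bilinear.smul_right]; ring
  · obtain ⟨⟨x, hx⟩, y, hy⟩ := hQ.nondegenerate v hv
    exact ⟨⟨x, by rw [hp]; exact mul_ne_zero hc hx⟩, y, by rw [hp]; exact mul_ne_zero hc hy⟩

/-- The stabiliser of a tensor power decomposition is maximal in `Ω`, odd dimensions. -/
theorem isMaximalIn_wreath {k t : ℕ} {Q : (ι → F) → F} (hQ : Cfsg.Geo.IsNondegenerateQuadraticForm Q)
    (h2 : (2 : F) ≠ 0) (hodd : Odd (Fintype.card ι)) (hk : 3 ≤ k) (hbig : 5 ≤ k ∨ 5 ≤ Fintype.card F)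
    (e : ι ≃ (Fin (t + 2) → Fin k)) (P : GL ι F) {f₁ : (Fin k → F) → (Fin k → F) → F}
    (hf₁ : Cfsg.Geo.IsSymmetricForm f₁)
    (hT : Cfsg.Geo.IsTensorPowerFormStructure id (QuadraticMap.polar Q) f₁ e P) :
    Cfsg.Geo.IsMaximalIn (Cfsg.Geo.omegaGL Q)
      (Cfsg.Geo.tensorWreathSubgroup k (t + 2) e P ⊓ Cfsg.Geo.omegaGL Q) := by
  classical
  obtain ⟨c, hc, hform⟩ := hT
  rw [← omegaGL_scale (inv_ne_zero hc) Q]
  have hQ' := scale_nondegenerate (inv_ne_zero hc) hQ
  obtain ⟨q1, hq1, hp1⟩ := exists_quad h2 (one_ne_zero (α := F)) hf₁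
  have hcard : Fintype.card ι = k ^ (t + 2) := by simpa using Fintype.card_congr e
  have hkodd : Odd k := by
    rw [hcard, Nat.odd_pow_iff (by omega)] at hodd
    exact hodd
  have h9 : 9 ≤ Fintype.card ι := by
    rw [hcard]
    calc 9 = 3 ^ 2 := by norm_num
      _ ≤ k ^ 2 := Nat.pow_le_pow_left hk 2
      _ ≤ k ^ (t + 2) := Nat.pow_le_pow_right (by omega) (by omega)
  set W : Pow (quadOf hQ') q1 (t + 2) :=
    { E := coord e P
      polar_E := fun xs ys => by
        show polar (fun x => c⁻¹ * Q x) _ _ = _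
        rw [show polar (fun x => c⁻¹ * Q x) (coord e P (tp xs)) (coord e P (tp ys)) =
          c⁻¹ * polar Q (coord e P (tp xs)) (coord e P (tp ys)) by simp [polar, mul_sub], coord_apply, coord_apply,
          hform]
        simp only [id_eq, bilinear_prod hf₁.bilinear]
        rw [← mul_assoc, inv_mul_cancel₀ hc, one_mul]
        simp [hp1]
      good1 := ⟨hq1, h2, by simpa using hkodd, by simpa using hk, by simpa using hbig⟩
      good := ⟨CfsgLib.GeomClasses.OrthTools.quadOf_nondegenerate hQ', h2,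
        hodd, by omega, Or.inl (by omega)⟩ } with hW
  have hS : (Cfsg.Geo.tensorWreathSubgroup k (t + 2) e P).comap (O (quadOf hQ')).subtype = W.Mon := by
    ext g
    constructor
    · intro hg
      obtain ⟨-, ⟨K, hK, rfl⟩, hgK⟩ := Subgroup.mem_comap.1 hg
      obtain ⟨σ, as, hmon⟩ := isMonomial_of_mem hK
      let φ : Fin (t + 2) → (Fin k → F) →ₗ[F] (Fin k → F) := fun i =>
        Matrix.mulVecLin (as i : Matrix (Fin k) (Fin k) F)
      have hg' : ∀ xs, app g (W.tv xs) = W.tv fun i => φ i (xs (σ i)) := fun xs => by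
        show ((g : GL ι F) : Matrix ι ι F) *ᵥ coord e P (tp xs) = coord e P (tp fun i => φ i (xs (σ i)))
        rw [show (g : GL ι F) = MulAut.conj P (Cfsg.Geo.glReindex e.symm K) from hgK.symm, conj_reindex_mulVec,
          hmon]
        rfl
      have hpol : ∀ xs ys : Fin (t + 2) → Fin k → F,
          ∏ i, polar q1 (φ i (xs (σ i))) (φ i (ys (σ i))) = ∏ i, polar q1 (xs i) (ys i) := fun xs ys => by
        rw [← W.polar_tv, ← hg', ← hg', polar_app, W.polar_tv]
      obtain ⟨u, hu⟩ := exists_anisotropic W.good1.nd (by have := W.good1.three; omega)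
      have hu' : polar q1 u u ≠ 0 := by rw [polar_self']; exact mul_ne_zero h2 hu
      have hsim : ∀ i, ∃ (ν : F) (A : O q1), ν ≠ 0 ∧ ∀ x, φ i x = ν • app A x := by
        intro i
        set C := ∏ j ∈ Finset.univ.erase i, polar q1 (φ j u) (φ j u) with hC
        set C0 := ∏ j ∈ Finset.univ.erase (σ i), polar q1 u u with hC0
        have hkey : ∀ x y, polar q1 (φ i x) (φ i y) * C = polar q1 x y * C0 := fun x y => by
          have h := hpol (Function.update (fun _ => u) (σ i) x) (Function.update (fun _ => u) (σ i) y)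
          rw [← Finset.mul_prod_erase Finset.univ _ (Finset.mem_univ i),
            ← Finset.mul_prod_erase Finset.univ _ (Finset.mem_univ (σ i)), Function.update_self, Function.update_self,
            Finset.prod_congr rfl fun j hj => by
              rw [Function.update_of_ne (σ.injective.ne (Finset.mem_erase.1 hj).1),
                Function.update_of_ne (σ.injective.ne (Finset.mem_erase.1 hj).1)],
            Finset.prod_congr (s₁ := Finset.univ.erase (σ i)) rfl fun j hj => by
              rw [Function.update_of_ne (Finset.mem_erase.1 hj).1, Function.update_of_ne (Finset.mem_erase.1 hj).1]]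
            at h
          exact h
        have hC00 : C0 ≠ 0 := Finset.prod_ne_zero_iff.2 fun j _ => hu'
        have hC1 : C ≠ 0 := fun h0 => by
          have h := hkey u u
          rw [h0, mul_zero] at h
          exact mul_ne_zero hu' hC00 h.symm
        obtain ⟨ν, A, hν, -, hA⟩ := CfsgLib.TensorMax63.similitude W.good1.nd h2 hkodd
          (div_ne_zero hC00 hC1) (φ i) fun x y => by
            field_simp
            linear_combination hkey x y
        exact ⟨ν, A, hν, hA⟩
      choose ν A _ hA using hsim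
      set g0 := W.ev A * W.perm σ with hg0
      have hg0' : ∀ xs, app g (W.tv xs) = (∏ i, ν i) • app g0 (W.tv xs) := fun xs => by
        rw [hg', hg0, Pow.monom_tv]
        show coord e P _ = _ • coord e P _
        rw [← map_smul]
        congr 1
        funext a
        simp [tp, hA, Finset.prod_mul_distrib]
      have hsc : ∀ x, app g x = (∏ i, ν i) • app g0 x := fun x =>
        LinearMap.congr_fun (W.ext_tv (f := app g) (g := (∏ i, ν i) • app g0) hg0') x
      have h1 : (∏ i, ν i) * (∏ i, ν i) = 1 := by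
        obtain ⟨v, hv⟩ := exists_anisotropic W.good.nd (by have := W.good.three; omega)
        have := Q_app g v
        rw [hsc, QuadraticMap.map_smul, Q_app, smul_eq_mul] at this
        exact mul_right_cancel₀ hv (this.trans (one_mul _).symm)
      have hM : g0 ∈ W.Mon := ⟨σ, A, rfl⟩
      rcases mul_self_eq_one_iff.1 h1 with h | h
      · rw [show g = g0 from ext_app fun x => by rw [hsc, h, one_smul]]
        exact hM
      · rw [show g = negId _ * g0 from ext_app fun x => by rw [hsc, h, app_mul (negId _) g0, app_negId, neg_one_smul]]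
        exact mul_mem (W.negId_mem 0) hM
    · rintro ⟨σ, as, rfl⟩
      rw [Subgroup.mem_comap]
      set G : GL ι F := (O (quadOf hQ')).subtype (W.ev as * W.perm σ) with hG
      set K : GL (Fin (t + 2) → Fin k) F :=
        (Cfsg.Geo.glReindex e.symm).symm (MulAut.conj P⁻¹ G) with hK
      have hGK : MulAut.conj P (Cfsg.Geo.glReindex e.symm K) = G := by
        rw [hK, MulEquiv.apply_symm_apply, map_inv, MulAut.inv_apply, MulEquiv.apply_symm_apply]
      refine ⟨_, ⟨K, CfsgLib.TensorWreathMax.mem_standard ⟨σ, fun i => (as i : GL (Fin k) F), fun xs => ?_⟩, rfl⟩,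
        hGK⟩
      apply (coord e P).injective
      rw [← conj_reindex_mulVec, hGK]
      exact W.monom_tv σ as xs
  refine CfsgLib.GeomClasses.OrthPair.maximal_transport hQ' ?_
  rw [hS]
  exact W.maximal

end CfsgLib.TensorPowOdd
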